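import Mathlib
import Cfsg.Agent.Lib.Helper13.SpWeyl

/-! # The (B,N)-pair of `Sp_{2m}(F)`: definitions (helper41, S2545 hive)

* `Bsp F m`  : the Borel subgroup = stabiliser of the standard isotropic flag (helper13, S0774),
  membership `mem_Bsp_iff`: the `(inl,inl)` block is upper triangular and the `(inr,inl)` block is `0`.
* `Nsp F m`  : the monomial matrices of `Sp` (helper13 `IsMono`).
* `Ssp F m`  : the `m` simple reflections: `monoMat σ 1` for `σ` a simple generator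
  (`simpleShort k k'`, `k+1 = k'`, or `simpleLong k`, `k+1 = m`).
* `XS k k'`, `XSm k k'`, `XL k`, `XLm k` : the positive / negative simple root subgroups (as sets). -/

set_option autoImplicit false

namespace Cfsg.Agent.Lib.Helper41.SpBN

open Matrix Cfsg.Agent.Lib.Helper13

/-- `Sp_{2m}(F)` as a type -/
abbrev SpG (F : Type*) [Field F] (m : ℕ) : Type _ := ↥(Matrix.symplecticGroup (Fin m) F)

/-- the index type -/
abbrev Idx (m : ℕ) : Type := Fin m ⊕ Fin m

variable (F : Type*) [Field F] (m : ℕ)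

/-- the Borel subgroup: stabiliser of the flag `⟨e_0⟩ < ⟨e_0,e_1⟩ < ... < ⟨e_0..e_{m-1}⟩` (as in S0774) -/
def Bsp : Subgroup (SpG F m) :=
  ⨅ k : Fin m, Cfsg.stabilizing (Cfsg.spToMat m F)
    {v : Fin m ⊕ Fin m → F | (∀ i : Fin m, (k : ℕ) < (i : ℕ) → v (Sum.inl i) = 0) ∧
      ∀ i : Fin m, v (Sum.inr i) = 0}

variable {F m}

theorem mem_Bsp_iff (g : SpG F m) :
    g ∈ Bsp F m ↔
      (∀ i j : Fin m, (j : ℕ) < (i : ℕ) → g.1 (Sum.inl i) (Sum.inl j) = 0) ∧
      (∀ i j : Fin m, g.1 (Sum.inr i) (Sum.inl j) = 0) :=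
  mem_borel_iff m g

theorem coe_inv_mul_self (g : SpG F m) : (g⁻¹).1 * g.1 = 1 :=
  congrArg Subtype.val (inv_mul_cancel g)

theorem coe_self_mul_inv (g : SpG F m) : g.1 * (g⁻¹).1 = 1 :=
  congrArg Subtype.val (mul_inv_cancel g)

/-- the inverse of a monomial symplectic matrix is monomial -/
theorem isMono_inv (g : SpG F m) {π : Equiv.Perm (Idx m)} {d : Idx m → F} (h : IsMono g.1 π d) :
    IsMono (g⁻¹).1 π.symm (fun s => (d (π.symm s))⁻¹) := by
  have hd : ∀ s, d s ≠ 0 := fun s => h.ne_zero g.2 s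
  apply isMono_of_mulVec_single
  intro s
  have h1 : (Pi.single s 1 : Idx m → F) = g.1 *ᵥ ((d (π.symm s))⁻¹ • Pi.single (π.symm s) 1) := by
    rw [Matrix.mulVec_smul, h.mulVec_single, smul_smul, inv_mul_cancel₀ (hd _), one_smul,
      Equiv.apply_symm_apply]
  nth_rewrite 1 [h1]
  rw [Matrix.mulVec_mulVec, coe_inv_mul_self, Matrix.one_mulVec]

/-- the product of monomial matrices is monomial -/
theorem isMono_mul {g h : Matrix (Idx m) (Idx m) F} {π ρ : Equiv.Perm (Idx m)} {d e : Idx m → F}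
    (hg : IsMono g π d) (hh : IsMono h ρ e) :
    IsMono (g * h) (π * ρ) (fun s => e s * d (ρ s)) := by
  apply isMono_of_mulVec_single
  intro s
  rw [← Matrix.mulVec_mulVec, hh.mulVec_single, Matrix.mulVec_smul, hg.mulVec_single, smul_smul,
    Equiv.Perm.mul_apply]

theorem isMono_one : IsMono (1 : Matrix (Idx m) (Idx m) F) 1 (fun _ => 1) := by
  intro a s
  rw [Matrix.one_apply, Equiv.Perm.one_apply]

variable (F m)

/-- the monomial subgroup `N` of `Sp_{2m}(F)` -/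
def Nsp : Subgroup (SpG F m) where
  carrier := {g | ∃ (π : Equiv.Perm (Idx m)) (d : Idx m → F), IsMono g.1 π d}
  one_mem' := ⟨1, fun _ => 1, isMono_one⟩
  mul_mem' := by
    rintro a b ⟨π, d, ha⟩ ⟨ρ, e, hb⟩
    exact ⟨π * ρ, _, isMono_mul ha hb⟩
  inv_mem' := by
    rintro a ⟨π, d, ha⟩
    exact ⟨π.symm, _, isMono_inv a ha⟩

variable {F m}

theorem mem_Nsp_iff (g : SpG F m) :
    g ∈ Nsp F m ↔ ∃ (π : Equiv.Perm (Idx m)) (d : Idx m → F), IsMono g.1 π d := Iff.rfl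

/-! ## The simple reflections -/

/-- `(e_k e_k')(f_k f_k')` -/
def simpleShort (k k' : Fin m) : Equiv.Perm (Idx m) :=
  Equiv.swap (Sum.inl k) (Sum.inl k') * Equiv.swap (Sum.inr k) (Sum.inr k')

/-- `(e_k f_k)` -/
def simpleLong (k : Fin m) : Equiv.Perm (Idx m) := Equiv.swap (Sum.inl k) (Sum.inr k)

/-- the simple generators of the Weyl group of type `C_m` inside `Perm (Fin m ⊕ Fin m)` -/
def IsSimpleGen (σ : Equiv.Perm (Idx m)) : Prop :=
  (∃ k k' : Fin m, (k : ℕ) + 1 = (k' : ℕ) ∧ σ = simpleShort k k') ∨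
    (∃ k : Fin m, (k : ℕ) + 1 = m ∧ σ = simpleLong k)

variable (F m)

/-- the representatives in `N` of the simple reflections: the matrices `monoMat σ 1` (helper13) -/
def Ssp : Set (SpG F m) :=
  {g | ∃ σ : Equiv.Perm (Idx m), IsSimpleGen σ ∧ g.1 = monoMat σ (1 : Fin m → Fˣ)}

/-! ## The simple root subgroups (as sets) -/

/-- `x_{e_k - e_k'}(t) = 1 + t E_{k,k'} - t E_{k'+m, k+m}` -/
def XS (k k' : Fin m) : Set (SpG F m) :=
  {g | ∃ t : F, g.1 = 1 + t • Matrix.single (Sum.inl k) (Sum.inl k') (1 : F)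
      - t • Matrix.single (Sum.inr k') (Sum.inr k) (1 : F)}

/-- `x_{e_k' - e_k}(t) = 1 + t E_{k',k} - t E_{k+m, k'+m}` -/
def XSm (k k' : Fin m) : Set (SpG F m) :=
  {g | ∃ t : F, g.1 = 1 + t • Matrix.single (Sum.inl k') (Sum.inl k) (1 : F)
      - t • Matrix.single (Sum.inr k) (Sum.inr k') (1 : F)}

/-- `x_{2 e_k}(t) = 1 + t E_{k, k+m}` -/
def XL (k : Fin m) : Set (SpG F m) :=
  {g | ∃ t : F, g.1 = 1 + t • Matrix.single (Sum.inl k) (Sum.inr k) (1 : F)}

/-- `x_{-2 e_k}(t) = 1 + t E_{k+m, k}` -/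
def XLm (k : Fin m) : Set (SpG F m) :=
  {g | ∃ t : F, g.1 = 1 + t • Matrix.single (Sum.inr k) (Sum.inl k) (1 : F)}

end Cfsg.Agent.Lib.Helper41.SpBN
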