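import Mathlib
import Cfsg.Agent.Lib.Helper43.OrthCardMinus
import Cfsg.Agent.Lib.Helper8.Eichler
import Cfsg.Agent.Lib.Helper41.SpBNDefs

/-! # The (B,N)-pair of the full orthogonal group `O^-_{2m+2}(F)`: definitions (helper41, S2549 hive)

The group is `OG F m a b = isometryGroup F ⇑(minusForm m F a b)` (helper8 `minusForm`, `minusForm_coe`),
index type `MIdx m = (Fin m ⊕ Fin m) ⊕ Fin 2`: `e_i = inl (inl i)`, `f_i = inl (inr i)`, `W = inr _`.

* `mat g`    : the matrix of `g`.
* `oord`     : the block order `e_0 < e_1 < ... < e_{m-1} < W < f_{m-1} < ... < f_0`.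
* `Bo`       : the Borel subgroup = block upper triangular isometries (`Matrix.BlockTriangular (oord m)`).
* `IsBMono`, `No` : block monomial isometries: `fromBlocks M 0 0 D` with `M` monomial (helper13 `IsMono`).
* `So`       : the simple reflections: `fromBlocks (permMat σ) 0 0 1`, `σ` a simple generator of helper41 `SpBN`.
* `ve k`, `vf k`, `vw c` : the vectors `e_k`, `f_k`, and `c ∈ W`.
* `XS k k'`, `XL k`, `XLm k` : root subgroups (as sets), given by helper8 Eichler transformations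
  `eichlerLin Q u v : x ↦ x + B(u,x) v - B(v,x) u - Q(v) B(u,x) u`. -/

set_option autoImplicit false

namespace Cfsg.Agent.Lib.Helper41.OmBN

open Matrix Cfsg.Agent.Lib.Helper13 Cfsg.Agent.Lib.Helper8 Cfsg.Agent.Lib.Helper41.SpBN

/-- the index type -/
abbrev MIdx (m : ℕ) : Type := (Fin m ⊕ Fin m) ⊕ Fin 2

/-- the full orthogonal group of minus type -/
abbrev OG (F : Type*) [Field F] (m : ℕ) (a b : F) : Type _ :=
  ↥(Cfsg.isometryGroup F ⇑(minusForm m F a b))

variable {F : Type*} [Field F] {m : ℕ} {a b : F}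

/-- the matrix of an element -/
abbrev mat (g : OG F m a b) : Matrix (MIdx m) (MIdx m) F :=
  ((g : Matrix.GeneralLinearGroup (MIdx m) F) : Matrix (MIdx m) (MIdx m) F)

theorem mat_mul (g h : OG F m a b) : mat (g * h) = mat g * mat h := rfl

theorem mat_one : mat (1 : OG F m a b) = 1 := rfl

theorem mat_inv_mul (g : OG F m a b) : mat g⁻¹ * mat g = 1 := by
  rw [← mat_mul, inv_mul_cancel, mat_one]

theorem mat_mul_inv (g : OG F m a b) : mat g * mat g⁻¹ = 1 := by
  rw [← mat_mul, mul_inv_cancel, mat_one]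

theorem mat_inv (g : OG F m a b) : mat g⁻¹ = (mat g)⁻¹ := by
  show ((↑(g⁻¹ : OG F m a b) : Matrix.GeneralLinearGroup (MIdx m) F) : Matrix (MIdx m) (MIdx m) F) = _
  rw [Subgroup.coe_inv, Matrix.coe_units_inv]

theorem mat_injective : Function.Injective (mat : OG F m a b → Matrix (MIdx m) (MIdx m) F) := by
  intro g h hgh
  exact Subtype.ext (Units.ext hgh)

/-- membership in the isometry group -/
theorem mat_preserves (g : OG F m a b) (x : MIdx m → F) :
    minusForm m F a b (mat g *ᵥ x) = minusForm m F a b x :=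
  g.2 x x

/-- the block order `e_0 < ... < e_{m-1} < W < f_{m-1} < ... < f_0` -/
def oord (m : ℕ) : MIdx m → ℕ
  | Sum.inl (Sum.inl i) => i
  | Sum.inr _ => m
  | Sum.inl (Sum.inr i) => 2 * m - i

@[simp] theorem oord_e (i : Fin m) : oord m (Sum.inl (Sum.inl i)) = i := rfl
@[simp] theorem oord_w (j : Fin 2) : oord m (Sum.inr j) = m := rfl
@[simp] theorem oord_f (i : Fin m) : oord m (Sum.inl (Sum.inr i)) = 2 * m - i := rfl

variable (F m a b)

/-- the Borel subgroup: block upper triangular isometries -/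
def Bo : Subgroup (OG F m a b) where
  carrier := {g | (mat g).BlockTriangular (oord m)}
  one_mem' := by
    show (mat (1 : OG F m a b)).BlockTriangular (oord m)
    rw [mat_one]
    exact Matrix.blockTriangular_one
  mul_mem' := by
    intro g h hg hh
    show (mat (g * h)).BlockTriangular (oord m)
    rw [mat_mul]
    exact Matrix.BlockTriangular.mul hg hh
  inv_mem' := by
    intro g hg
    show (mat g⁻¹).BlockTriangular (oord m)
    rw [mat_inv]
    have : Invertible (mat g) := (g : Matrix.GeneralLinearGroup (MIdx m) F).invertible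
    exact Matrix.blockTriangular_inv_of_blockTriangular hg

variable {F m a b}

theorem mem_Bo_iff (g : OG F m a b) :
    g ∈ Bo F m a b ↔ ∀ i j : MIdx m, oord m j < oord m i → mat g i j = 0 :=
  ⟨fun h _ _ hij => h hij, fun h _ _ hij => h _ _ hij⟩

/-- block monomial matrices: `fromBlocks M 0 0 D` with `M` monomial with permutation `π`, coefficients `d` -/
def IsBMono (M : Matrix (MIdx m) (MIdx m) F) (π : Equiv.Perm (Idx m)) (d : Idx m → F) : Prop :=
  IsMono M.toBlocks₁₁ π d ∧ M.toBlocks₁₂ = 0 ∧ M.toBlocks₂₁ = 0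

theorem IsBMono.eq_fromBlocks {M : Matrix (MIdx m) (MIdx m) F} {π : Equiv.Perm (Idx m)}
    {d : Idx m → F} (h : IsBMono M π d) : M = Matrix.fromBlocks M.toBlocks₁₁ 0 0 M.toBlocks₂₂ := by
  conv_lhs => rw [← Matrix.fromBlocks_toBlocks M, h.2.1, h.2.2]

theorem isBMono_one : IsBMono (1 : Matrix (MIdx m) (MIdx m) F) 1 (fun _ => 1) := by
  refine ⟨?_, ?_, ?_⟩
  · rw [Matrix.toBlocks₁₁]
    intro s t
    by_cases h : s = t
    · simp [Matrix.one_apply, h]
    · simp [Matrix.one_apply, h]
  · ext s j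
    simp [Matrix.toBlocks₁₂]
  · ext j s
    simp [Matrix.toBlocks₂₁]

theorem isBMono_mul {M M' : Matrix (MIdx m) (MIdx m) F} {π ρ : Equiv.Perm (Idx m)}
    {d e : Idx m → F} (h : IsBMono M π d) (h' : IsBMono M' ρ e) :
    IsBMono (M * M') (π * ρ) (fun s => e s * d (ρ s)) := by
  rw [h.eq_fromBlocks, h'.eq_fromBlocks, Matrix.fromBlocks_multiply]
  simp only [Matrix.mul_zero, Matrix.zero_mul, add_zero, zero_add]
  refine ⟨?_, ?_, ?_⟩
  · rw [Matrix.toBlocks_fromBlocks₁₁]
    exact isMono_mul h.1 h'.1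
  · rw [Matrix.toBlocks_fromBlocks₁₂]
  · rw [Matrix.toBlocks_fromBlocks₂₁]

/-- the inverse of a block monomial invertible matrix is block monomial -/
theorem isBMono_inv {M Mi : Matrix (MIdx m) (MIdx m) F} (h1 : Mi * M = 1) (h2 : M * Mi = 1)
    {π : Equiv.Perm (Idx m)} {d : Idx m → F} (h : IsBMono M π d) :
    IsBMono Mi π.symm (fun s => (d (π.symm s))⁻¹) := by
  have hM := h.eq_fromBlocks
  have hMi := (Matrix.fromBlocks_toBlocks Mi).symm
  set A := M.toBlocks₁₁ with hA
  set D := M.toBlocks₂₂ with hD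
  set X := Mi.toBlocks₁₁ with hX
  set Y := Mi.toBlocks₁₂ with hY
  set Z := Mi.toBlocks₂₁ with hZ
  set W := Mi.toBlocks₂₂ with hW
  rw [hM, hMi, Matrix.fromBlocks_multiply, ← Matrix.fromBlocks_one, Matrix.fromBlocks_inj] at h1 h2
  simp only [Matrix.mul_zero, Matrix.zero_mul, add_zero, zero_add] at h1 h2
  obtain ⟨hXA, hYD, hZA, hWD⟩ := h1
  obtain ⟨hAX, hAY, hDZ, hDW⟩ := h2
  have hY0 : Y = 0 := by
    have : Y = X * (A * Y) := by rw [← Matrix.mul_assoc, hXA, Matrix.one_mul]
    rw [this, hAY, Matrix.mul_zero]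
  have hZ0 : Z = 0 := by
    have : Z = W * (D * Z) := by rw [← Matrix.mul_assoc, hWD, Matrix.one_mul]
    rw [this, hDZ, Matrix.mul_zero]
  refine ⟨?_, hY0, hZ0⟩
  have hAm : IsMono A π d := h.1
  apply isMono_of_mulVec_single
  intro s
  have hAs : A *ᵥ Pi.single (π.symm s) 1 = d (π.symm s) • Pi.single s 1 := by
    rw [hAm.mulVec_single, Equiv.apply_symm_apply]
  have hd : d (π.symm s) ≠ 0 := by
    intro h0
    rw [h0, zero_smul] at hAs
    have : X *ᵥ (A *ᵥ Pi.single (π.symm s) 1) = Pi.single (π.symm s) (1 : F) := by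
      rw [Matrix.mulVec_mulVec, hXA, Matrix.one_mulVec]
    rw [hAs, Matrix.mulVec_zero] at this
    have h3 := congrFun this (π.symm s)
    rw [Pi.single_eq_same, Pi.zero_apply] at h3
    exact one_ne_zero h3.symm
  have h4 : (Pi.single s 1 : Idx m → F) = A *ᵥ ((d (π.symm s))⁻¹ • Pi.single (π.symm s) 1) := by
    rw [Matrix.mulVec_smul, hAs, smul_smul, inv_mul_cancel₀ hd, one_smul]
  nth_rewrite 1 [h4]
  rw [Matrix.mulVec_mulVec, hXA, Matrix.one_mulVec]

variable (F m a b)

/-- the block monomial subgroup `N` of `O^-_{2m+2}(F)` -/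
def No : Subgroup (OG F m a b) where
  carrier := {g | ∃ (π : Equiv.Perm (Idx m)) (d : Idx m → F), IsBMono (mat g) π d}
  one_mem' := ⟨1, fun _ => 1, isBMono_one⟩
  mul_mem' := by
    rintro g h ⟨π, d, hg⟩ ⟨ρ, e, hh⟩
    exact ⟨π * ρ, _, isBMono_mul hg hh⟩
  inv_mem' := by
    rintro g ⟨π, d, hg⟩
    exact ⟨π.symm, _, isBMono_inv (mat_inv_mul g) (mat_mul_inv g) hg⟩

variable {F m a b}

theorem mem_No_iff (g : OG F m a b) :
    g ∈ No F m a b ↔ ∃ (π : Equiv.Perm (Idx m)) (d : Idx m → F), IsBMono (mat g) π d := Iff.rfl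

/-! ## The simple reflections -/

/-- the permutation matrix of `σ` (it maps `δ_t` to `δ_{σ t}`) -/
def permMat (σ : Equiv.Perm (Idx m)) : Matrix (Idx m) (Idx m) F :=
  Matrix.of fun s t => if s = σ t then 1 else 0

theorem permMat_isMono (σ : Equiv.Perm (Idx m)) :
    IsMono (permMat σ : Matrix (Idx m) (Idx m) F) σ (fun _ => 1) := fun _ _ => rfl

/-- the block matrix `permMat σ ⊕ 1_W` -/
def permBlock (σ : Equiv.Perm (Idx m)) : Matrix (MIdx m) (MIdx m) F :=
  Matrix.fromBlocks (permMat σ) 0 0 1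

theorem permBlock_isBMono (σ : Equiv.Perm (Idx m)) :
    IsBMono (permBlock σ : Matrix (MIdx m) (MIdx m) F) σ (fun _ => 1) := by
  refine ⟨?_, ?_, ?_⟩
  · rw [permBlock, Matrix.toBlocks_fromBlocks₁₁]
    exact permMat_isMono σ
  · rw [permBlock, Matrix.toBlocks_fromBlocks₁₂]
  · rw [permBlock, Matrix.toBlocks_fromBlocks₂₁]

variable (F m a b)

/-- the representatives in `N` of the simple reflections: plain permutation matrices (identity on `W`) of the
simple generators of helper41 `SpBN` (`simpleShort k k'`, `k+1 = k'`; `simpleLong k`, `k+1 = m`) -/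
def So : Set (OG F m a b) :=
  {g | ∃ σ : Equiv.Perm (Idx m), IsSimpleGen σ ∧ mat g = permBlock σ}

/-! ## Vectors and root subgroups -/

variable {m}

/-- `e_k` -/
def ve (k : Fin m) : MIdx m → F := Pi.single (Sum.inl (Sum.inl k)) 1

/-- `f_k` -/
def vf (k : Fin m) : MIdx m → F := Pi.single (Sum.inl (Sum.inr k)) 1

/-- the vector `c ∈ W` -/
def vw (m : ℕ) (c : Fin 2 → F) : MIdx m → F := Sum.elim 0 c

variable (m)

/-- `g` acts as the Eichler transformation `E(u,v) : x ↦ x + B(u,x) v - B(v,x) u - Q(v) B(u,x) u` -/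
def ActsAs (g : OG F m a b) (u v : MIdx m → F) : Prop :=
  ∀ x : MIdx m → F, mat g *ᵥ x = eichlerLin (minusForm m F a b) u v x

/-- the root subgroup of `e_k - e_k'`: the `E(e_k, t f_k')`, which map `e_k' ↦ e_k' - t e_k`, `f_k ↦ f_k + t f_k'` -/
def XS (k k' : Fin m) : Set (OG F m a b) := {g | ∃ t : F, ActsAs F m a b g (ve F k) (t • vf F k')}

/-- the root subgroup of the short root `e_k`: the `E(e_k, c)`, `c ∈ W` (two parameters) -/
def XL (k : Fin m) : Set (OG F m a b) := {g | ∃ c : Fin 2 → F, ActsAs F m a b g (ve F k) (vw F m c)}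

/-- the root subgroup of `-e_k`: the `E(f_k, c)`, `c ∈ W` -/
def XLm (k : Fin m) : Set (OG F m a b) := {g | ∃ c : Fin 2 → F, ActsAs F m a b g (vf F k) (vw F m c)}

/-! ## Anisotropy, non-degeneracy, existence of Eichler transformations -/

open Cfsg.Agent.Lib.Helper43 in
section
variable {F : Type*} [Field F] {m : ℕ} {a b : F}

/-- the anisotropy hypothesis of S2549 -/
def Aniso (a b : F) : Prop := ∀ z₁ z₂ : F, z₁ ^ 2 + a * z₁ * z₂ + b * z₂ ^ 2 = 0 → z₁ = 0 ∧ z₂ = 0

/-- `Q` is non-degenerate -/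
theorem nondeg [Fintype F] (hab : Aniso a b) :
    (QuadraticMap.polarBilin (minusForm m F a b)).Nondegenerate :=
  (minus_family m F a b).nondegenerate (minusForm_zero_nondegenerate F a b hab)

/-- Eichler transformations exist (helper8 `eichlerElt`) -/
theorem eichler_exists [Fintype F] (hab : Aniso a b) (u v : MIdx m → F)
    (hu : minusForm m F a b u = 0) (huv : QuadraticMap.polar (⇑(minusForm m F a b)) u v = 0) :
    ∃ g : OG F m a b, ActsAs F m a b g u v :=
  ⟨eichlerElt (minusForm m F a b) (nondeg hab) u v hu huv, fun x => by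
    rw [eichlerElt_mulVec, eichlerLin_apply]⟩

theorem actsAs_eichlerElt [Fintype F] (hab : Aniso a b) (u v : MIdx m → F)
    (hu : minusForm m F a b u = 0) (huv : QuadraticMap.polar (⇑(minusForm m F a b)) u v = 0) :
    ActsAs F m a b (eichlerElt (minusForm m F a b) (nondeg hab) u v hu huv) u v := fun x => by
  rw [eichlerElt_mulVec, eichlerLin_apply]

/-- an element is determined by its action -/
theorem ActsAs.unique {g g' : OG F m a b} {u v : MIdx m → F} (h : ActsAs F m a b g u v)
    (h' : ActsAs F m a b g' u v) : g = g' :=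
  iso_ext (minusForm m F a b) g g' (fun x => by rw [h x, h' x])

theorem ActsAs.eq_eichlerElt [Fintype F] (hab : Aniso a b) {g : OG F m a b} {u v : MIdx m → F}
    (h : ActsAs F m a b g u v)
    (hu : minusForm m F a b u = 0) (huv : QuadraticMap.polar (⇑(minusForm m F a b)) u v = 0) :
    g = eichlerElt (minusForm m F a b) (nondeg hab) u v hu huv :=
  h.unique (actsAs_eichlerElt hab u v hu huv)

end

end Cfsg.Agent.Lib.Helper41.OmBN
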