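import Mathlib

/-! # A root-subgroup criterion for the double-coset axiom of a (B,N)-pair (helper41)

`s B n ⊆ B s n B ∪ B n B` follows from: a factorisation `B = (B ∩ s⁻¹ B s) X`, the rank one identity
`s x ∈ B Xm` for `1 ≠ x ∈ X`, and the fact that `n` conjugates `X` or `Xm` into `B`.
`X`, `Xm` are arbitrary sets (the positive and the negative root subgroup of `s`). -/

set_option autoImplicit false

namespace Cfsg.Agent.Lib.Helper41.SpBN

theorem bn_crit {G : Type*} [Group G] (B : Subgroup G) (s n : G) (X Xm : Set G)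
    (hfac : ∀ b ∈ B, ∃ b' ∈ B, ∃ x ∈ X, b = b' * x ∧ s * b' * s⁻¹ ∈ B)
    (hrk1 : ∀ x ∈ X, x = 1 ∨ ∃ c ∈ B, ∃ y ∈ Xm, s * x = c * y)
    (hN : (∀ x ∈ X, n⁻¹ * x * n ∈ B) ∨ (∀ y ∈ Xm, n⁻¹ * y * n ∈ B)) :
    ∀ b ∈ B, s * b * n ∈
      DoubleCoset.doubleCoset (s * n) (B : Set G) B ∪ DoubleCoset.doubleCoset n (B : Set G) B := by
  intro b hb
  obtain ⟨b', hb', x, hx, rfl, hsb⟩ := hfac b hb
  rcases hN with h1 | h2
  · left
    rw [DoubleCoset.mem_doubleCoset]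
    refine ⟨s * b' * s⁻¹, hsb, n⁻¹ * x * n, h1 x hx, ?_⟩
    group
  · rcases hrk1 x hx with rfl | ⟨c, hc, y, hy, hsx⟩
    · left
      rw [DoubleCoset.mem_doubleCoset]
      refine ⟨s * b' * s⁻¹, hsb, 1, B.one_mem, ?_⟩
      group
    · right
      rw [DoubleCoset.mem_doubleCoset]
      refine ⟨s * b' * s⁻¹ * c, B.mul_mem hsb hc, n⁻¹ * y * n, h2 y hy, ?_⟩
      have e : s * (b' * x) * n = s * b' * s⁻¹ * (s * x) * n := by group
      rw [e, hsx]
      group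

end Cfsg.Agent.Lib.Helper41.SpBN
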