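import Mathlib
import Cfsg.Agent.Lib.Helper22.CgDefs

/-!
# Ps hive (S4321): prime graph on class sizes of `p`-singular elements, diameter at most 3.
Definitions.  `cs g` is helper22's abbrev for `(centralizer {g}).index`.
-/

set_option autoImplicit false

namespace Cfsg.Agent.Lib.Helper41.Ps

open Subgroup
open Cfsg.Agent.Lib.Helper22.Cg

/-- `t` is a vertex: a prime dividing the class size of some `p`-singular element. -/
def PV (G : Type*) [Group G] (p t : ℕ) : Prop :=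
  t.Prime ∧ ∃ x : G, p ∣ orderOf x ∧ t ∣ cs x

/-- adjacency through a `p`-singular class -/
def PAdj (G : Type*) [Group G] (p a b : ℕ) : Prop :=
  ∃ x : G, p ∣ orderOf x ∧ a * b ∣ cs x

/-- the conclusion of S4321 for the pair `r`, `s` -/
def Goal (G : Type*) [Group G] (p r s : ℕ) : Prop :=
  PAdj G p r s ∨
  (∃ t : ℕ, PV G p t ∧ t ≠ r ∧ t ≠ s ∧ PAdj G p r t ∧ PAdj G p t s) ∨
  (∃ t u : ℕ, PV G p t ∧ PV G p u ∧ t ≠ r ∧ u ≠ s ∧ t ≠ u ∧ PAdj G p r t ∧ PAdj G p t u ∧
    PAdj G p u s)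

end Cfsg.Agent.Lib.Helper41.Ps
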