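import Mathlib

set_option autoImplicit false

namespace Cfsg.Agent.Lib.Helper41

/-- Burnside's count: the centraliser orders sum to `k(G) |G|`. -/
theorem sum_card_centralizer_eq {G : Type*} [Group G] [Fintype G] :
    ∑ g : G, Nat.card (Subgroup.centralizer ({g} : Set G)) =
      Nat.card (ConjClasses G) * Nat.card G := by
  classical
  rw [← card_comm_eq_card_conjClasses_mul_card]
  rw [Nat.card_congr (Equiv.subtypeProdEquivSigmaSubtype (fun a b : G => Commute a b)),
    Nat.card_sigma]
  apply Finset.sum_congr rfl
  intro g _
  apply Nat.card_congr
  refine Equiv.subtypeEquivRight ?_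
  intro h
  rw [Subgroup.mem_centralizer_singleton_iff]
  exact ⟨fun h1 => h1.symm, fun h1 => h1.symm⟩

/-- Class number of a dicyclic-like group: an abelian subgroup `T` of index two and order `2m`,
self-centralising away from the central involution `z`, inverted by the elements outside. -/
theorem card_conjClasses_dicyclic {G : Type*} [Group G] [Finite G] (T : Subgroup G) (z : G)
    (m : ℕ) (hidx : T.index = 2) (hT : Nat.card T = 2 * m)
    (hzT : z ∈ T) (hz1 : z ≠ 1) (hzc : ∀ g : G, g * z = z * g)
    (hTcomm : ∀ s ∈ T, ∀ t ∈ T, s * t = t * s)
    (hcent : ∀ t ∈ T, t ≠ 1 → t ≠ z → ∀ h : G, h * t = t * h → h ∈ T)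
    (hinv : ∀ g : G, g ∉ T → ∀ t ∈ T, g * t * g⁻¹ = t⁻¹)
    (hinvol : ∀ t ∈ T, t * t = 1 → t = 1 ∨ t = z) :
    Nat.card (ConjClasses G) = m + 3 := by
  classical
  have : Fintype G := Fintype.ofFinite G
  have hG : Nat.card G = 4 * m := by
    rw [← T.card_mul_index, hT, hidx]; ring
  -- centraliser orders
  have hf : ∀ g : G, Nat.card (Subgroup.centralizer ({g} : Set G)) =
      (if g ∈ T then 2 * m else 4) + (if g = 1 ∨ g = z then 2 * m else 0) := by
    intro g
    by_cases hgT : g ∈ T
    · rw [if_pos hgT]
      by_cases hg : g = 1 ∨ g = z
      · rw [if_pos hg]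
        have : Subgroup.centralizer ({g} : Set G) = ⊤ := by
          rw [eq_top_iff]
          intro h _
          rw [Subgroup.mem_centralizer_singleton_iff]
          rcases hg with rfl | rfl
          · simp
          · exact hzc h
        rw [this, Subgroup.card_top, hG]; ring
      · rw [if_neg hg, add_zero]
        rw [not_or] at hg
        have : Subgroup.centralizer ({g} : Set G) = T := by
          ext h
          rw [Subgroup.mem_centralizer_singleton_iff]
          constructor
          · intro hh
            exact hcent g hgT hg.1 hg.2 h hh
          · intro hh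
            exact hTcomm h hh g hgT
        rw [this, hT]
    · rw [if_neg hgT]
      have hg : ¬ (g = 1 ∨ g = z) := by
        rintro (rfl | rfl)
        · exact hgT T.one_mem
        · exact hgT hzT
      rw [if_neg hg, add_zero]
      have hset : ((Subgroup.centralizer ({g} : Set G) : Subgroup G) : Set G) =
          ({1, z, g, g * z} : Finset G) := by
        ext h
        simp only [SetLike.mem_coe, Finset.coe_insert, Finset.coe_singleton, Set.mem_insert_iff,
          Set.mem_singleton_iff]
        rw [Subgroup.mem_centralizer_singleton_iff]
        constructor
        · intro hh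
          by_cases hhT : h ∈ T
          · have h1 := hinv g hgT h hhT
            have h2 : h⁻¹ = h := by
              rw [← h1, ← hh]; group
            have h3 : h * h = 1 := by
              nth_rewrite 1 [← h2]; exact inv_mul_cancel h
            rcases hinvol h hhT h3 with rfl | rfl
            · left; rfl
            · right; left; rfl
          · have hmem : g⁻¹ * h ∈ T := by
              rw [Subgroup.mul_mem_iff_of_index_two hidx]
              constructor
              · intro hg'; exact absurd (by simpa using T.inv_mem hg') hgT
              · intro hh'; exact absurd hh' hhT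
            have h1 := hinv g hgT _ hmem
            have hcomm : g * (g⁻¹ * h) * g⁻¹ = g⁻¹ * h := by
              calc g * (g⁻¹ * h) * g⁻¹ = h * g⁻¹ := by group
                _ = g⁻¹ * (g * h) * g⁻¹ := by group
                _ = g⁻¹ * (h * g) * g⁻¹ := by rw [hh]
                _ = g⁻¹ * h := by group
            have h2 : (g⁻¹ * h)⁻¹ = g⁻¹ * h := by rw [← h1, hcomm]
            have h3 : (g⁻¹ * h) * (g⁻¹ * h) = 1 := by
              nth_rewrite 1 [← h2]; exact inv_mul_cancel _
            rcases hinvol _ hmem h3 with h4 | h4
            · right; right; left
              have : h = g * (g⁻¹ * h) := by group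
              rw [this, h4, mul_one]
            · right; right; right
              have : h = g * (g⁻¹ * h) := by group
              rw [this, h4]
        · rintro (rfl | rfl | rfl | rfl)
          · simp
          · exact (hzc g).symm
          · rfl
          · rw [mul_assoc, ← hzc g]
      have hcard : ({1, z, g, g * z} : Finset G).card = 4 := by
        have h1z : (1 : G) ≠ z := fun h => hz1 h.symm
        have h1g : (1 : G) ≠ g := fun h => hgT (h ▸ T.one_mem)
        have hzg : z ≠ g := fun h => hgT (h ▸ hzT)
        have h1gz : (1 : G) ≠ g * z := by
          intro h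
          apply hgT
          have : g = z⁻¹ := eq_inv_of_mul_eq_one_left h.symm
          rw [this]; exact T.inv_mem hzT
        have hzgz : z ≠ g * z := by
          intro h
          apply hgT
          have : g = 1 := by
            have := mul_right_cancel (a := 1) (b := z) (c := g) (by rw [one_mul]; exact h)
            exact this.symm
          rw [this]; exact T.one_mem
        have hggz : g ≠ g * z := by
          intro h
          apply hz1
          have := mul_left_cancel (a := g) (b := 1) (c := z) (by rw [mul_one]; exact h)
          exact this.symm
        rw [Finset.card_insert_of_notMem, Finset.card_insert_of_notMem,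
          Finset.card_insert_of_notMem, Finset.card_singleton]
        · simp only [Finset.mem_singleton]; exact hggz
        · simp only [Finset.mem_insert, Finset.mem_singleton, not_or]; exact ⟨hzg, hzgz⟩
        · simp only [Finset.mem_insert, Finset.mem_singleton, not_or]; exact ⟨h1z, h1g, h1gz⟩
      have : Nat.card (Subgroup.centralizer ({g} : Set G)) =
          (((Subgroup.centralizer ({g} : Set G) : Subgroup G) : Set G)).ncard :=
        Nat.card_coe_set_eq _
      rw [this, hset, Set.ncard_coe_finset, hcard]
  have hsum := sum_card_centralizer_eq (G := G)
  simp only [hf] at hsum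
  rw [Finset.sum_add_distrib, Finset.sum_ite, Finset.sum_ite, Finset.sum_const, Finset.sum_const,
    Finset.sum_const, Finset.sum_const, smul_eq_mul, smul_eq_mul, smul_eq_mul, smul_eq_mul] at hsum
  have hc1 : (Finset.univ.filter (fun g : G => g ∈ T)).card = 2 * m := by
    rw [← hT, Nat.card_eq_fintype_card, Fintype.card_subtype]
  have hc2 : (Finset.univ.filter (fun g : G => ¬ g ∈ T)).card = 2 * m := by
    have := Finset.card_filter_add_card_filter_not (s := (Finset.univ : Finset G)) (fun g : G => g ∈ T)
    rw [hc1, Finset.card_univ, ← Nat.card_eq_fintype_card, hG] at this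
    omega
  have hc3 : (Finset.univ.filter (fun g : G => g = 1 ∨ g = z)).card = 2 := by
    have : (Finset.univ.filter (fun g : G => g = 1 ∨ g = z)) = {1, z} := by
      ext g; simp
    rw [this, Finset.card_pair (fun h => hz1 h.symm)]
  rw [hc1, hc2, hc3, hG] at hsum
  have hm : 1 ≤ m := by
    by_contra h
    have hm0 : m = 0 := by omega
    rw [hm0] at hT
    have := Nat.card_pos (α := T)
    omega
  have : Nat.card (ConjClasses G) * (4 * m) = (m + 3) * (4 * m) := by
    rw [← hsum]; ring
  exact Nat.eq_of_mul_eq_mul_right (by omega) this

end Cfsg.Agent.Lib.Helper41
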