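import Mathlib

set_option autoImplicit false
set_option linter.unusedSimpArgs false
set_option linter.unusedVariables false

namespace Cfsg.Agent.Lib.Helper41

open Matrix

section Basic

variable {F : Type*} [Field F]

local notation "SLF" => Matrix.SpecialLinearGroup (Fin 2) F
local notation "PSLF" => Matrix.ProjectiveSpecialLinearGroup (Fin 2) F

/-- Cayley-Hamilton for `2 × 2` matrices of determinant one. -/
theorem mat2_sq_eq {R : Type*} [CommRing R] (M : Matrix (Fin 2) (Fin 2) R) (hdet : M.det = 1) :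
    M * M = M.trace • M - 1 := by
  rw [Matrix.det_fin_two] at hdet
  ext i j
  fin_cases i <;> fin_cases j <;>
    simp [Matrix.mul_apply, Fin.sum_univ_two, Matrix.trace] <;>
    first | linear_combination hdet | linear_combination (-1 : R) * hdet | ring

/-- The determinant relation of an element of `SL₂`. -/
theorem sl2_det (A : SLF) : A 0 0 * A 1 1 - A 0 1 * A 1 0 = 1 := by
  have := A.det_coe
  rwa [Matrix.det_fin_two] at this

/-- Membership in the centre of `SL₂`, entrywise. -/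
theorem sl2_mem_center_iff (A : SLF) :
    A ∈ Subgroup.center (SLF) ↔
      A 0 1 = 0 ∧ A 1 0 = 0 ∧ A 0 0 = A 1 1 := by
  rw [Matrix.SpecialLinearGroup.mem_center_iff]
  constructor
  · rintro ⟨r, -, hr⟩
    have h01 := congrFun (congrFun hr 0) 1
    have h10 := congrFun (congrFun hr 1) 0
    have h00 := congrFun (congrFun hr 0) 0
    have h11 := congrFun (congrFun hr 1) 1
    simp at h01 h10 h00 h11
    exact ⟨h01.symm, h10.symm, by rw [← h00, ← h11]⟩
  · rintro ⟨h01, h10, h00⟩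
    have hdet := sl2_det A
    refine ⟨A 0 0, ?_, ?_⟩
    · rw [h01, ← h00] at hdet
      simp only [Fintype.card_fin]
      linear_combination hdet
    · ext i j
      fin_cases i <;> fin_cases j <;> simp [h01, h10, h00]

theorem psl2_mk_eq_one_iff (A : SLF) :
    (A : PSLF) = 1 ↔
      A 0 1 = 0 ∧ A 1 0 = 0 ∧ A 0 0 = A 1 1 := by
  rw [QuotientGroup.eq_one_iff, sl2_mem_center_iff]

/-- Explicit element of `SL₂`. -/
def mkSL2 (a b c d : F) (h : a * d - b * c = 1) : SLF :=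
  ⟨!![a, b; c, d], by rw [Matrix.det_fin_two_of, h]⟩

@[simp] theorem mkSL2_00 (a b c d : F) (h : a * d - b * c = 1) : mkSL2 a b c d h 0 0 = a := rfl
@[simp] theorem mkSL2_01 (a b c d : F) (h : a * d - b * c = 1) : mkSL2 a b c d h 0 1 = b := rfl
@[simp] theorem mkSL2_10 (a b c d : F) (h : a * d - b * c = 1) : mkSL2 a b c d h 1 0 = c := rfl
@[simp] theorem mkSL2_11 (a b c d : F) (h : a * d - b * c = 1) : mkSL2 a b c d h 1 1 = d := rfl

theorem sl2_ext {A B : SLF} (h00 : A 0 0 = B 0 0) (h01 : A 0 1 = B 0 1)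
    (h10 : A 1 0 = B 1 0) (h11 : A 1 1 = B 1 1) : A = B := by
  ext i j
  fin_cases i <;> fin_cases j <;> assumption

theorem sl2_mul_00 (A B : SLF) :
    (A * B) 0 0 = A 0 0 * B 0 0 + A 0 1 * B 1 0 := by
  simp [Matrix.mul_apply, Fin.sum_univ_two]
theorem sl2_mul_01 (A B : SLF) :
    (A * B) 0 1 = A 0 0 * B 0 1 + A 0 1 * B 1 1 := by
  simp [Matrix.mul_apply, Fin.sum_univ_two]
theorem sl2_mul_10 (A B : SLF) :
    (A * B) 1 0 = A 1 0 * B 0 0 + A 1 1 * B 1 0 := by
  simp [Matrix.mul_apply, Fin.sum_univ_two]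
theorem sl2_mul_11 (A B : SLF) :
    (A * B) 1 1 = A 1 0 * B 0 1 + A 1 1 * B 1 1 := by
  simp [Matrix.mul_apply, Fin.sum_univ_two]

theorem sl2_inv_00 (A : SLF) : (A⁻¹) 0 0 = A 1 1 := by
  simp [Matrix.adjugate_fin_two]
theorem sl2_inv_01 (A : SLF) : (A⁻¹) 0 1 = - A 0 1 := by
  simp [Matrix.adjugate_fin_two]
theorem sl2_inv_10 (A : SLF) : (A⁻¹) 1 0 = - A 1 0 := by
  simp [Matrix.adjugate_fin_two]
theorem sl2_inv_11 (A : SLF) : (A⁻¹) 1 1 = A 0 0 := by
  simp [Matrix.adjugate_fin_two]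

/-- The trace of an element of `SL₂`. -/
def tr2 (A : SLF) : F := A 0 0 + A 1 1

theorem tr2_eq_trace (A : SLF) :
    tr2 A = (A : Matrix (Fin 2) (Fin 2) F).trace := by
  simp [tr2, Matrix.trace, Fin.sum_univ_two]

theorem tr2_conj (W A : SLF) : tr2 (W * A * W⁻¹) = tr2 A := by
  have hW := sl2_det W
  simp only [tr2, sl2_mul_00, sl2_mul_01, sl2_mul_10, sl2_mul_11, sl2_inv_00, sl2_inv_01,
    sl2_inv_10, sl2_inv_11]
  linear_combination (A 0 0 + A 1 1) * hW

/-- Elements of the centre are `± 1`. -/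
theorem sl2_center_cases {Z : SLF}
    (hZ : Z ∈ Subgroup.center (SLF)) :
    (Z 0 0 = 1 ∧ Z 0 1 = 0 ∧ Z 1 0 = 0 ∧ Z 1 1 = 1) ∨
      (Z 0 0 = -1 ∧ Z 0 1 = 0 ∧ Z 1 0 = 0 ∧ Z 1 1 = -1) := by
  obtain ⟨h01, h10, h00⟩ := (sl2_mem_center_iff Z).mp hZ
  have hdet := sl2_det Z
  rw [h01, ← h00] at hdet
  have h0 : (Z 0 0 - 1) * (Z 0 0 + 1) = 0 := by linear_combination hdet
  rcases mul_eq_zero.mp h0 with h | h
  · left
    have : Z 0 0 = 1 := by linear_combination h
    exact ⟨this, h01, h10, by rw [← h00, this]⟩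
  · right
    have : Z 0 0 = -1 := by linear_combination h
    exact ⟨this, h01, h10, by rw [← h00, this]⟩

/-- Conjugate elements of `PSL₂` have lifts with the same trace up to sign. -/
theorem tr2_of_isConj {X Y : SLF}
    (h : IsConj (X : PSLF)
      (Y : PSLF)) :
    tr2 Y = tr2 X ∨ tr2 Y = - tr2 X := by
  rw [isConj_iff] at h
  obtain ⟨w, hw⟩ := h
  obtain ⟨W, rfl⟩ := QuotientGroup.mk_surjective w
  have h1 : ((W * X * W⁻¹ : SLF) :
      PSLF) = Y := by
    simpa using hw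
  rw [QuotientGroup.eq] at h1
  set Z := (W * X * W⁻¹)⁻¹ * Y with hZ
  have hY : Y = (W * X * W⁻¹) * Z := by rw [hZ]; group
  have htr := tr2_conj W X
  rcases sl2_center_cases h1 with ⟨z00, z01, z10, z11⟩ | ⟨z00, z01, z10, z11⟩
  · left
    rw [← htr, hY]
    simp only [tr2, sl2_mul_00 _ Z, sl2_mul_11 _ Z, z00, z01, z10, z11]
    ring
  · right
    rw [← htr, hY]
    simp only [tr2, sl2_mul_00 _ Z, sl2_mul_11 _ Z, z00, z01, z10, z11]
    ring

/-- A non-central element of `SL₂` has a conjugate with nonzero lower-left entry. -/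
theorem exists_conj_entry_ne_zero {A : SLF}
    (hA : A ∉ Subgroup.center (SLF)) :
    ∃ U : SLF, (U * A * U⁻¹) 1 0 ≠ 0 := by
  rw [sl2_mem_center_iff] at hA
  by_cases h10 : A 1 0 = 0
  · by_cases h01 : A 0 1 = 0
    · have h00 : A 0 0 ≠ A 1 1 := fun h => hA ⟨h01, h10, h⟩
      refine ⟨mkSL2 1 0 1 1 (by ring), ?_⟩
      simp only [sl2_mul_10, sl2_mul_00, sl2_mul_01, sl2_mul_11, sl2_inv_00, sl2_inv_10,
        mkSL2_00, mkSL2_01, mkSL2_10, mkSL2_11, h10, h01]
      intro h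
      apply h00
      linear_combination h
    · refine ⟨mkSL2 0 (-1) 1 0 (by ring), ?_⟩
      simp only [sl2_mul_10, sl2_mul_00, sl2_mul_01, sl2_mul_11, sl2_inv_00, sl2_inv_10,
        mkSL2_00, mkSL2_01, mkSL2_10, mkSL2_11, h10]
      intro h
      apply h01
      linear_combination -h
  · exact ⟨1, by simpa using h10⟩

end Basic

end Cfsg.Agent.Lib.Helper41
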