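import Mathlib
import Cfsg.Agent.Lib.Helper41.SL2

set_option autoImplicit false
set_option linter.unusedSimpArgs false
set_option linter.unusedVariables false
set_option linter.unusedSectionVars false

namespace Cfsg.Agent.Lib.Helper41

open Matrix

/-- The index of the centralizer of `g` is the size of its conjugacy class. -/
theorem index_centralizer_eq_ncard {G : Type*} [Group G] (g : G) :
    (Subgroup.centralizer ({g} : Set G)).index = {h : G | IsConj g h}.ncard := by
  have h1 : (Subgroup.centralizer ({g} : Set G)).index =
      (MulAction.stabilizer (ConjAct G) g).index := by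
    rw [Subgroup.centralizer_eq_comap_stabilizer]
    exact Subgroup.index_comap_of_surjective (MulAction.stabilizer (ConjAct G) g)
      (f := (ConjAct.toConjAct (G := G)).toMonoidHom) (ConjAct.toConjAct (G := G)).surjective
  rw [h1, MulAction.index_stabilizer]
  congr 1
  ext h
  rw [ConjAct.mem_orbit_conjAct, Set.mem_setOf_eq, isConj_comm]

section Count

variable {F : Type*} [Field F] [Fintype F] [DecidableEq F]

local notation "SLF" => Matrix.SpecialLinearGroup (Fin 2) F

/-- Number of `c` with `b * c = m`. -/
theorem card_filter_mul_eq (b m : F) :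
    (Finset.univ.filter (fun c : F => b * c = m)).card =
      if b = 0 then (if m = 0 then Fintype.card F else 0) else 1 := by
  by_cases hb : b = 0
  · subst hb
    by_cases hm : m = 0
    · subst hm; simp
    · simp [hm, eq_comm]
  · rw [if_neg hb]
    have : (Finset.univ.filter (fun c : F => b * c = m)) = {m / b} := by
      ext c
      simp only [Finset.mem_filter, Finset.mem_univ, true_and, Finset.mem_singleton]
      constructor
      · intro h; rw [← h]; field_simp
      · intro h; rw [h]; field_simp
    rw [this, Finset.card_singleton]

/-- Number of pairs `(b, c)` with `b * c = m`. -/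
theorem card_filter_mul_eq_pair (m : F) :
    (Finset.univ.filter (fun p : F × F => p.1 * p.2 = m)).card =
      (Fintype.card F - 1) + (if m = 0 then Fintype.card F else 0) := by
  rw [Finset.card_filter, Fintype.sum_prod_type]
  have h1 : ∀ b : F, (∑ c : F, if b * c = m then 1 else 0) =
      if b = 0 then (if m = 0 then Fintype.card F else 0) else 1 := by
    intro b
    rw [← Finset.card_filter, card_filter_mul_eq]
  simp only [h1]
  rw [← Finset.add_sum_erase Finset.univ _ (Finset.mem_univ (0 : F))]
  simp only [if_true]
  have h2 : ∀ x ∈ Finset.univ.erase (0 : F),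
      (if x = 0 then (if m = 0 then Fintype.card F else 0) else 1) = 1 := by
    intro x hx
    rw [if_neg (Finset.ne_of_mem_erase hx)]
  rw [Finset.sum_congr rfl h2, Finset.sum_const, Finset.card_erase_of_mem (Finset.mem_univ _),
    Finset.card_univ, smul_eq_mul, mul_one, add_comm]

/-- Number of triples `(a, b, c)` with `a (τ - a) - b c = 1`. -/
theorem card_filter_triple (τ : F) :
    (Finset.univ.filter (fun v : F × F × F => v.1 * (τ - v.1) - v.2.1 * v.2.2 = 1)).card =
      Fintype.card F * (Fintype.card F - 1) +
        Fintype.card F * (Finset.univ.filter (fun a : F => a * (τ - a) = 1)).card := by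
  rw [Finset.card_filter, Fintype.sum_prod_type]
  have h1 : ∀ a : F, (∑ p : F × F, if a * (τ - a) - p.1 * p.2 = 1 then 1 else 0) =
      (Fintype.card F - 1) + (if a * (τ - a) = 1 then Fintype.card F else 0) := by
    intro a
    rw [← Finset.card_filter]
    have : (Finset.univ.filter (fun p : F × F => a * (τ - a) - p.1 * p.2 = 1)) =
        (Finset.univ.filter (fun p : F × F => p.1 * p.2 = a * (τ - a) - 1)) := by
      ext p
      simp only [Finset.mem_filter, Finset.mem_univ, true_and]
      constructor
      · intro h; linear_combination -h
      · intro h; linear_combination -h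
    rw [this, card_filter_mul_eq_pair]
    congr 1
    by_cases h : a * (τ - a) = 1
    · rw [if_pos h, if_pos (by rw [h, sub_self])]
    · rw [if_neg h, if_neg (fun h0 => h (by linear_combination h0))]
  simp only [h1]
  rw [Finset.sum_add_distrib, Finset.sum_const, Finset.card_univ, smul_eq_mul,
    ← Finset.sum_filter, Finset.sum_const, smul_eq_mul, mul_comm _ (Fintype.card F)]

/-- Number of elements of `SL₂` of a given trace. -/
theorem card_tr2_eq (τ : F) :
    Nat.card {Y : SLF // tr2 Y = τ} =
      Fintype.card F * (Fintype.card F - 1) +
        Fintype.card F * (Finset.univ.filter (fun a : F => a * (τ - a) = 1)).card := by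
  rw [← card_filter_triple τ, ← Fintype.card_subtype, ← Nat.card_eq_fintype_card]
  apply Nat.card_congr
  refine ⟨fun Y => ⟨(Y.1 0 0, Y.1 0 1, Y.1 1 0), ?_⟩,
    fun v => ⟨mkSL2 v.1.1 v.1.2.1 v.1.2.2 (τ - v.1.1) v.2, ?_⟩, ?_, ?_⟩
  · have hdet := sl2_det Y.1
    have htr := Y.2
    rw [tr2] at htr
    show Y.1 0 0 * (τ - Y.1 0 0) - Y.1 0 1 * Y.1 1 0 = 1
    linear_combination hdet - Y.1 0 0 * htr
  · simp [tr2]
  · intro Y
    apply Subtype.ext
    have htr := Y.2
    rw [tr2] at htr
    apply sl2_ext
    · simp
    · simp
    · simp
    · simp only [mkSL2_11]; linear_combination -htr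
  · intro v
    apply Subtype.ext
    simp

end Count

end Cfsg.Agent.Lib.Helper41
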