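import Mathlib
import Cfsg.Agent.Lib.Helper41.SL2

set_option autoImplicit false
set_option linter.unusedSimpArgs false
set_option linter.unusedVariables false

namespace Cfsg.Agent.Lib.Helper41

open Matrix

/-- The Lucas sequence `U_n(t, 1)`: `0, 1, t, t² - 1, …`. -/
def lucasU {R : Type*} [CommRing R] (t : R) : ℕ → R
  | 0 => 0
  | 1 => 1
  | n + 2 => t * lucasU t (n + 1) - lucasU t n

@[simp] theorem lucasU_zero {R : Type*} [CommRing R] (t : R) : lucasU t 0 = 0 := rfl
@[simp] theorem lucasU_one {R : Type*} [CommRing R] (t : R) : lucasU t 1 = 1 := rfl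
theorem lucasU_add_two {R : Type*} [CommRing R] (t : R) (n : ℕ) :
    lucasU t (n + 2) = t * lucasU t (n + 1) - lucasU t n := rfl

theorem lucasU_map {R S : Type*} [CommRing R] [CommRing S] (f : R →+* S) (t : R) (n : ℕ) :
    lucasU (f t) n = f (lucasU t n) := by
  induction n using Nat.twoStepInduction with
  | zero => simp
  | one => simp
  | more n ih1 ih2 => rw [lucasU_add_two, lucasU_add_two, ih1, ih2]; simp

/-- Closed form in terms of the two roots. -/
theorem lucasU_mul_sub {R : Type*} [CommRing R] (l m : R) (hlm : l * m = 1) (n : ℕ) :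
    lucasU (l + m) n * (l - m) = l ^ n - m ^ n := by
  induction n using Nat.twoStepInduction with
  | zero => simp
  | one => simp
  | more n ih1 ih2 =>
    rw [lucasU_add_two, sub_mul, mul_assoc, ih2, ih1]
    have : l ^ (n + 2) - m ^ (n + 2) =
        (l + m) * (l ^ (n + 1) - m ^ (n + 1)) - (l * m) * (l ^ n - m ^ n) := by ring
    rw [this, hlm]; ring

theorem lucasU_two {R : Type*} [CommRing R] (n : ℕ) : lucasU (2 : R) n = n := by
  induction n using Nat.twoStepInduction with
  | zero => simp
  | one => simp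
  | more n ih1 ih2 => rw [lucasU_add_two, ih1, ih2]; push_cast; ring

theorem lucasU_neg_two {R : Type*} [CommRing R] (n : ℕ) :
    lucasU (-2 : R) n = (-1) ^ (n + 1) * n := by
  induction n using Nat.twoStepInduction with
  | zero => simp
  | one => simp
  | more n ih1 ih2 => rw [lucasU_add_two, ih1, ih2]; push_cast; ring

section Powers

variable {F : Type*} [Field F]

local notation "SLF" => Matrix.SpecialLinearGroup (Fin 2) F
local notation "PSLF" => Matrix.ProjectiveSpecialLinearGroup (Fin 2) F

/-- Powers of an element of `SL₂` in terms of the Lucas sequence of its trace. -/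
theorem sl2_pow_succ (A : SLF) (n : ℕ) :
    ((A ^ (n + 1) : SLF) : Matrix (Fin 2) (Fin 2) F) =
      lucasU (tr2 A) (n + 1) • (A : Matrix (Fin 2) (Fin 2) F) - lucasU (tr2 A) n • 1 := by
  induction n with
  | zero => simp
  | succ n ih =>
    rw [pow_succ, Matrix.SpecialLinearGroup.coe_mul, ih, sub_mul, Matrix.smul_mul, Matrix.smul_mul,
      one_mul, mat2_sq_eq _ A.det_coe, ← tr2_eq_trace, lucasU_add_two]
    module

/-- For non-central `A`, `(mk A) ^ n = 1` iff the `n`-th Lucas number of the trace vanishes. -/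
theorem psl2_pow_eq_one_iff {A : SLF} (hA : A ∉ Subgroup.center SLF) (n : ℕ) :
    ((A : PSLF)) ^ n = 1 ↔ lucasU (tr2 A) n = 0 := by
  cases n with
  | zero => simp
  | succ n =>
    have h1 : ((A : PSLF)) ^ (n + 1) = ((A ^ (n + 1) : SLF) : PSLF) := rfl
    rw [h1, psl2_mk_eq_one_iff, sl2_pow_succ]
    rw [sl2_mem_center_iff] at hA
    simp only [Matrix.sub_apply, Matrix.smul_apply, Matrix.one_apply, smul_eq_mul]
    simp only [Fin.isValue, zero_ne_one, one_ne_zero, if_false, if_true, mul_zero, sub_zero,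
      mul_one, Fin.reduceEq]
    constructor
    · rintro ⟨h01, h10, h00⟩
      by_contra hL
      apply hA
      refine ⟨?_, ?_, ?_⟩
      · exact (mul_eq_zero.mp h01).resolve_left hL
      · exact (mul_eq_zero.mp h10).resolve_left hL
      · have : lucasU (tr2 A) (n + 1) * (A 0 0 - A 1 1) = 0 := by linear_combination h00
        have := (mul_eq_zero.mp this).resolve_left hL
        linear_combination this
    · intro hL
      rw [hL]
      simp

/-- The order of `mk A` divides `n` iff the `n`-th Lucas number of the trace vanishes. -/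
theorem psl2_orderOf_dvd_iff {A : SLF} (hA : A ∉ Subgroup.center SLF) (n : ℕ) :
    orderOf ((A : PSLF)) ∣ n ↔ lucasU (tr2 A) n = 0 := by
  rw [orderOf_dvd_iff_pow_eq_one, psl2_pow_eq_one_iff hA]

/-- If `l ≠ 0` is an eigenvalue of `A` (in an extension `K`) with `l ^ 2 ≠ 1`, then `A` is not
central. -/
theorem not_mem_center_of_eigen {K : Type*} [Field K] (f : F →+* K) {A : SLF} {l : K}
    (hl0 : l ≠ 0) (hl : l + l⁻¹ = f (tr2 A)) (hl2 : l ^ 2 ≠ 1) : A ∉ Subgroup.center SLF := by
  intro hA
  apply hl2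
  rcases sl2_center_cases hA with ⟨z00, z01, z10, z11⟩ | ⟨z00, z01, z10, z11⟩
  · have ht : f (tr2 A) = 2 := by simp [tr2, z00, z11]; norm_num
    rw [ht] at hl
    have h1 : (l - 1) ^ 2 = 0 := by
      field_simp at hl
      linear_combination hl
    have : l = 1 := by
      have := pow_eq_zero_iff (two_ne_zero) |>.mp h1
      linear_combination this
    rw [this]; ring
  · have ht : f (tr2 A) = -2 := by simp [tr2, z00, z11]; norm_num
    rw [ht] at hl
    have h1 : (l + 1) ^ 2 = 0 := by
      field_simp at hl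
      linear_combination hl
    have : l = -1 := by
      have := pow_eq_zero_iff (two_ne_zero) |>.mp h1
      linear_combination this
    rw [this]; ring

/-- Key criterion: with an eigenvalue `l ≠ 0` (in an extension `K`) such that `l ^ 2 ≠ 1`,
`(mk A) ^ n = 1` iff `l ^ (2 n) = 1`. -/
theorem psl2_pow_eq_one_iff_eigen {K : Type*} [Field K] (f : F →+* K) {A : SLF} {l : K}
    (hl0 : l ≠ 0) (hl : l + l⁻¹ = f (tr2 A)) (hl2 : l ^ 2 ≠ 1) (n : ℕ) :
    ((A : PSLF)) ^ n = 1 ↔ l ^ (2 * n) = 1 := by
  have hA := not_mem_center_of_eigen f hl0 hl hl2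
  rw [psl2_pow_eq_one_iff hA, ← map_eq_zero_iff f f.injective, ← lucasU_map, ← hl]
  have hne : l - l⁻¹ ≠ 0 := by
    intro h
    apply hl2
    field_simp at h
    linear_combination h
  have key := lucasU_mul_sub l l⁻¹ (mul_inv_cancel₀ hl0) n
  constructor
  · intro h0
    rw [h0, zero_mul] at key
    have : l ^ n = l⁻¹ ^ n := by linear_combination -key
    rw [two_mul, pow_add]
    nth_rewrite 2 [this]
    rw [← mul_pow, mul_inv_cancel₀ hl0, one_pow]
  · intro h1
    have : l ^ n = l⁻¹ ^ n := by
      rw [two_mul, pow_add] at h1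
      have hln : l ^ n ≠ 0 := pow_ne_zero n hl0
      rw [inv_pow]
      field_simp
      rw [pow_two]; exact h1
    rw [this, sub_self] at key
    exact (mul_eq_zero.mp key).resolve_right hne

theorem psl2_orderOf_dvd_iff_eigen {K : Type*} [Field K] (f : F →+* K) {A : SLF} {l : K}
    (hl0 : l ≠ 0) (hl : l + l⁻¹ = f (tr2 A)) (hl2 : l ^ 2 ≠ 1) (n : ℕ) :
    orderOf ((A : PSLF)) ∣ n ↔ orderOf l ∣ 2 * n := by
  rw [orderOf_dvd_iff_pow_eq_one, orderOf_dvd_iff_pow_eq_one,
    psl2_pow_eq_one_iff_eigen f hl0 hl hl2]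

/-- The companion matrix of `X² - t X + 1`. -/
def compSL2 (t : F) : SLF := mkSL2 0 (-1) 1 t (by ring)

@[simp] theorem tr2_compSL2 (t : F) : tr2 (compSL2 t) = t := by
  simp [tr2, compSL2]

end Powers

end Cfsg.Agent.Lib.Helper41
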