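import Mathlib
import Cfsg.Agent.Lib.Helper41.SL2Lucas

set_option autoImplicit false
set_option linter.unusedSimpArgs false
set_option linter.unusedVariables false

namespace Cfsg.Agent.Lib.Helper41

open Matrix

section Conj

variable {F : Type*} [Field F]

local notation "SLF" => Matrix.SpecialLinearGroup (Fin 2) F
local notation "PSLF" => Matrix.ProjectiveSpecialLinearGroup (Fin 2) F

/-- The scaled companion matrix `[[0, -c⁻¹], [c, t]]`. -/
noncomputable def scomp (c t : F) (hc : c ≠ 0) : SLF :=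
  mkSL2 0 (-c⁻¹) c t (by rw [neg_mul, inv_mul_cancel₀ hc]; ring)

@[simp] theorem tr2_scomp (c t : F) (hc : c ≠ 0) : tr2 (scomp c t hc) = t := by
  simp [tr2, scomp]

theorem scomp_not_mem_center (c t : F) (hc : c ≠ 0) :
    scomp c t hc ∉ Subgroup.center SLF := by
  rw [sl2_mem_center_iff]
  simp [scomp, hc]

/-- `W * X * W⁻¹ = Y` from `W * X = Y * W`. -/
theorem conj_eq_of_mul_eq {W X Y : SLF} (h : W * X = Y * W) : W * X * W⁻¹ = Y := by
  rw [h, mul_assoc, mul_inv_cancel, mul_one]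

/-- Every non-central element of `SL₂` is conjugate to a scaled companion matrix. -/
theorem exists_conj_eq_scomp {X : SLF} (hX : X ∉ Subgroup.center SLF) :
    ∃ (W : SLF) (c : F) (hc : c ≠ 0), W * X * W⁻¹ = scomp c (tr2 X) hc := by
  obtain ⟨U, hU⟩ := exists_conj_entry_ne_zero hX
  set X' := U * X * U⁻¹ with hX'
  have htr : tr2 X' = tr2 X := tr2_conj U X
  set c := X' 1 0 with hc
  have hdet := sl2_det X'
  refine ⟨mkSL2 1 (-(X' 0 0) / c) 0 1 (by ring) * U, c, hU, ?_⟩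
  have : mkSL2 1 (-(X' 0 0) / c) 0 1 (by ring) * U * X * (mkSL2 1 (-(X' 0 0) / c) 0 1 (by ring) * U)⁻¹
      = mkSL2 1 (-(X' 0 0) / c) 0 1 (by ring) * X' * (mkSL2 1 (-(X' 0 0) / c) 0 1 (by ring))⁻¹ := by
    rw [hX']; group
  rw [this]
  apply conj_eq_of_mul_eq
  have hcc : c⁻¹ * c = 1 := inv_mul_cancel₀ hU
  apply sl2_ext
  · simp only [sl2_mul_00, sl2_mul_01, sl2_mul_10, sl2_mul_11, mkSL2_00, mkSL2_01, mkSL2_10,
      mkSL2_11, scomp]
    rw [← hc]
    field_simp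
    ring
  · simp only [sl2_mul_00, sl2_mul_01, sl2_mul_10, sl2_mul_11, mkSL2_00, mkSL2_01, mkSL2_10,
      mkSL2_11, scomp]
    field_simp
    linear_combination (-1 : F) * hdet
  · simp only [sl2_mul_00, sl2_mul_01, sl2_mul_10, sl2_mul_11, mkSL2_00, mkSL2_01, mkSL2_10,
      mkSL2_11, scomp]
    ring
  · simp only [sl2_mul_00, sl2_mul_01, sl2_mul_10, sl2_mul_11, mkSL2_00, mkSL2_01, mkSL2_10,
      mkSL2_11, scomp]
    rw [← htr, tr2]
    field_simp
    ring

/-- The norm form `α² + t α β + β²` represents every nonzero element. -/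
def NormUniversal (t : F) : Prop :=
  ∀ δ : F, δ ≠ 0 → ∃ α β : F, α ^ 2 + t * α * β + β ^ 2 = δ

/-- Scaled companion matrices with the same trace are conjugate if the norm form is universal. -/
theorem scomp_conj (t c c' : F) (hc : c ≠ 0) (hc' : c' ≠ 0) (hN : NormUniversal t) :
    ∃ W : SLF, W * scomp c t hc * W⁻¹ = scomp c' t hc' := by
  obtain ⟨α, β, hαβ⟩ := hN (c / c') (div_ne_zero hc hc')
  have hρ : (c' / c) * (α ^ 2 + t * α * β + β ^ 2) = 1 := by
    rw [hαβ]; field_simp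
  refine ⟨mkSL2 α (-β / c) (c' / c * β * c) (c' / c * (α + β * t)) ?_, ?_⟩
  · field_simp
    field_simp at hρ
    linear_combination hρ
  · apply conj_eq_of_mul_eq
    apply sl2_ext
    · simp only [sl2_mul_00, sl2_mul_01, sl2_mul_10, sl2_mul_11, mkSL2_00, mkSL2_01, mkSL2_10,
        mkSL2_11, scomp]
      field_simp
    · simp only [sl2_mul_00, sl2_mul_01, sl2_mul_10, sl2_mul_11, mkSL2_00, mkSL2_01, mkSL2_10,
        mkSL2_11, scomp]
      field_simp
      ring
    · simp only [sl2_mul_00, sl2_mul_01, sl2_mul_10, sl2_mul_11, mkSL2_00, mkSL2_01, mkSL2_10,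
        mkSL2_11, scomp]
      field_simp
      ring
    · simp only [sl2_mul_00, sl2_mul_01, sl2_mul_10, sl2_mul_11, mkSL2_00, mkSL2_01, mkSL2_10,
        mkSL2_11, scomp]
      field_simp


/-- Non-central elements of `SL₂` with the same trace are conjugate in `SL₂`, provided the norm
form of the trace is universal. -/
theorem conj_of_tr2_eq {X Y : SLF} (hX : X ∉ Subgroup.center SLF) (hY : Y ∉ Subgroup.center SLF)
    (h : tr2 Y = tr2 X) (hN : NormUniversal (tr2 X)) : ∃ W : SLF, W * X * W⁻¹ = Y := by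
  obtain ⟨W₁, c, hc, h1⟩ := exists_conj_eq_scomp hX
  obtain ⟨W₂, c', hc', h2⟩ := exists_conj_eq_scomp hY
  rw [h] at h2
  obtain ⟨W₃, h3⟩ := scomp_conj (tr2 X) c c' hc hc' hN
  refine ⟨W₂⁻¹ * W₃ * W₁, ?_⟩
  have : W₂⁻¹ * W₃ * W₁ * X * (W₂⁻¹ * W₃ * W₁)⁻¹ = W₂⁻¹ * (W₃ * (W₁ * X * W₁⁻¹) * W₃⁻¹) * W₂ := by
    group
  rw [this, h1, h3, ← h2]
  group

/-- Universality of the norm form in the split case. -/
theorem normUniversal_of_split (l : F) (hl0 : l ≠ 0) (hl2 : l ^ 2 ≠ 1) :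
    NormUniversal (l + l⁻¹) := by
  intro δ hδ
  have hne : l - l⁻¹ ≠ 0 := by
    intro h
    apply hl2
    field_simp at h
    linear_combination h
  refine ⟨1 - l⁻¹ * ((δ - 1) / (l - l⁻¹)), (δ - 1) / (l - l⁻¹), ?_⟩
  have key : ∀ α β : F, α ^ 2 + (l + l⁻¹) * α * β + β ^ 2 = (α + l * β) * (α + l⁻¹ * β) := by
    intro α β
    have : l * l⁻¹ = 1 := mul_inv_cancel₀ hl0
    linear_combination (-(β ^ 2)) * this
  rw [key]
  have h1 : 1 - l⁻¹ * ((δ - 1) / (l - l⁻¹)) + l⁻¹ * ((δ - 1) / (l - l⁻¹)) = 1 := by ring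
  have h2 : 1 - l⁻¹ * ((δ - 1) / (l - l⁻¹)) + l * ((δ - 1) / (l - l⁻¹)) = δ := by
    have : (l - l⁻¹) * ((δ - 1) / (l - l⁻¹)) = δ - 1 := mul_div_cancel₀ _ hne
    linear_combination this
  rw [h1, h2, mul_one]

/-- Two quadratics over a finite field of odd order have a common value up to sign:
`a₁ x² + b₁ x + a₂ y² + b₂ y + c = 0` is solvable when `a₁, a₂ ≠ 0`. -/
theorem exists_quadratic_sum_eq_zero [Fintype F] (hodd : Fintype.card F % 2 = 1)
    (a₁ b₁ a₂ b₂ c : F) (ha₁ : a₁ ≠ 0) (ha₂ : a₂ ≠ 0) :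
    ∃ x y : F, a₁ * x ^ 2 + b₁ * x + (a₂ * y ^ 2 + b₂ * y) + c = 0 := by
  open Polynomial in
  obtain ⟨x, y, h⟩ := FiniteField.exists_root_sum_quadratic
    (f := C a₁ * X ^ 2 + C b₁ * X + C c) (g := C a₂ * X ^ 2 + C b₂ * X + C 0)
    (degree_quadratic ha₁) (degree_quadratic ha₂) hodd
  refine ⟨x, y, ?_⟩
  simp only [eval_add, eval_mul, eval_C, eval_X, eval_pow] at h
  linear_combination h

/-- Universality of the norm form over a finite field of odd order when `t² ≠ 4`. -/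
theorem normUniversal_of_odd [Fintype F] (hodd : Fintype.card F % 2 = 1) (t : F)
    (ht : t ^ 2 ≠ 4) : NormUniversal t := by
  intro δ hδ
  have h2 : (2 : F) ≠ 0 := by
    intro h
    have h4 : (Fintype.card F : F) = 0 := Nat.cast_card_eq_zero F
    have : (Fintype.card F : F) = 1 := by
      have hq : Fintype.card F = 2 * (Fintype.card F / 2) + 1 := by omega
      rw [hq]; push_cast; rw [h]; ring
    rw [this] at h4
    exact one_ne_zero h4
  have h4 : (4 : F) ≠ 0 := by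
    have : (4 : F) = 2 * 2 := by norm_num
    rw [this]; exact mul_ne_zero h2 h2
  have ha₂ : 1 - t ^ 2 / 4 ≠ 0 := by
    intro h
    apply ht
    field_simp at h
    linear_combination -h
  obtain ⟨u, β, h⟩ := exists_quadratic_sum_eq_zero hodd 1 0 (1 - t ^ 2 / 4) 0 (-δ) one_ne_zero ha₂
  refine ⟨u - t * β / 2, β, ?_⟩
  field_simp
  field_simp at h
  linear_combination h

/-- The negative of an element of `SL₂`. -/
def negSL2 (A : SLF) : SLF :=
  mkSL2 (-(A 0 0)) (-(A 0 1)) (-(A 1 0)) (-(A 1 1)) (by have := sl2_det A; linear_combination this)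

@[simp] theorem tr2_negSL2 (A : SLF) : tr2 (negSL2 A) = - tr2 A := by
  simp [tr2, negSL2]; ring

theorem mk_negSL2 (A : SLF) : ((negSL2 A : SLF) : PSLF) = (A : PSLF) := by
  rw [QuotientGroup.eq, sl2_mem_center_iff]
  have hdet := sl2_det A
  simp only [sl2_mul_00, sl2_mul_01, sl2_mul_10, sl2_mul_11, sl2_inv_00, sl2_inv_01, sl2_inv_10,
    sl2_inv_11, negSL2, mkSL2_00, mkSL2_01, mkSL2_10, mkSL2_11]
  refine ⟨by ring, by ring, by ring⟩

theorem not_mem_center_of_tr2_sq_ne_four {A : SLF} (h : tr2 A ^ 2 ≠ 4) :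
    A ∉ Subgroup.center SLF := by
  intro hA
  apply h
  rcases sl2_center_cases hA with ⟨z00, z01, z10, z11⟩ | ⟨z00, z01, z10, z11⟩
  · rw [tr2, z00, z11]; norm_num
  · rw [tr2, z00, z11]; norm_num

/-- If a conjugate of `G` factors (in `PSL₂`) as a product of two non-central elements with the
trace of `X`, and the norm form of that trace is universal, then `G` is a product of two
conjugates of `X` in `PSL₂`. -/
theorem psl2_prod_of_factor {X G Y Z W : SLF} (hX : X ∉ Subgroup.center SLF)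
    (hN : NormUniversal (tr2 X)) (hY : Y ∉ Subgroup.center SLF) (hZ : Z ∉ Subgroup.center SLF)
    (hYt : tr2 Y = tr2 X) (hZt : tr2 Z = tr2 X)
    (hG : ((W * G * W⁻¹ : SLF) : PSLF) = ((Y * Z : SLF) : PSLF)) :
    ∃ u v : PSLF, (G : PSLF) = (u * (X : PSLF) * u⁻¹) * (v * (X : PSLF) * v⁻¹) := by
  obtain ⟨U, hU⟩ := conj_of_tr2_eq hX hY hYt hN
  obtain ⟨V, hV⟩ := conj_of_tr2_eq hX hZ hZt hN
  refine ⟨((W⁻¹ * U : SLF) : PSLF), ((W⁻¹ * V : SLF) : PSLF), ?_⟩
  have h1 : (G : PSLF) = ((W : SLF) : PSLF)⁻¹ * ((W * G * W⁻¹ : SLF) : PSLF) * ((W : SLF) : PSLF) := by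
    simp only [QuotientGroup.mk_mul, QuotientGroup.mk_inv]; group
  rw [h1, hG, ← hU, ← hV]
  simp only [QuotientGroup.mk_mul, QuotientGroup.mk_inv]
  group

end Conj

end Cfsg.Agent.Lib.Helper41
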