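import Mathlib
import Cfsg.Agent.Lib.Helper41.SL2Lucas

set_option autoImplicit false
set_option linter.unusedSimpArgs false
set_option linter.unusedVariables false

namespace Cfsg.Agent.Lib.Helper41

open Matrix Polynomial

section Eigen

variable {F : Type*} [Field F] [Fintype F]

/-- Elements of an extension fixed by the `q`-power map lie in the base field. -/
theorem mem_range_of_pow_card_eq {K : Type*} [Field K] [Algebra F K] (x : K)
    (hx : x ^ Fintype.card F = x) : ∃ y : F, algebraMap F K y = x := by
  classical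
  set q := Fintype.card F with hq
  have hq1 : 1 < q := Fintype.one_lt_card
  let P : K[X] := X ^ q - X
  have hP0 : P ≠ 0 := FiniteField.X_pow_card_sub_X_ne_zero K hq1
  have hdeg : P.natDegree = q := FiniteField.X_pow_card_sub_X_natDegree_eq K hq1
  let S : Finset K := Finset.univ.image (algebraMap F K)
  have hScard : S.card = q := by
    rw [Finset.card_image_of_injective _ (algebraMap F K).injective, Finset.card_univ]
  have hSsub : S ⊆ P.roots.toFinset := by
    intro y hy
    obtain ⟨z, -, rfl⟩ := Finset.mem_image.mp hy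
    rw [Multiset.mem_toFinset, mem_roots hP0]
    simp only [P, IsRoot.def, eval_sub, eval_pow, eval_X]
    rw [← map_pow, hq, FiniteField.pow_card, sub_self]
  have hle : P.roots.toFinset.card ≤ S.card := by
    calc P.roots.toFinset.card ≤ Multiset.card P.roots := Multiset.toFinset_card_le _
      _ ≤ P.natDegree := card_roots' P
      _ = S.card := by rw [hdeg, hScard]
  have hEq : S = P.roots.toFinset := Finset.eq_of_subset_of_card_le hSsub hle
  have hxmem : x ∈ P.roots.toFinset := by
    rw [Multiset.mem_toFinset, mem_roots hP0]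
    simp only [P, IsRoot.def, eval_sub, eval_pow, eval_X]
    rw [hx, sub_self]
  rw [← hEq] at hxmem
  obtain ⟨z, -, hz⟩ := Finset.mem_image.mp hxmem
  exact ⟨z, hz⟩

/-- Every trace has an eigenvalue in the algebraic closure, which is a `(q-1)`-th or a
`(q+1)`-th root of unity. -/
theorem exists_eigen (t : F) :
    ∃ l : AlgebraicClosure F, l ≠ 0 ∧ l + l⁻¹ = algebraMap F (AlgebraicClosure F) t ∧
      (l ^ (Fintype.card F - 1) = 1 ∨ l ^ (Fintype.card F + 1) = 1) := by
  set K := AlgebraicClosure F
  set q := Fintype.card F with hq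
  let P : F[X] := X ^ 2 - C t * X + 1
  have hPdeg : P.natDegree = 2 := by
    simp only [P]; compute_degree!
  have hPmap : (P.map (algebraMap F K)).degree ≠ 0 := by
    rw [degree_map, degree_eq_natDegree (ne_zero_of_natDegree_gt (n := 1) (by omega)), hPdeg]
    norm_num
  obtain ⟨l, hl⟩ := IsAlgClosed.exists_root (P.map (algebraMap F K)) hPmap
  rw [IsRoot.def, eval_map, ← aeval_def] at hl
  have hl' : l ^ 2 - algebraMap F K t * l + 1 = 0 := by
    simpa [P] using hl
  have hl0 : l ≠ 0 := by
    rintro rfl
    simp at hl'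
  have hinv : l⁻¹ = algebraMap F K t - l := by
    apply inv_eq_of_mul_eq_one_right
    linear_combination -hl'
  -- Frobenius
  have hfrob : aeval (l ^ q) P = 0 := by
    rw [← expand_aeval, hq, FiniteField.expand_card, map_pow, hl, zero_pow]
    exact Fintype.card_ne_zero
  have hfrob' : (l ^ q) ^ 2 - algebraMap F K t * l ^ q + 1 = 0 := by
    simpa [P] using hfrob
  have hprod : (l ^ q - l) * (l ^ q - l⁻¹) = 0 := by
    rw [hinv]
    linear_combination hfrob' - hl'
  have hq1 : 1 ≤ q := Fintype.card_pos
  refine ⟨l, hl0, by rw [hinv]; ring, ?_⟩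
  rcases mul_eq_zero.mp hprod with h | h
  · left
    have h1 : l ^ q = l := by linear_combination h
    have h2 : l ^ (q - 1) * l = l := by rw [← pow_succ, Nat.sub_add_cancel hq1, h1]
    have := mul_right_cancel₀ hl0 (h2.trans (one_mul l).symm)
    exact this
  · right
    have h1 : l ^ q = l⁻¹ := by linear_combination h
    rw [pow_succ, h1, inv_mul_cancel₀ hl0]

/-- There is a trace in `F` whose eigenvalue has order exactly `q + 1`. -/
theorem exists_trace_orderOf_card_add_one :
    ∃ (t : F) (l : AlgebraicClosure F), l ≠ 0 ∧ orderOf l = Fintype.card F + 1 ∧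
      l + l⁻¹ = algebraMap F (AlgebraicClosure F) t := by
  set K := AlgebraicClosure F
  set q := Fintype.card F with hq
  have hq0 : ((q : ℕ) : F) = 0 := Nat.cast_card_eq_zero F
  have : NeZero (((q + 1 : ℕ)) : F) := ⟨by rw [Nat.cast_add, hq0]; simp⟩
  obtain ⟨l, hl⟩ := HasEnoughRootsOfUnity.exists_primitiveRoot K (q + 1)
  have hord : orderOf l = q + 1 := hl.eq_orderOf.symm
  have hl0 : l ≠ 0 := hl.ne_zero (by omega)
  have hlq : l ^ q = l⁻¹ := by
    have h1 : l ^ (q + 1) = 1 := hl.pow_eq_one
    rw [pow_succ] at h1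
    exact eq_inv_of_mul_eq_one_left h1
  -- characteristic
  obtain ⟨p, hp⟩ := CharP.exists F
  have := hp
  have : Fact p.Prime := ⟨CharP.char_is_prime F p⟩
  obtain ⟨k, -, hk⟩ := FiniteField.card F p
  have : CharP K p := charP_of_injective_algebraMap (algebraMap F K).injective p
  have hfix : (l + l⁻¹) ^ q = l + l⁻¹ := by
    rw [hq, hk, add_pow_char_pow, ← hk, ← hq, inv_pow, hlq, inv_inv, add_comm]
  obtain ⟨t, ht⟩ := mem_range_of_pow_card_eq (F := F) (l + l⁻¹) hfix
  exact ⟨t, l, hl0, hord, ht.symm⟩

end Eigen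

end Cfsg.Agent.Lib.Helper41
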