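import Mathlib
import Cfsg.Agent.Lib.Helper41.SpBNDefs

/-! # S2545 hive: foundation leaves ROOT, LOWER, TORUS, SUBN, JN, TCONJ (helper41) -/

set_option autoImplicit false

namespace Cfsg.Agent.Lib.Helper41.SpBN

open Matrix Cfsg Cfsg.Agent.Lib.Helper13

variable {F : Type*} [Field F] {m : ℕ}

/-! ## ROOT -/

theorem root_xS_eq (k k' : Fin m) (t : F) :
    (1 + t • Matrix.single (Sum.inl k) (Sum.inl k') (1 : F)
      - t • Matrix.single (Sum.inr k') (Sum.inr k) (1 : F) : Matrix (Idx m) (Idx m) F) =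
    Matrix.fromBlocks (1 + t • Matrix.single k k' (1 : F)) 0 0 (1 - t • Matrix.single k' k (1 : F)) := by
  ext (i | i) (j | j) <;>
    simp [Matrix.one_apply, Matrix.single_apply, Matrix.sub_apply, Matrix.add_apply]

theorem root_single_sq (k k' : Fin m) (hkk : k ≠ k') :
    (Matrix.single k' k (1 : F) : Matrix (Fin m) (Fin m) F) * Matrix.single k' k (1 : F) = 0 := by
  exact Matrix.single_mul_single_of_ne (1 : F) k' k k' hkk (1 : F)

theorem xS_mem (k k' : Fin m) (hkk : k ≠ k') (t : F) :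
    (1 + t • Matrix.single (Sum.inl k) (Sum.inl k') (1 : F)
      - t • Matrix.single (Sum.inr k') (Sum.inr k) (1 : F) : Matrix (Idx m) (Idx m) F) ∈
      Matrix.symplecticGroup (Fin m) F := by
  rw [root_xS_eq, SymplecticGroup.fromBlocks_mem_iff]
  refine ⟨by simp, by simp, ?_⟩
  rw [Matrix.transpose_zero, Matrix.zero_mul, sub_zero, Matrix.transpose_add, Matrix.transpose_one,
    Matrix.transpose_smul, Matrix.transpose_single]
  rw [add_mul, one_mul, mul_sub, mul_one, Matrix.smul_mul, Matrix.mul_smul, root_single_sq k k' hkk]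
  simp

theorem xSm_mem (k k' : Fin m) (hkk : k ≠ k') (t : F) :
    (1 + t • Matrix.single (Sum.inl k') (Sum.inl k) (1 : F)
      - t • Matrix.single (Sum.inr k) (Sum.inr k') (1 : F) : Matrix (Idx m) (Idx m) F) ∈
      Matrix.symplecticGroup (Fin m) F :=
  xS_mem k' k (Ne.symm hkk) t

theorem xL_mem (k : Fin m) (t : F) :
    (1 + t • Matrix.single (Sum.inl k) (Sum.inr k) (1 : F) : Matrix (Idx m) (Idx m) F) ∈
      Matrix.symplecticGroup (Fin m) F := by
  have e : (1 + t • Matrix.single (Sum.inl k) (Sum.inr k) (1 : F) : Matrix (Idx m) (Idx m) F) =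
      Matrix.fromBlocks 1 (t • Matrix.single k k (1 : F)) 0 1 := by
    ext (i | i) (j | j) <;>
      simp [Matrix.one_apply, Matrix.single_apply, Matrix.add_apply]
  rw [e, SymplecticGroup.fromBlocks_mem_iff]
  refine ⟨by simp, ?_, by simp⟩
  simp [Matrix.transpose_smul, Matrix.transpose_single]

theorem xLm_mem (k : Fin m) (t : F) :
    (1 + t • Matrix.single (Sum.inr k) (Sum.inl k) (1 : F) : Matrix (Idx m) (Idx m) F) ∈
      Matrix.symplecticGroup (Fin m) F := by
  have e : (1 + t • Matrix.single (Sum.inr k) (Sum.inl k) (1 : F) : Matrix (Idx m) (Idx m) F) =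
      Matrix.fromBlocks 1 0 (t • Matrix.single k k (1 : F)) 1 := by
    ext (i | i) (j | j) <;>
      simp [Matrix.one_apply, Matrix.single_apply, Matrix.add_apply]
  rw [e, SymplecticGroup.fromBlocks_mem_iff]
  refine ⟨?_, by simp, by simp⟩
  simp [Matrix.transpose_smul, Matrix.transpose_single]

/-! ## LOWER -/

theorem B_lower {g : SpG F m} (hg : g ∈ Bsp F m) :
    ∀ i j : Fin m, (i : ℕ) < (j : ℕ) → g.1 (Sum.inr i) (Sum.inr j) = 0 := by
  obtain ⟨h1, h2⟩ := (mem_Bsp_iff g).mp hg
  have hC : g.1.toBlocks₂₁ = 0 := by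
    ext i j
    exact h2 i j
  have hmem : Matrix.fromBlocks g.1.toBlocks₁₁ g.1.toBlocks₁₂ g.1.toBlocks₂₁ g.1.toBlocks₂₂ ∈
      Matrix.symplecticGroup (Fin m) F := by
    rw [Matrix.fromBlocks_toBlocks]
    exact g.2
  rw [SymplecticGroup.fromBlocks_mem_iff] at hmem
  have hAD : (g.1.toBlocks₁₁)ᵀ * g.1.toBlocks₂₂ = 1 := by
    have := hmem.2.2
    rwa [hC, Matrix.transpose_zero, Matrix.zero_mul, sub_zero] at this
  have hA : (g.1.toBlocks₁₁).BlockTriangular id := by
    intro i j hij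
    exact h1 i j hij
  have hAt := hA.transpose
  letI : Invertible (g.1.toBlocks₁₁)ᵀ := invertibleOfRightInverse _ _ hAD
  have hinv := Matrix.blockTriangular_inv_of_blockTriangular hAt
  have hD : g.1.toBlocks₂₂ = ((g.1.toBlocks₁₁)ᵀ)⁻¹ := (Matrix.inv_eq_right_inv hAD).symm
  intro i j hij
  have := hinv (i := i) (j := j) (by
    change OrderDual.toDual j < OrderDual.toDual i
    rw [OrderDual.toDual_lt_toDual]
    exact hij)
  rw [← hD] at this
  exact this

/-! ## TORUS -/

theorem torus_perm_eq_one {τ : Fin m → Fin m} (hinj : Function.Injective τ) (hle : ∀ j, τ j ≤ j) :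
    ∀ j, τ j = j := by
  intro j
  induction j using Fin.strong_induction_on with
  | h j ih =>
    rcases (hle j).lt_or_eq with h | h
    · have := ih (τ j) h
      exact absurd (hinj this) (ne_of_lt h)
    · exact h

theorem torus_isMono_B {g : SpG F m} (hg : g ∈ Bsp F m) {π : Equiv.Perm (Idx m)} {d : Idx m → F}
    (h : IsMono g.1 π d) : π = 1 := by
  obtain ⟨h1, h2⟩ := (mem_Bsp_iff g).mp hg
  have hsw := (h.symp g.2).1
  have hd : ∀ s, d s ≠ 0 := fun s => h.ne_zero g.2 s
  have hnz : ∀ s, g.1 (π s) s ≠ 0 := by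
    intro s
    rw [h (π s) s, if_pos rfl]
    exact hd s
  have hinl : ∀ j : Fin m, ∃ i : Fin m, π (Sum.inl j) = Sum.inl i := by
    intro j
    rcases hπ : π (Sum.inl j) with i | i
    · exact ⟨i, rfl⟩
    · exfalso
      apply hnz (Sum.inl j)
      rw [hπ]
      exact h2 i j
  choose τ hτ using hinl
  have hinj : Function.Injective τ := by
    intro a b hab
    have : π (Sum.inl a) = π (Sum.inl b) := by rw [hτ, hτ, hab]
    exact Sum.inl_injective (π.injective this)
  have hle : ∀ j, τ j ≤ j := by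
    intro j
    by_contra hlt
    rw [not_le] at hlt
    apply hnz (Sum.inl j)
    rw [hτ]
    exact h1 (τ j) j hlt
  have hid := torus_perm_eq_one hinj hle
  ext s
  rcases s with j | j
  · rw [hτ, hid]; rfl
  · have := hsw (Sum.inl j)
    rw [Sum.swap_inl, hτ, hid, Sum.swap_inl] at this
    rw [this]; rfl

theorem B_inf_N : Bsp F m ⊓ Nsp F m = spTorus F m := by
  ext g
  rw [Subgroup.mem_inf, mem_spTorus_iff]
  constructor
  · rintro ⟨hB, π, d, h⟩ a s has
    have hπ := torus_isMono_B hB h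
    rw [h a s, hπ, Equiv.Perm.one_apply, if_neg has]
  · intro h
    constructor
    · rw [mem_Bsp_iff]
      refine ⟨fun i j hij => h _ _ ?_, fun i j => h _ _ (by simp)⟩
      intro e
      have := Sum.inl_injective e
      rw [this] at hij
      exact lt_irrefl _ hij
    · refine ⟨1, fun s => g.1 s s, ?_⟩
      intro a s
      rw [Equiv.Perm.one_apply]
      by_cases has : a = s
      · rw [if_pos has, has]
      · rw [if_neg has]
        exact h a s has

/-! ## SUBN, JN, TCONJ -/

theorem S_subset_N : Ssp F m ⊆ (Nsp F m : Set (SpG F m)) := by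
  rintro s ⟨σ, -, hs⟩
  refine ⟨σ, monoCoeff σ 1, ?_⟩
  rw [hs]
  exact monoMat_isMono σ 1

theorem symJ_isMono :
    IsMono (SymplecticGroup.symJ (Fin m) F).1 (swapPerm m) (fun s => eta F s.swap) := by
  intro a s
  rw [SymplecticGroup.coe_J, J_apply_eq, swapPerm_apply]
  by_cases h : s = a.swap
  · rw [if_pos h, if_pos (by rw [h, Sum.swap_swap]), h]
    simp only [Sum.swap_swap]
  · rw [if_neg h, if_neg]
    intro h'
    apply h
    rw [h', Sum.swap_swap]

theorem symJ_mem_N : SymplecticGroup.symJ (Fin m) F ∈ Nsp F m :=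
  ⟨swapPerm m, _, symJ_isMono⟩

theorem T_conj : ∀ n ∈ Nsp F m, ∀ t ∈ Bsp F m ⊓ Nsp F m, n * t * n⁻¹ ∈ Bsp F m := by
  rintro n ⟨π, d, hn⟩ t ht
  rw [B_inf_N] at ht
  have hd : ∀ s, d s ≠ 0 := fun s => hn.ne_zero n.2 s
  have h := conj_mem_spTorus n π d (fun s => hn.mulVec_single s) hd t ht
  rw [← B_inf_N] at h
  exact h.1

end Cfsg.Agent.Lib.Helper41.SpBN
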