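import Mathlib
import Cfsg.Agent.Lib.Helper14.DkSub
import Cfsg.Agent.Lib.Helper14.DkIndex

set_option autoImplicit false

/-!
# Overgroups of a subgroup of `SL₂(F)` containing both root subgroups: numerical shape
(built on helper14's numerical Dickson library)
-/

namespace Cfsg.Agent.Lib.Helper41.DkOver

open Matrix Cfsg.Agent.Lib.Helper2.SL2 Cfsg.Agent.Lib.Helper14.Dk

variable {F : Type*} [Field F]

local notation "SL2" => Matrix.SpecialLinearGroup (Fin 2) F

/-- upper unitriangular element -/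
def ux (t : F) : SL2 := mk2 1 t 0 1 (by ring)
/-- lower unitriangular element -/
def uy (t : F) : SL2 := mk2 1 0 t 1 (by ring)
/-- diagonal element -/
def dg (s : F) (hs : s ≠ 0) : SL2 := mk2 s 0 0 s⁻¹ (by field_simp; ring)

@[simp] theorem ux_00 (t : F) : ux t 0 0 = 1 := rfl
@[simp] theorem ux_01 (t : F) : ux t 0 1 = t := rfl
@[simp] theorem ux_10 (t : F) : ux t 1 0 = 0 := rfl
@[simp] theorem ux_11 (t : F) : ux t 1 1 = 1 := rfl
@[simp] theorem uy_00 (t : F) : uy t 0 0 = 1 := rfl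
@[simp] theorem uy_01 (t : F) : uy t 0 1 = 0 := rfl
@[simp] theorem uy_10 (t : F) : uy t 1 0 = t := rfl
@[simp] theorem uy_11 (t : F) : uy t 1 1 = 1 := rfl
@[simp] theorem dg_00 (s : F) (hs : s ≠ 0) : dg s hs 0 0 = s := rfl
@[simp] theorem dg_01 (s : F) (hs : s ≠ 0) : dg s hs 0 1 = 0 := rfl
@[simp] theorem dg_10 (s : F) (hs : s ≠ 0) : dg s hs 1 0 = 0 := rfl
@[simp] theorem dg_11 (s : F) (hs : s ≠ 0) : dg s hs 1 1 = s⁻¹ := rfl

variable [Fintype F]

/-- The numerical shape of a subgroup of `SL₂(F)` containing `ux 1`, `uy 1` and two elements with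
non-commuting squares. -/
theorem over_cases (p : ℕ) [Fact p.Prime] [CharP F p] (Y : Subgroup SL2)
    (hx : ux 1 ∈ Y) (hy : uy 1 ∈ Y) (a b : SL2) (ha : a ∈ Y) (hb : b ∈ Y)
    (hab : a ^ 2 * b ^ 2 ≠ b ^ 2 * a ^ 2) :
    IsA4 (ZZ Y.subtype) (UU Y.subtype) ∨ IsS4 (ZZ Y.subtype) (UU Y.subtype) ∨
    IsA5 (ZZ Y.subtype) (UU Y.subtype) ∨
    ∃ k qH g₂ g m, Nat.card Y = Nat.card (ZZ Y.subtype) * g ∧ 2 ≤ k ∧ Arith.PSLd qH k g₂ g ∧
      1 ≤ m ∧ qH ^ m = Fintype.card F := by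
  have hτ : Function.Injective Y.subtype := Y.subtype_injective
  have D := data_of_rep p Y.subtype hτ
  have h10 : (1 : F) ≠ 0 := one_ne_zero
  rcases D.main with h | h | h | h | h | h | h | h
  · -- central
    exfalso
    have hmem : (⟨ux 1, hx⟩ : ↥Y) ∈ ZZ Y.subtype := by rw [h]; exact Subgroup.mem_top _
    rw [mem_ZZ] at hmem
    rcases hmem with h1 | h1
    · have := (entries_of_eq h1).2.1
      simp at this
    · have := (entries_of_eq h1).2.1
      simp [neg01, one01] at this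
  · -- abelian
    exfalso
    obtain ⟨x, hxZ, hU, hM⟩ := h
    have h1 : (⟨ux 1, hx⟩ : ↥Y) ∈ M x := by rw [hM]; exact Subgroup.mem_top _
    have h2 : (⟨uy 1, hy⟩ : ↥Y) ∈ M x := by rw [hM]; exact Subgroup.mem_top _
    have h3 := D.toCT.comm_of_mem hxZ h1 h2
    have h4 : ux (1 : F) * uy 1 = uy 1 * ux 1 := congrArg Subtype.val h3
    have := (entries_of_eq h4).1
    simp [mul00] at this
  · -- Borel
    exfalso
    obtain ⟨x, hxZ, hU, hN⟩ := h
    obtain ⟨c, hc⟩ := exists_std Y.subtype hτ hxZ hU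
    rw [hc.normalizer_eq] at hN
    have h1 : (⟨ux 1, hx⟩ : ↥Y) ∈ BG ((MulAut.conj c).toMonoidHom.comp Y.subtype) := by
      rw [hN]; exact Subgroup.mem_top _
    have h2 : (⟨uy 1, hy⟩ : ↥Y) ∈ BG ((MulAut.conj c).toMonoidHom.comp Y.subtype) := by
      rw [hN]; exact Subgroup.mem_top _
    rw [mem_BG] at h1 h2
    have e1 : (c * ux (1 : F) * c⁻¹ : SL2) 1 0 = 0 := h1
    have e2 : (c * uy (1 : F) * c⁻¹ : SL2) 1 0 = 0 := h2
    simp only [mul00, mul01, mul10, mul11, inv00, inv01, inv10, inv11, ux_00, ux_01, ux_10, ux_11,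
      uy_00, uy_01, uy_10, uy_11] at e1 e2
    have hd := det2 c
    have c10 : c 1 0 = 0 := by
      have : c 1 0 ^ 2 = 0 := by linear_combination -e1
      exact pow_eq_zero_iff (two_ne_zero) |>.mp this
    have c11 : c 1 1 = 0 := by
      have : c 1 1 ^ 2 = 0 := by linear_combination e2
      exact pow_eq_zero_iff (two_ne_zero) |>.mp this
    rw [c10, c11] at hd
    simp at hd
  · -- dihedral
    exfalso
    obtain ⟨x, hxZ, hU, hn, he⟩ := h
    have hN : Subgroup.normalizer (M x : Set ↥Y) = ⊤ := Subgroup.index_eq_one.mp hn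
    have hidx : (M x).index = 2 := by
      have : ee x = (M x).relIndex ⊤ := by unfold ee; rw [hN]
      rw [Subgroup.relIndex_top_right] at this
      rw [← this]; exact he
    have h1 : (⟨a, ha⟩ : ↥Y) ^ 2 ∈ M x := Subgroup.sq_mem_of_index_two hidx _
    have h2 : (⟨b, hb⟩ : ↥Y) ^ 2 ∈ M x := Subgroup.sq_mem_of_index_two hidx _
    have h3 := D.toCT.comm_of_mem hxZ h1 h2
    exact hab (congrArg Subtype.val h3)
  · left; exact h
  · right; left; exact h
  · right; right; left; exact h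
  · right; right; right
    obtain ⟨k, qH, g₂, g, hg, hk2, ⟨⟨x, hxZ, hUx⟩, hall⟩, hP, -, -, -⟩ := h
    obtain ⟨hee, haa⟩ := hall x hxZ hUx
    obtain ⟨hle', -⟩ := psld_le hP hk2
    obtain ⟨m, hm1, hm⟩ := field_card_pow Y.subtype hτ hxZ hUx hee haa hle'
    exact ⟨k, qH, g₂, g, m, hg, hk2, hP, hm1, hm⟩

end Cfsg.Agent.Lib.Helper41.DkOver
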