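import Mathlib
import Cfsg.Agent.Lib.Helper41.DkOver
import Cfsg.Agent.S5943

set_option autoImplicit false

/-!
# Characteristic two: subgroups of `SL₂(F)` whose traces lie in a subfield
-/

namespace Cfsg.Agent.Lib.Helper41.DkChar2

open Matrix Cfsg.Agent.Lib.Helper2.SL2 Cfsg.Agent.Lib.Helper14.Dk Cfsg.Agent.Lib.Helper41.DkOver
open Cfsg.Agent.S5943 (slMap slMap_apply slMap_injective)

variable {F : Type*} [Field F]

local notation "SL2" => Matrix.SpecialLinearGroup (Fin 2) F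

/-- in characteristic two an element of square one has trace zero -/
theorem tr_zero_of_sq_one (h2 : (2 : F) = 0) (u : SL2) (hu : u * u = 1) : tr2 u = 0 := by
  unfold tr2
  by_contra htr
  have e := entries_of_eq hu
  simp only [mul00, mul01, mul10, mul11, one00, one01, one10, one11] at e
  obtain ⟨e00, e01, e10, e11⟩ := e
  have h01 : u 0 1 = 0 := by
    have : u 0 1 * (u 0 0 + u 1 1) = 0 := by linear_combination e01
    rcases mul_eq_zero.mp this with h | h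
    · exact h
    · exact absurd h htr
  have h10 : u 1 0 = 0 := by
    have : u 1 0 * (u 0 0 + u 1 1) = 0 := by linear_combination e10
    rcases mul_eq_zero.mp this with h | h
    · exact h
    · exact absurd h htr
  rw [h01, h10] at e00 e11
  have : (u 0 0 + u 1 1) ^ 2 = 0 := by
    linear_combination e00 + e11 + (u 0 0 * u 1 1 + 1) * h2
  exact htr (pow_eq_zero_iff (two_ne_zero) |>.mp this)

theorem tr2_mul_self (h2 : (2 : F) = 0) (y : SL2) : tr2 (y * y) = tr2 y ^ 2 := by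
  unfold tr2
  have hd := det2 y
  simp only [mul00, mul11]
  linear_combination (-1 : F) * h2 - 2 * hd + 0 * h2

theorem tr2_pow_two_pow (h2 : (2 : F) = 0) (y : SL2) (n : ℕ) :
    tr2 (y ^ 2 ^ n) = tr2 y ^ 2 ^ n := by
  induction n with
  | zero => simp
  | succ n ih =>
    rw [pow_succ, pow_mul, pow_two, tr2_mul_self h2, ih, ← pow_mul]

theorem tr2_inv (y : SL2) : tr2 y⁻¹ = tr2 y := by
  unfold tr2
  rw [inv00, inv11]; ring

theorem tr2_one (h2 : (2 : F) = 0) : tr2 (1 : SL2) = 0 := by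
  unfold tr2
  rw [one00, one11]
  linear_combination h2

/-- an upper triangular element of square one is upper unitriangular (characteristic two) -/
theorem eq_ux_of_upper (h2 : (2 : F) = 0) (u : SL2) (hu : u * u = 1) (h10 : u 1 0 = 0) :
    u = ux (u 0 1) := by
  have htr := tr_zero_of_sq_one h2 u hu
  unfold tr2 at htr
  have hd := det2 u
  rw [h10] at hd
  have h00 : u 0 0 = 1 := by
    have : (u 0 0 - 1) ^ 2 = 0 := by
      linear_combination (-1 : F) * hd + u 0 0 * htr - u 0 0 * h2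
    have := pow_eq_zero_iff (two_ne_zero) |>.mp this
    linear_combination this
  have h11 : u 1 1 = 1 := by
    rw [h00] at hd
    linear_combination hd
  apply ext2 <;> simp [h00, h11, h10]

theorem ux_mul_ux (s t : F) : ux s * ux t = ux (s + t) := by
  apply ext2 <;> simp [mul00, mul01, mul10, mul11, add_comm]

/-- **Subfield lemma**: a subgroup of `SL₂(F)`, characteristic two, containing two non-commuting
involutions and all of whose traces lie in the subfield `E` is conjugate into `SL₂(E)`. -/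
theorem conj_le_subfield [Finite F] (h2 : (2 : F) = 0) (E : Subfield F) (Y : Subgroup SL2)
    (htr : ∀ y ∈ Y, tr2 y ∈ E) (u u' : SL2) (hu : u ∈ Y) (hu' : u' ∈ Y) (hu2 : u * u = 1)
    (hu'2 : u' * u' = 1) (hne : u * u' ≠ u' * u) :
    ∃ h : SL2, ∀ y ∈ Y, h * y * h⁻¹ ∈ (slMap E.subtype).range := by
  have h4 : (4 : F) = 0 := by linear_combination (2 : F) * h2
  have hneg : ∀ z : F, -z = z := fun z => by linear_combination (-z) * h2
  -- put `u` in upper triangular form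
  have htu : tr2 u ^ 2 = 4 := by rw [tr_zero_of_sq_one h2 u hu2, h4]; ring
  obtain ⟨c, hc⟩ := exists_conj_upper u htu
  set u₁ := c * u * c⁻¹ with hu₁
  set u₂ := c * u' * c⁻¹ with hu₂
  have hu₁2 : u₁ * u₁ = 1 := by
    have : c * u * c⁻¹ * (c * u * c⁻¹) = c * (u * u) * c⁻¹ := by group
    rw [hu₁, this, hu2]; group
  have hu₂2 : u₂ * u₂ = 1 := by
    have : c * u' * c⁻¹ * (c * u' * c⁻¹) = c * (u' * u') * c⁻¹ := by group
    rw [hu₂, this, hu'2]; group
  have hne' : u₁ * u₂ ≠ u₂ * u₁ := by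
    intro h
    apply hne
    have : c⁻¹ * (u₁ * u₂) * c = c⁻¹ * (u₂ * u₁) * c := by rw [h]
    rw [hu₁, hu₂] at this
    group at this
    exact this
  have e1 : u₁ = ux (u₁ 0 1) := eq_ux_of_upper h2 u₁ hu₁2 hc
  set v₀ := u₁ 0 1 with hv₀
  have hw₀ : u₂ 1 0 ≠ 0 := by
    intro h
    have e2 : u₂ = ux (u₂ 0 1) := eq_ux_of_upper h2 u₂ hu₂2 h
    apply hne'
    rw [e1, e2, ux_mul_ux, ux_mul_ux, add_comm]
  set w₀ := u₂ 1 0 with hw₀'
  have hv₀0 : v₀ ≠ 0 := by
    intro h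
    apply hne'
    rw [e1, h]
    have : ux (0 : F) = 1 := by apply ext2 <;> simp
    rw [this, one_mul, mul_one]
  have htr₂ : u₂ 0 0 + u₂ 1 1 = 0 := tr_zero_of_sq_one h2 u₂ hu₂2
  have hd₂ := det2 u₂
  -- move the fixed point of `u₂` to zero
  set t := (u₂ 0 0 + 1) / w₀ with ht
  have e2 : ux t * u₂ * (ux t)⁻¹ = uy w₀ := by
    have h11 : u₂ 1 1 = u₂ 0 0 := by linear_combination htr₂ - u₂ 0 0 * h2
    have htw : t * w₀ = u₂ 0 0 + 1 := by rw [ht]; field_simp
    rw [h11] at hd₂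
    apply ext2
    · simp only [mul00, mul01, mul10, mul11, inv00, inv01, inv10, inv11, ux_00, ux_01, ux_10,
        ux_11, uy_00, uy_01, uy_10, uy_11]
      rw [h11]
      linear_combination htw + (u₂ 0 0) * h2
    · simp only [mul00, mul01, mul10, mul11, inv00, inv01, inv10, inv11, ux_00, ux_01, ux_10,
        ux_11, uy_00, uy_01, uy_10, uy_11]
      rw [h11]
      have : w₀ * ((1 * u₂ 0 0 + t * w₀) * -t + (1 * u₂ 0 1 + t * u₂ 0 0) * 1) = 0 := by
        have e : w₀ * ((1 * u₂ 0 0 + t * w₀) * -t + (1 * u₂ 0 1 + t * u₂ 0 0) * 1) =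
            -(u₂ 0 0 + t * w₀) * (t * w₀) + u₂ 0 1 * w₀ + u₂ 0 0 * (t * w₀) := by ring
        rw [e, htw]
        linear_combination (-1 : F) * hd₂ + (-(u₂ 0 0 + 1)) * h2
      rcases mul_eq_zero.mp this with h | h
      · exact absurd h hw₀
      · exact h
    · simp only [mul00, mul01, mul10, mul11, inv00, inv01, inv10, inv11, ux_00, ux_01, ux_10,
        ux_11, uy_00, uy_01, uy_10, uy_11]
      ring
    · simp only [mul00, mul01, mul10, mul11, inv00, inv01, inv10, inv11, ux_00, ux_01, ux_10,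
        ux_11, uy_00, uy_01, uy_10, uy_11]
      rw [h11]
      linear_combination (-1 : F) * htw + (-1 : F) * h2
  have e1' : ux t * u₁ * (ux t)⁻¹ = ux v₀ := by
    rw [e1, ux_mul_ux, mul_inv_eq_iff_eq_mul, ux_mul_ux, add_comm]
  set g := ux t * c with hg
  have eg1 : ∀ y : SL2, ux v₀ * (g * y * g⁻¹) = g * (u * y) * g⁻¹ := by
    intro y
    rw [← e1', hu₁, hg]; group
  have eg2 : ∀ y : SL2, uy w₀ * (g * y * g⁻¹) = g * (u' * y) * g⁻¹ := by
    intro y
    rw [← e2, hu₂, hg]; group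
  -- trace conditions
  have hT : ∀ y ∈ Y, tr2 (g * y * g⁻¹) ∈ E := fun y hy => by rw [tr2_conj]; exact htr y hy
  have hvw : v₀ * w₀ ∈ E := by
    have h1 := hT (u * u') (Y.mul_mem hu hu')
    have : g * (u * u') * g⁻¹ = ux v₀ * uy w₀ := by
      have := eg1 u'
      rw [← this]
      have h3 := eg2 1
      rw [mul_one, mul_one, mul_inv_cancel, mul_one] at h3
      rw [← h3]
    rw [this] at h1
    unfold tr2 at h1
    simp only [mul00, mul11, ux_00, ux_01, ux_10, ux_11, uy_00, uy_01, uy_10, uy_11] at h1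
    have e : v₀ * w₀ = 1 * 1 + v₀ * w₀ + (0 * 0 + 1 * 1) - 2 := by ring
    rw [e, h2, sub_zero]
    exact h1
  have hvw0 : v₀ * w₀ ≠ 0 := mul_ne_zero hv₀0 hw₀
  have key : ∀ y ∈ Y, (g * y * g⁻¹) 0 0 ∈ E ∧ v₀⁻¹ * (g * y * g⁻¹) 0 1 ∈ E ∧
      v₀ * (g * y * g⁻¹) 1 0 ∈ E ∧ (g * y * g⁻¹) 1 1 ∈ E := by
    intro y hy
    set y' := g * y * g⁻¹ with hy'
    have t0 : y' 0 0 + y' 1 1 ∈ E := hT y hy
    have t1 : tr2 (ux v₀ * y') ∈ E := by
      rw [hy', eg1]; exact hT _ (Y.mul_mem hu hy)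
    have t2 : tr2 (uy w₀ * y') ∈ E := by
      rw [hy', eg2]; exact hT _ (Y.mul_mem hu' hy)
    have t3 : tr2 (ux v₀ * (uy w₀ * y')) ∈ E := by
      rw [hy', eg2, eg1]; exact hT _ (Y.mul_mem hu (Y.mul_mem hu' hy))
    unfold tr2 at t1 t2 t3
    simp only [mul00, mul01, mul10, mul11, ux_00, ux_01, ux_10, ux_11, uy_00, uy_01, uy_10,
      uy_11] at t1 t2 t3
    have a1 : v₀ * y' 1 0 ∈ E := by
      have : v₀ * y' 1 0 = (1 * y' 0 0 + v₀ * y' 1 0 + (0 * y' 0 1 + 1 * y' 1 1)) -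
          (y' 0 0 + y' 1 1) := by ring
      rw [this]; exact E.sub_mem t1 t0
    have a2 : w₀ * y' 0 1 ∈ E := by
      have : w₀ * y' 0 1 = (1 * y' 0 0 + 0 * y' 1 0 + (w₀ * y' 0 1 + 1 * y' 1 1)) -
          (y' 0 0 + y' 1 1) := by ring
      rw [this]; exact E.sub_mem t2 t0
    have a3 : v₀ * w₀ * y' 0 0 ∈ E := by
      have : v₀ * w₀ * y' 0 0 = (1 * (1 * y' 0 0 + 0 * y' 1 0) + v₀ * (w₀ * y' 0 0 + 1 * y' 1 0) +
          (0 * (1 * y' 0 1 + 0 * y' 1 1) + 1 * (w₀ * y' 0 1 + 1 * y' 1 1))) -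
          (y' 0 0 + y' 1 1) - v₀ * y' 1 0 - w₀ * y' 0 1 := by ring
      rw [this]; exact E.sub_mem (E.sub_mem (E.sub_mem t3 t0) a1) a2
    have a4 : y' 0 0 ∈ E := by
      have : y' 0 0 = (v₀ * w₀)⁻¹ * (v₀ * w₀ * y' 0 0) := by field_simp
      rw [this]; exact E.mul_mem (E.inv_mem hvw) a3
    refine ⟨a4, ?_, a1, ?_⟩
    · have : v₀⁻¹ * y' 0 1 = (v₀ * w₀)⁻¹ * (w₀ * y' 0 1) := by field_simp
      rw [this]; exact E.mul_mem (E.inv_mem hvw) a2
    · have : y' 1 1 = (y' 0 0 + y' 1 1) - y' 0 0 := by ring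
      rw [this]; exact E.sub_mem t0 a4
  -- the square root
  have hch : ringChar F = 2 := by
    haveI : CharP F 2 := CharTwo.of_one_ne_zero_of_two_eq_zero one_ne_zero h2
    exact ringChar.eq F 2
  haveI : Fintype F := Fintype.ofFinite F
  obtain ⟨s, hs⟩ := FiniteField.isSquare_of_char_two hch v₀
  have hs0 : s ≠ 0 := by
    rintro rfl
    rw [mul_zero] at hs
    exact hv₀0 hs
  refine ⟨(dg s hs0)⁻¹ * g, ?_⟩
  intro y hy
  obtain ⟨k00, k01, k10, k11⟩ := key y hy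
  set y' := g * y * g⁻¹ with hy'
  have hconj : (dg s hs0)⁻¹ * g * y * ((dg s hs0)⁻¹ * g)⁻¹ = (dg s hs0)⁻¹ * y' * dg s hs0 := by
    rw [hy']; group
  rw [hconj]
  have hdy := det2 y'
  have hdet : (⟨y' 0 0, k00⟩ : E) * ⟨y' 1 1, k11⟩ - ⟨v₀⁻¹ * y' 0 1, k01⟩ * ⟨v₀ * y' 1 0, k10⟩ = 1 := by
    apply Subtype.ext
    show y' 0 0 * y' 1 1 - v₀⁻¹ * y' 0 1 * (v₀ * y' 1 0) = 1
    have e : y' 0 0 * y' 1 1 - v₀⁻¹ * y' 0 1 * (v₀ * y' 1 0) =
        y' 0 0 * y' 1 1 - y' 0 1 * y' 1 0 := by field_simp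
    rw [e]; exact hdy
  refine ⟨mk2 ⟨y' 0 0, k00⟩ ⟨v₀⁻¹ * y' 0 1, k01⟩ ⟨v₀ * y' 1 0, k10⟩ ⟨y' 1 1, k11⟩ hdet, ?_⟩
  apply ext2
  · rw [slMap_apply]
    simp only [mul00, mul01, mul10, mul11, inv00, inv01, inv10, inv11, dg_00, dg_01, dg_10, dg_11,
      mk2_00, Subfield.coe_subtype]
    field_simp
    ring
  · rw [slMap_apply]
    simp only [mul00, mul01, mul10, mul11, inv00, inv01, inv10, inv11, dg_00, dg_01, dg_10, dg_11,
      mk2_01, Subfield.coe_subtype]
    rw [hs]; field_simp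
    ring
  · rw [slMap_apply]
    simp only [mul00, mul01, mul10, mul11, inv00, inv01, inv10, inv11, dg_00, dg_01, dg_10, dg_11,
      mk2_10, Subfield.coe_subtype]
    rw [hs]; ring
  · rw [slMap_apply]
    simp only [mul00, mul01, mul10, mul11, inv00, inv01, inv10, inv11, dg_00, dg_01, dg_10, dg_11,
      mk2_11, Subfield.coe_subtype]
    field_simp
    ring

end Cfsg.Agent.Lib.Helper41.DkChar2
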