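import Cfsg.Agent.Lib.Helper41.StnMain
import Cfsg.Prelude.Def_KGroupFacts

/-! # Sm hive (S2086, owner helper39), PART TOP, leaf TOP-SL: core.

`SL_n(F_q)` has trivial Schur multiplier as soon as `St_n(F_q)` is centrally closed (hypothesis `hcc`), via the
Steinberg presentation `St_n(F_q) ≃* SL_n(F_q)` (S2401). -/

set_option autoImplicit false

namespace Cfsg.Agent.Lib.Helper39.Sm

open Matrix
open scoped commutatorElement

universe u

theorem topsl_ker_equiv {Γ G : Type*} [Group Γ] [Group G] (σ : Γ →* G) (h : σ.ker = ⊥) :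
    Nonempty (σ.ker ≃* Multiplicative (ZMod 1)) := by
  have : Subsingleton (Multiplicative (ZMod 1)) := inferInstanceAs (Subsingleton (Fin 1))
  refine ⟨{ toFun := fun _ => 1, invFun := fun _ => 1, left_inv := ?_, right_inv := ?_, map_mul' := ?_ }⟩
  · intro x
    have hx : (x : Γ) ∈ (⊥ : Subgroup Γ) := h ▸ x.2
    rw [Subgroup.mem_bot] at hx
    exact Subtype.ext hx.symm
  · intro y
    exact Subsingleton.elim _ _
  · intro x y
    simp

theorem topsl_surj_of_ker_bot {Γ G : Type*} [Group Γ] [Group G] (σ : Γ →* G) (h : σ.ker = ⊥) :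
    ∃ π : Multiplicative (ZMod 1) →* σ.ker, Function.Surjective π := by
  refine ⟨1, fun y => ⟨1, ?_⟩⟩
  have hy : (y : Γ) ∈ (⊥ : Subgroup Γ) := h ▸ y.2
  rw [Subgroup.mem_bot] at hy
  exact Subtype.ext (by simpa using hy.symm)

/-- a central extension with kernel inside the commutator subgroup that has a section is an isomorphism -/
theorem topsl_ker_eq_bot {Y S : Type*} [Group Y] [Group S] (φ : Y →* S)
    (hc : φ.ker ≤ Subgroup.center Y) (hk : φ.ker ≤ commutator Y)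
    (τ : S →* Y) (hτ : φ.comp τ = MonoidHom.id S) : φ.ker = ⊥ := by
  have hτ' : ∀ s, φ (τ s) = s := fun s => by
    have := congrArg (fun f => f s) hτ
    simpa using this
  -- every element is (kernel element) * (element of the range of τ)
  have hdec : ∀ y : Y, ∃ k ∈ φ.ker, y = k * τ (φ y) := fun y =>
    ⟨y * (τ (φ y))⁻¹, by simp [MonoidHom.mem_ker, hτ'], by simp⟩
  -- commutators lie in the range of τ
  have hcomm : commutator Y ≤ τ.range := by
    rw [commutator_eq_closure, Subgroup.closure_le]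
    rintro _ ⟨a, b, rfl⟩
    obtain ⟨k₁, hk₁, ha⟩ := hdec a
    obtain ⟨k₂, hk₂, hb⟩ := hdec b
    have c₁ := Subgroup.mem_center_iff.mp (hc hk₁)
    have c₂ := Subgroup.mem_center_iff.mp (hc hk₂)
    refine ⟨⁅φ a, φ b⁆, ?_⟩
    rw [map_commutatorElement]
    set r₁ := τ (φ a)
    set r₂ := τ (φ b)
    rw [ha, hb, commutatorElement_def, commutatorElement_def]
    have e1 : k₁ * r₁ * (k₂ * r₂) * (k₁ * r₁)⁻¹ * (k₂ * r₂)⁻¹ = r₁ * r₂ * r₁⁻¹ * r₂⁻¹ := by
      have h1 : k₁ * r₁ = r₁ * k₁ := (c₁ r₁).symm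
      have h2 : k₂ * r₂ = r₂ * k₂ := (c₂ r₂).symm
      have h3 : k₂ * r₁⁻¹ = r₁⁻¹ * k₂ := (c₂ r₁⁻¹).symm
      have h4 : k₁ * r₂ = r₂ * k₁ := (c₁ r₂).symm
      have h5 : k₁ * k₂ = k₂ * k₁ := (c₁ k₂).symm
      calc k₁ * r₁ * (k₂ * r₂) * (k₁ * r₁)⁻¹ * (k₂ * r₂)⁻¹
          = k₁ * r₁ * (k₂ * r₂) * (r₁⁻¹ * k₁⁻¹) * (r₂⁻¹ * k₂⁻¹) := by simp [_root_.mul_inv_rev]
        _ = r₁ * r₂ * r₁⁻¹ * r₂⁻¹ := by
            have hk1 : ∀ z : Y, k₁ * z = z * k₁ := fun z => (c₁ z).symm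
            have hk2 : ∀ z : Y, k₂ * z = z * k₂ := fun z => (c₂ z).symm
            have hk1' : ∀ z : Y, k₁⁻¹ * z = z * k₁⁻¹ := fun z => by
              have := hk1 z
              calc k₁⁻¹ * z = k₁⁻¹ * (z * k₁) * k₁⁻¹ := by group
                _ = k₁⁻¹ * (k₁ * z) * k₁⁻¹ := by rw [this]
                _ = z * k₁⁻¹ := by group
            have hk2' : ∀ z : Y, k₂⁻¹ * z = z * k₂⁻¹ := fun z => by
              have := hk2 z
              calc k₂⁻¹ * z = k₂⁻¹ * (z * k₂) * k₂⁻¹ := by group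
                _ = k₂⁻¹ * (k₂ * z) * k₂⁻¹ := by rw [this]
                _ = z * k₂⁻¹ := by group
            calc k₁ * r₁ * (k₂ * r₂) * (r₁⁻¹ * k₁⁻¹) * (r₂⁻¹ * k₂⁻¹)
                = k₁ * (r₁ * (k₂ * (r₂ * (r₁⁻¹ * (k₁⁻¹ * (r₂⁻¹ * k₂⁻¹)))))) := by group
              _ = k₁ * (r₁ * (k₂ * (r₂ * (r₁⁻¹ * ((r₂⁻¹ * k₂⁻¹) * k₁⁻¹))))) := by rw [hk1']
              _ = (k₁ * (r₁ * (k₂ * (r₂ * (r₁⁻¹ * (r₂⁻¹ * k₂⁻¹)))))) * k₁⁻¹ := by group
              _ = ((r₁ * (k₂ * (r₂ * (r₁⁻¹ * (r₂⁻¹ * k₂⁻¹))))) * k₁) * k₁⁻¹ := by rw [hk1]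
              _ = r₁ * (k₂ * (r₂ * (r₁⁻¹ * (r₂⁻¹ * k₂⁻¹)))) := by group
              _ = r₁ * ((r₂ * (r₁⁻¹ * (r₂⁻¹ * k₂⁻¹))) * k₂) := by rw [hk2]
              _ = r₁ * r₂ * r₁⁻¹ * r₂⁻¹ := by group
    rw [e1]
  refine (Subgroup.eq_bot_iff_forall _).mpr fun z hz => ?_
  obtain ⟨s, rfl⟩ := hcomm (hk hz)
  have : s = 1 := by
    have h1 : φ (τ s) = 1 := MonoidHom.mem_ker.mp hz
    rwa [hτ'] at h1
  rw [this, map_one]

/-- TOP-SL core: `hcc` = "`St_n(F)` is centrally closed" (for extensions in the universe of `F`) -/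
theorem topsl_core {F : Type u} [Field F] [Fintype F] (n : ℕ) (hn : 3 ≤ n)
    (hcc : ∀ (Y : Type u) [Group Y] (φ : Y →* Cfsg.Agent.Lib.Helper41.Stn.St F n),
      Function.Surjective φ → φ.ker ≤ Subgroup.center Y →
        ∃ τ : Cfsg.Agent.Lib.Helper41.Stn.St F n →* Y, φ.comp τ = MonoidHom.id _) :
    Cfsg.HasCyclicSchurMultiplier (SpecialLinearGroup (Fin n) F) 1 := by
  classical
  obtain ⟨e, -⟩ := Cfsg.Agent.Lib.Helper41.Stn.steinberg_presentation (K := F) hn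
  refine ⟨⟨SpecialLinearGroup (Fin n) F, inferInstance, inferInstance,
    MonoidHom.id _, ⟨Function.surjective_id, ?_, ?_⟩, ?_⟩, ?_⟩
  · rw [MonoidHom.ker_id]; exact bot_le
  · rw [MonoidHom.ker_id]; exact bot_le
  · exact topsl_ker_equiv _ MonoidHom.ker_id
  · intro Γ _ _ σ hσ
    obtain ⟨hs, hc, hk⟩ := hσ
    set φ : Γ →* Cfsg.Agent.Lib.Helper41.Stn.St F n := (e.symm : _ →* _).comp σ with hφdef
    have hker : φ.ker = σ.ker := by
      ext x
      simp only [MonoidHom.mem_ker, hφdef, MonoidHom.comp_apply]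
      constructor
      · intro h
        have := congrArg e h
        simpa using this
      · intro h
        rw [h]; simp
    have hφs : Function.Surjective φ := e.symm.surjective.comp hs
    obtain ⟨τ, hτ⟩ := hcc Γ φ hφs (hker ▸ hc)
    have hbot : φ.ker = ⊥ := topsl_ker_eq_bot φ (hker ▸ hc) (hker ▸ hk) τ hτ
    exact topsl_surj_of_ker_bot σ (hker ▸ hbot)

end Cfsg.Agent.Lib.Helper39.Sm
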