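import Mathlib

set_option autoImplicit false

/-! Definitions for the `p`-fusion system of `PSL_n(K)` in the defining characteristic: the upper
unitriangular subgroup `UU`, the upper triangular subgroup `BB`, the stabilisers `PRow a`, `PCol b` of
a coordinate line / hyperplane, their unipotent radicals `RRow a`, `RCol b`, and the torus elements. -/

namespace Cfsg.Agent.Lib.Helper41.PSLn

open Matrix

/-- in a finite group every submonoid is a subgroup -/
def ofSubmonoid {G : Type*} [Group G] [Finite G] (M : Submonoid G) : Subgroup G :=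
  { M with
    inv_mem' := by
      intro x hx
      have h1 := M.pow_mem hx (orderOf x - 1)
      have e : x⁻¹ = x ^ (orderOf x - 1) := by
        rw [inv_eq_iff_mul_eq_one, ← pow_succ', Nat.sub_add_cancel (orderOf_pos x),
          pow_orderOf_eq_one]
      show x⁻¹ ∈ M
      rw [e]
      exact h1 }

theorem mem_ofSubmonoid {G : Type*} [Group G] [Finite G] (M : Submonoid G) (x : G) :
    x ∈ ofSubmonoid M ↔ x ∈ M := Iff.rfl

variable (n : ℕ) (K : Type*) [Field K] [Fintype K]

/-- `SL_n(K)` -/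
abbrev SLn := Matrix.SpecialLinearGroup (Fin n) K

variable {n K}

theorem upper_mul {A B : Matrix (Fin n) (Fin n) K} (hA : ∀ i j : Fin n, j < i → A i j = 0)
    (hB : ∀ i j : Fin n, j < i → B i j = 0) : ∀ i j : Fin n, j < i → (A * B) i j = 0 := by
  intro i j hij
  rw [Matrix.mul_apply]
  apply Finset.sum_eq_zero
  intro k _
  by_cases hk : k < i
  · rw [hA i k hk, zero_mul]
  · rw [hB k j (lt_of_lt_of_le hij (not_lt.mp hk)), mul_zero]

theorem upper_mul_diag {A B : Matrix (Fin n) (Fin n) K} (hA : ∀ i j : Fin n, j < i → A i j = 0)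
    (hB : ∀ i j : Fin n, j < i → B i j = 0) (i : Fin n) : (A * B) i i = A i i * B i i := by
  rw [Matrix.mul_apply]
  apply Finset.sum_eq_single i
  · intro k _ hki
    rcases lt_or_gt_of_ne hki with h | h
    · rw [hA i k h, zero_mul]
    · rw [hB k i h, mul_zero]
  · intro h
    exact absurd (Finset.mem_univ i) h

variable (n K)

/-- upper triangular matrices, as a submonoid -/
def BBm : Submonoid (SLn n K) where
  carrier := {g | ∀ i j : Fin n, j < i → g.1 i j = 0}
  one_mem' := by
    intro i j hij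
    show (1 : Matrix (Fin n) (Fin n) K) i j = 0
    rw [Matrix.one_apply_ne (ne_of_gt hij)]
  mul_mem' := by
    intro a b ha hb
    exact upper_mul ha hb

/-- the upper triangular subgroup `B` -/
def BB : Subgroup (SLn n K) := ofSubmonoid (BBm n K)

/-- upper unitriangular matrices, as a submonoid -/
def UUm : Submonoid (SLn n K) where
  carrier := {g | (∀ i j : Fin n, j < i → g.1 i j = 0) ∧ ∀ i : Fin n, g.1 i i = 1}
  one_mem' := by
    refine ⟨?_, ?_⟩
    · intro i j hij
      show (1 : Matrix (Fin n) (Fin n) K) i j = 0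
      rw [Matrix.one_apply_ne (ne_of_gt hij)]
    · intro i
      show (1 : Matrix (Fin n) (Fin n) K) i i = 1
      rw [Matrix.one_apply_eq]
  mul_mem' := by
    rintro a b ⟨ha, ha1⟩ ⟨hb, hb1⟩
    refine ⟨upper_mul ha hb, fun i => ?_⟩
    show ((a : Matrix (Fin n) (Fin n) K) * (b : Matrix (Fin n) (Fin n) K)) i i = 1
    rw [upper_mul_diag ha hb, ha1, hb1, one_mul]

/-- the upper unitriangular subgroup `U` -/
def UU : Subgroup (SLn n K) := ofSubmonoid (UUm n K)

variable {n K}

theorem mem_BB {g : SLn n K} : g ∈ BB n K ↔ ∀ i j : Fin n, j < i → g.1 i j = 0 := Iff.rfl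

theorem mem_UU {g : SLn n K} :
    g ∈ UU n K ↔ (∀ i j : Fin n, j < i → g.1 i j = 0) ∧ ∀ i : Fin n, g.1 i i = 1 := Iff.rfl

theorem UU_le_BB : UU n K ≤ BB n K := fun _ h => h.1

theorem BB_diag_mul {a b : SLn n K} (ha : a ∈ BB n K) (hb : b ∈ BB n K) (i : Fin n) :
    (a * b).1 i i = a.1 i i * b.1 i i :=
  upper_mul_diag ha hb i

/-- `B` normalises `U` -/
theorem BB_normalizes_UU {b : SLn n K} (hb : b ∈ BB n K) {u : SLn n K} (hu : u ∈ UU n K) :
    b * u * b⁻¹ ∈ UU n K := by
  have hbi : b⁻¹ ∈ BB n K := (BB n K).inv_mem hb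
  have hub : u ∈ BB n K := UU_le_BB hu
  refine ⟨(BB n K).mul_mem ((BB n K).mul_mem hb hub) hbi, fun i => ?_⟩
  rw [BB_diag_mul ((BB n K).mul_mem hb hub) hbi, BB_diag_mul hb hub, hu.2 i, mul_one,
    ← BB_diag_mul hb hbi, mul_inv_cancel]
  show (1 : Matrix (Fin n) (Fin n) K) i i = 1
  rw [Matrix.one_apply_eq]

variable (n K)

/-- the stabiliser of the coordinate line `K e_a`: column `a` is a multiple of `e_a` -/
def PRowm (a : Fin n) : Submonoid (SLn n K) where
  carrier := {g | ∀ i : Fin n, i ≠ a → g.1 i a = 0}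
  one_mem' := by
    intro i hi
    show (1 : Matrix (Fin n) (Fin n) K) i a = 0
    rw [Matrix.one_apply_ne hi]
  mul_mem' := by
    intro x y hx hy i hi
    show ((x : Matrix (Fin n) (Fin n) K) * (y : Matrix (Fin n) (Fin n) K)) i a = 0
    rw [Matrix.mul_apply]
    apply Finset.sum_eq_zero
    intro k _
    by_cases hk : k = a
    · rw [hk, hx i hi, zero_mul]
    · rw [hy k hk, mul_zero]

/-- the stabiliser of the coordinate line `K e_a` -/
def PRow (a : Fin n) : Subgroup (SLn n K) := ofSubmonoid (PRowm n K a)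

/-- the stabiliser of the coordinate hyperplane `x_b = 0`: row `b` is a multiple of `e_bᵀ` -/
def PColm (b : Fin n) : Submonoid (SLn n K) where
  carrier := {g | ∀ j : Fin n, j ≠ b → g.1 b j = 0}
  one_mem' := by
    intro j hj
    show (1 : Matrix (Fin n) (Fin n) K) b j = 0
    rw [Matrix.one_apply_ne hj.symm]
  mul_mem' := by
    intro x y hx hy j hj
    show ((x : Matrix (Fin n) (Fin n) K) * (y : Matrix (Fin n) (Fin n) K)) b j = 0
    rw [Matrix.mul_apply]
    apply Finset.sum_eq_zero
    intro k _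
    by_cases hk : k = b
    · rw [hk, hy j hj, mul_zero]
    · rw [hx k hk, zero_mul]

/-- the stabiliser of the coordinate hyperplane `x_b = 0` -/
def PCol (b : Fin n) : Subgroup (SLn n K) := ofSubmonoid (PColm n K b)

/-- the elements `1 + e_a ψᵀ` with `ψ_a = 0`: all rows but row `a` are those of the identity -/
def RRowm (a : Fin n) : Submonoid (SLn n K) where
  carrier := {g | (∀ i : Fin n, i ≠ a → ∀ j : Fin n, g.1 i j = (1 : Matrix (Fin n) (Fin n) K) i j) ∧
    g.1 a a = 1}
  one_mem' := ⟨fun _ _ _ => rfl, Matrix.one_apply_eq a⟩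
  mul_mem' := by
    rintro x y ⟨hx, hxa⟩ ⟨hy, hya⟩
    refine ⟨?_, ?_⟩
    · intro i hi j
      show ((x : Matrix (Fin n) (Fin n) K) * (y : Matrix (Fin n) (Fin n) K)) i j = _
      rw [Matrix.mul_apply, Finset.sum_eq_single i]
      · rw [hx i hi i, Matrix.one_apply_eq, one_mul, hy i hi j]
      · intro k _ hki
        rw [hx i hi k, Matrix.one_apply_ne hki.symm, zero_mul]
      · intro h
        exact absurd (Finset.mem_univ i) h
    · show ((x : Matrix (Fin n) (Fin n) K) * (y : Matrix (Fin n) (Fin n) K)) a a = 1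
      rw [Matrix.mul_apply, Finset.sum_eq_single a]
      · rw [hxa, hya, one_mul]
      · intro k _ hka
        rw [hy k hka a, Matrix.one_apply_ne hka, mul_zero]
      · intro h
        exact absurd (Finset.mem_univ a) h

/-- the unipotent radical of `PRow a` -/
def RRow (a : Fin n) : Subgroup (SLn n K) := ofSubmonoid (RRowm n K a)

/-- the elements `1 + w e_bᵀ` with `w_b = 0`: all columns but column `b` are those of the identity -/
def RColm (b : Fin n) : Submonoid (SLn n K) where
  carrier := {g | (∀ j : Fin n, j ≠ b → ∀ i : Fin n, g.1 i j = (1 : Matrix (Fin n) (Fin n) K) i j) ∧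
    g.1 b b = 1}
  one_mem' := ⟨fun _ _ _ => rfl, Matrix.one_apply_eq b⟩
  mul_mem' := by
    rintro x y ⟨hx, hxb⟩ ⟨hy, hyb⟩
    refine ⟨?_, ?_⟩
    · intro j hj i
      show ((x : Matrix (Fin n) (Fin n) K) * (y : Matrix (Fin n) (Fin n) K)) i j = _
      rw [Matrix.mul_apply, Finset.sum_eq_single j]
      · rw [hy j hj j, Matrix.one_apply_eq, mul_one, hx j hj i]
      · intro k _ hkj
        rw [hy j hj k, Matrix.one_apply_ne hkj, mul_zero]
      · intro h
        exact absurd (Finset.mem_univ j) h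
    · show ((x : Matrix (Fin n) (Fin n) K) * (y : Matrix (Fin n) (Fin n) K)) b b = 1
      rw [Matrix.mul_apply, Finset.sum_eq_single b]
      · rw [hxb, hyb, one_mul]
      · intro k _ hkb
        rw [hx k hkb b, Matrix.one_apply_ne hkb.symm, zero_mul]
      · intro h
        exact absurd (Finset.mem_univ b) h

/-- the unipotent radical of `PCol b` -/
def RCol (b : Fin n) : Subgroup (SLn n K) := ofSubmonoid (RColm n K b)

variable {n K}

theorem mem_PRow {a : Fin n} {g : SLn n K} : g ∈ PRow n K a ↔ ∀ i : Fin n, i ≠ a → g.1 i a = 0 :=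
  Iff.rfl

theorem mem_PCol {b : Fin n} {g : SLn n K} : g ∈ PCol n K b ↔ ∀ j : Fin n, j ≠ b → g.1 b j = 0 :=
  Iff.rfl

theorem mem_RRow {a : Fin n} {g : SLn n K} : g ∈ RRow n K a ↔
    (∀ i : Fin n, i ≠ a → ∀ j : Fin n, g.1 i j = (1 : Matrix (Fin n) (Fin n) K) i j) ∧
      g.1 a a = 1 := Iff.rfl

theorem mem_RCol {b : Fin n} {g : SLn n K} : g ∈ RCol n K b ↔
    (∀ j : Fin n, j ≠ b → ∀ i : Fin n, g.1 i j = (1 : Matrix (Fin n) (Fin n) K) i j) ∧
      g.1 b b = 1 := Iff.rfl

/-- the diagonal element with entries `d` -/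
def dg (d : Fin n → K) (hd : ∏ i, d i = 1) : SLn n K :=
  ⟨Matrix.diagonal d, by rw [Matrix.det_diagonal, hd]⟩

theorem dg_coe (d : Fin n → K) (hd : ∏ i, d i = 1) :
    ((dg d hd : SLn n K) : Matrix (Fin n) (Fin n) K) = Matrix.diagonal d := rfl

/-- the entries of the torus element `h_{ij}(t)`: `t` at `i`, `t⁻¹` at `j`, `1` elsewhere -/
def hhFun (i j : Fin n) (t : Kˣ) : Fin n → K :=
  Function.update (Function.update (fun _ => (1 : K)) i (t : K)) j ((t⁻¹ : Kˣ) : K)

theorem prod_hhFun (i j : Fin n) (hij : i ≠ j) (t : Kˣ) : ∏ k, hhFun i j t k = 1 := by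
  classical
  rw [← Finset.mul_prod_erase Finset.univ _ (Finset.mem_univ j),
    ← Finset.mul_prod_erase (Finset.univ.erase j) _ (Finset.mem_erase.mpr ⟨hij, Finset.mem_univ i⟩)]
  have h1 : hhFun i j t j = ((t⁻¹ : Kˣ) : K) := by
    unfold hhFun
    rw [Function.update_self]
  have h2 : hhFun i j t i = (t : K) := by
    unfold hhFun
    rw [Function.update_of_ne hij, Function.update_self]
  have h3 : ∏ k ∈ (Finset.univ.erase j).erase i, hhFun i j t k = 1 := by
    apply Finset.prod_eq_one
    intro k hk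
    have hki : k ≠ i := (Finset.mem_erase.mp hk).1
    have hkj : k ≠ j := (Finset.mem_erase.mp (Finset.mem_erase.mp hk).2).1
    unfold hhFun
    rw [Function.update_of_ne hkj, Function.update_of_ne hki]
  rw [h1, h2, h3, mul_one, ← Units.val_mul, inv_mul_cancel, Units.val_one]

/-- the torus element `h_{ij}(t)` -/
def hh (i j : Fin n) (hij : i ≠ j) (t : Kˣ) : SLn n K := dg (hhFun i j t) (prod_hhFun i j hij t)

/-- the transvection `1 + c E_{ij}` -/
abbrev tv {i j : Fin n} (hij : i ≠ j) (c : K) : SLn n K :=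
  Matrix.SpecialLinearGroup.transvection hij c

end Cfsg.Agent.Lib.Helper41.PSLn
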