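import Mathlib

/-! # Steinberg presentation of `SL_n` (S2401): shared definitions (helper41, hive "Stn") -/

set_option autoImplicit false

namespace Cfsg.Agent.Lib.Helper41.Stn

open Matrix

/-- index type of the generators: ordered pairs of distinct indices -/
abbrev Idx (n : ℕ) := {ij : Fin n × Fin n // ij.1 ≠ ij.2}

/-- the relator set, verbatim from the frozen statement S2401 -/
def rels (K : Type*) [Field K] (n : ℕ) : Set (FreeGroup (Idx n × K)) :=
  {g : FreeGroup ({ij : Fin n × Fin n // ij.1 ≠ ij.2} × K) | ∃ (a : {ij : Fin n × Fin n // ij.1 ≠ ij.2}) (t u : K),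
      g = FreeGroup.of (a, t) * FreeGroup.of (a, u) * (FreeGroup.of (a, t + u))⁻¹} ∪
    {g | ∃ (a b : {ij : Fin n × Fin n // ij.1 ≠ ij.2}) (t u : K), a.1.1 ≠ b.1.2 ∧ a.1.2 ≠ b.1.1 ∧
      g = FreeGroup.of (a, t) * FreeGroup.of (b, u) * (FreeGroup.of (a, t))⁻¹ * (FreeGroup.of (b, u))⁻¹} ∪
    {g | ∃ (a b : {ij : Fin n × Fin n // ij.1 ≠ ij.2}) (h : a.1.1 ≠ b.1.2) (t u : K), a.1.2 = b.1.1 ∧
      g = FreeGroup.of (a, t) * FreeGroup.of (b, u) * (FreeGroup.of (a, t))⁻¹ * (FreeGroup.of (b, u))⁻¹ *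
        (FreeGroup.of (⟨(a.1.1, b.1.2), h⟩, t * u))⁻¹}

/-- the Steinberg group `St_n(K)` -/
abbrev St (K : Type*) [Field K] (n : ℕ) := PresentedGroup (rels K n)

variable {K : Type*} [Field K] {n : ℕ}

/-- total version of the generators: `xx i j t = x_ij(t)` for `i ≠ j`, and `1` for `i = j` -/
noncomputable def xx (i j : Fin n) (t : K) : St K n :=
  if h : i ≠ j then PresentedGroup.of (⟨(i, j), h⟩, t) else 1

/-- `w_ij(t) = x_ij(t) x_ji(-t⁻¹) x_ij(t)` -/
noncomputable def ww (i j : Fin n) (t : K) : St K n := xx i j t * xx j i (-t⁻¹) * xx i j t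

/-- `h_ij(t) = w_ij(t) w_ij(-1)` -/
noncomputable def hh (i j : Fin n) (t : K) : St K n := ww i j t * ww i j (-1)

/-- the "upper unitriangular" subgroup -/
def UU (K : Type*) [Field K] (n : ℕ) : Subgroup (St K n) :=
  Subgroup.closure {g | ∃ (i j : Fin n) (t : K), i < j ∧ g = xx i j t}

/-- the "torus" -/
def HH (K : Type*) [Field K] (n : ℕ) : Subgroup (St K n) :=
  Subgroup.closure {g | ∃ (i j : Fin n) (t : K), i ≠ j ∧ t ≠ 0 ∧ g = hh i j t}

/-- the "monomial subgroup" -/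
def NN (K : Type*) [Field K] (n : ℕ) : Subgroup (St K n) :=
  Subgroup.closure {g | ∃ (i j : Fin n) (t : K), i ≠ j ∧ t ≠ 0 ∧ g = ww i j t}

/-- the "Borel subgroup" -/
def BB (K : Type*) [Field K] (n : ℕ) : Subgroup (St K n) := UU K n ⊔ HH K n

/-- monomial data of `w_ij(t)`: `φ(w_ij(t)) e_a = mu i j t a • e_{swap i j a}` -/
def mu (i j : Fin n) (t : K) (a : Fin n) : K := if a = i then -t⁻¹ else if a = j then t else 1

/-- diagonal data of `h_ij(t)`: `φ(h_ij(t)) = diag(dd i j t)` -/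
def dd (i j : Fin n) (t : K) (a : Fin n) : K := if a = i then t else if a = j then t⁻¹ else 1

/-- a homomorphism `φ : St_n(K) → SL_n(K)` is *standard* if it maps `x_ij(t)` to the transvection `1 + t E_ij` -/
def IsStd (φ : St K n →* SpecialLinearGroup (Fin n) K) : Prop :=
  ∀ (a : Idx n) (t : K), ((φ (PresentedGroup.of (a, t)) : SpecialLinearGroup (Fin n) K) : Matrix (Fin n) (Fin n) K) =
    Matrix.transvection a.1.1 a.1.2 t

end Cfsg.Agent.Lib.Helper41.Stn
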