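import Mathlib
import Cfsg.Agent.Lib.Helper20.SuGrp

set_option autoImplicit false

/-! SU-F: `UU ⊓ SUJ` is generated by the upper Eichler elements `Sg F (eb a) w c`
(row clearing from the top row downwards). -/

namespace Cfsg.Agent.Lib.Helper20.SuF

open Matrix Subgroup Cfsg.Agent.Lib.Helper20.PslF

variable {n : ℕ} {K : Type*} [Field K] [Fintype K] (F : Inv K)

theorem f_inv_row {g : SLn n K} {x : Fin n}
    (h : ∀ j, mt g x j = (1 : Matrix (Fin n) (Fin n) K) x j) :
    ∀ j, mt g⁻¹ x j = (1 : Matrix (Fin n) (Fin n) K) x j := by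
  intro j
  have e := congrFun (congrFun (mt_mul_inv g) x) j
  rw [Matrix.mul_apply, Finset.sum_eq_single x] at e
  · rw [h x, Matrix.one_apply_eq, one_mul] at e
    exact e
  · intro k _ hk
    rw [h k, Matrix.one_apply_ne hk.symm, zero_mul]
  · intro hx
    exact absurd (Finset.mem_univ x) hx

theorem f_col_trivial {u : SLn n K} (hu : u ∈ SUJ F) (k : ℕ)
    (hrows : ∀ x : Fin n, (x : ℕ) < k → ∀ j, mt u x j = (1 : Matrix (Fin n) (Fin n) K) x j) :
    ∀ z : Fin n, ((Fin.rev z : Fin n) : ℕ) < k →
      ∀ y, mt u y z = (1 : Matrix (Fin n) (Fin n) K) y z := by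
  intro z hz y
  have hu' : u⁻¹ ∈ SUJ F := inv_mem hu
  have e := inv_apply_of_mem F hu' y z
  rw [inv_inv] at e
  rw [e, f_inv_row (hrows (Fin.rev z) hz) (Fin.rev y)]
  by_cases hyz : y = z
  · rw [hyz, Matrix.one_apply_eq, Matrix.one_apply_eq, map_one]
  · rw [Matrix.one_apply_ne hyz,
      Matrix.one_apply_ne (fun h => hyz (Fin.rev_injective h).symm), map_zero]

theorem f_Sm_eb_apply (a : Fin n) (w : Fin n → K) (c : K) (i j : Fin n) :
    Sm F (eb a) w c i j = (1 : Matrix (Fin n) (Fin n) K) i j +
      (if j = Fin.rev a then w i else 0) - (if i = a then F.sg (w (Fin.rev j)) else 0) +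
      (if i = a ∧ j = Fin.rev a then c else 0) := by
  rw [Sm_apply, eb_apply, eb_apply]
  have e : (Fin.rev j = a) ↔ (j = Fin.rev a) := by
    constructor
    · intro h
      rw [← h, Fin.rev_rev]
    · intro h
      rw [h, Fin.rev_rev]
  by_cases h1 : j = Fin.rev a <;> by_cases h2 : i = a <;> simp [h1, h2, e]

theorem f_Sg_mem_UU {a : Fin n} (har : a < Fin.rev a) {w : Fin n → K}
    (hsupp : ∀ x, w x ≠ 0 → a < x ∧ x < Fin.rev a) (c : K)
    (h1 : hf F (eb a : Fin n → K) (eb a) = 0) (h2 : hf F w (eb a) = 0) :
    Sg F (eb a) w c h1 h2 ∈ (UU : Subgroup (SLn n K)) := by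
  have hw0 : ∀ x, ¬ (a < x ∧ x < Fin.rev a) → w x = 0 := fun x hx => by
    by_contra h
    exact hx (hsupp x h)
  rw [mem_UU]
  refine ⟨fun x y hyx => ?_, fun x => ?_⟩
  · rw [mt_Sg, f_Sm_eb_apply, Matrix.one_apply_ne (ne_of_gt hyx), zero_add]
    have t1 : (if y = Fin.rev a then w x else 0) = 0 := by
      split_ifs with h
      · apply hw0
        rintro ⟨-, h'⟩
        rw [h] at hyx
        exact absurd hyx (not_lt.mpr h'.le)
      · rfl
    have t2 : (if x = a then F.sg (w (Fin.rev y)) else 0) = 0 := by
      split_ifs with h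
      · rw [hw0, map_zero]
        rintro ⟨-, h'⟩
        rw [Fin.rev_lt_rev] at h'
        rw [h] at hyx
        exact absurd hyx (not_lt.mpr h'.le)
      · rfl
    have t3 : (if x = a ∧ y = Fin.rev a then c else 0) = 0 := by
      rw [if_neg]
      rintro ⟨hx, hy⟩
      rw [hx, hy] at hyx
      exact absurd hyx (not_lt.mpr har.le)
    rw [t1, t2, t3]
    ring
  · rw [mt_Sg, f_Sm_eb_apply, Matrix.one_apply_eq]
    have t1 : (if x = Fin.rev a then w x else 0) = 0 := by
      split_ifs with h
      · apply hw0
        rintro ⟨-, h'⟩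
        rw [h] at h'
        exact lt_irrefl _ h'
      · rfl
    have t2 : (if x = a then F.sg (w (Fin.rev x)) else 0) = 0 := by
      split_ifs with h
      · rw [hw0, map_zero]
        rintro ⟨-, h'⟩
        rw [h] at h'
        exact lt_irrefl _ h'
      · rfl
    have t3 : (if x = a ∧ x = Fin.rev a then c else 0) = 0 := by
      rw [if_neg]
      rintro ⟨hx, hy⟩
      rw [hx] at hy
      exact (ne_of_lt har) hy
    rw [t1, t2, t3]
    ring

theorem f_key (H : Subgroup (SLn n K))
    (hH : ∀ (a : Fin n) (w : Fin n → K) (c : K) (h1 : hf F (eb a) (eb a) = 0)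
      (h2 : hf F w (eb a) = 0), a < Fin.rev a → (∀ x, w x ≠ 0 → a < x ∧ x < Fin.rev a) →
      c + F.sg c + hf F w w = 0 → Sg F (eb a) w c h1 h2 ∈ H) :
    ∀ d : ℕ, ∀ k : ℕ, k + d = n → ∀ u ∈ (UU : Subgroup (SLn n K)), u ∈ SUJ F →
      (∀ x : Fin n, (x : ℕ) < k → ∀ j, mt u x j = (1 : Matrix (Fin n) (Fin n) K) x j) →
      u ∈ H := by
  intro d
  induction d with
  | zero =>
    intro k hk u _ _ hrows
    have e : u = 1 := by
      apply mt_ext
      ext x j
      rw [mt_one]
      exact hrows x (by have := x.2; omega) j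
    rw [e]
    exact one_mem H
  | succ d ih =>
    intro k hk u huU huS hrows
    have hkn : k < n := by omega
    have hcols := f_col_trivial F huS k hrows
    have hlow : ∀ x y : Fin n, y < x → mt u x y = 0 := ((mem_UU u).mp huU).1
    have hdiag : ∀ x : Fin n, mt u x x = 1 := ((mem_UU u).mp huU).2
    by_cases har : (⟨k, hkn⟩ : Fin n) < Fin.rev ⟨k, hkn⟩
    · -- clear row `a`
      obtain ⟨a, hak⟩ : ∃ a : Fin n, (a : ℕ) = k := ⟨⟨k, hkn⟩, rfl⟩
      have haeq : a = ⟨k, hkn⟩ := Fin.ext hak
      rw [← haeq] at har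
      have hrow_lt : ∀ j, j < a → mt u a j = 0 := fun j hj => hlow a j hj
      have hrow_gt : ∀ j, Fin.rev a < j → mt u a j = 0 := by
        intro j hj
        have hj' : ((Fin.rev j : Fin n) : ℕ) < k := by
          have h3 := Fin.lt_def.mp hj
          rw [Fin.val_rev] at h3 ⊢
          have := j.2
          omega
        rw [hcols j hj' a, Matrix.one_apply_ne]
        intro h'
        rw [← h'] at hj
        exact absurd hj (not_lt.mpr har.le)
      have hex : ∃ w : Fin n → K, ∀ i, w i =
          if a < i ∧ i < Fin.rev a then - F.sg (mt u a (Fin.rev i)) else 0 :=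
        ⟨fun i => if a < i ∧ i < Fin.rev a then - F.sg (mt u a (Fin.rev i)) else 0, fun _ => rfl⟩
      obtain ⟨w, hw⟩ := hex
      obtain ⟨c, hc⟩ : ∃ c : K, c = mt u a (Fin.rev a) := ⟨_, rfl⟩
      have hw0 : ∀ x, ¬ (a < x ∧ x < Fin.rev a) → w x = 0 := fun x hx => by rw [hw, if_neg hx]
      have hwa : w a = 0 := hw0 a (fun h => lt_irrefl _ h.1)
      have hwra : w (Fin.rev a) = 0 := hw0 _ (fun h => lt_irrefl _ h.2)
      have h1 : hf F (eb a : Fin n → K) (eb a) = 0 := by
        rw [hf_eb_eb, if_neg (ne_of_lt har)]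
      have h2 : hf F w (eb a) = 0 := by
        rw [hf_eb_right]
        exact hwra
      have hsupp : ∀ x, w x ≠ 0 → a < x ∧ x < Fin.rev a := by
        intro x hx
        by_contra hcon
        exact hx (hw0 x hcon)
      have hsum : c + F.sg c + hf F w w = 0 := by
        have e := congrFun (congrFun (mul_adj_of_mem F huS) a) (Fin.rev a)
        rw [Matrix.mul_apply, Matrix.one_apply_ne (ne_of_lt har)] at e
        rw [← e]
        unfold hf
        have hterm : ∀ k' : Fin n, mt u a k' * adj F (mt u) k' (Fin.rev a) =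
            (if k' = a then F.sg c else 0) + (if k' = Fin.rev a then c else 0) +
              w k' * F.sg (w (Fin.rev k')) := by
          intro k'
          rw [adj_apply, Fin.rev_rev]
          by_cases hk1 : k' = a
          · rw [hk1, if_pos rfl, if_neg (ne_of_lt har), hdiag a, one_mul, add_zero, hwa, zero_mul,
              add_zero, hc]
          · by_cases hk2 : k' = Fin.rev a
            · rw [hk2, if_neg (ne_of_gt har), if_pos rfl, Fin.rev_rev, hdiag a, map_one, mul_one,
                zero_add, hwra, zero_mul, add_zero, hc]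
            · rw [if_neg hk1, if_neg hk2, zero_add, zero_add]
              by_cases hk3 : a < k' ∧ k' < Fin.rev a
              · have hk3' : a < Fin.rev k' ∧ Fin.rev k' < Fin.rev a :=
                  ⟨Fin.lt_rev_iff.mpr hk3.2, Fin.rev_lt_rev.mpr hk3.1⟩
                rw [hw k', hw (Fin.rev k'), if_pos hk3, if_pos hk3', Fin.rev_rev, map_neg, F.invol]
                ring
              · rw [hw0 k' hk3, zero_mul]
                rcases lt_or_gt_of_ne hk1 with h | h
                · rw [hrow_lt k' h, zero_mul]
                · have h3 : Fin.rev a < k' := by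
                    rcases lt_or_gt_of_ne hk2 with h' | h'
                    · exact absurd ⟨h, h'⟩ hk3
                    · exact h'
                  rw [hrow_gt k' h3, zero_mul]
        rw [Finset.sum_congr rfl (fun k' _ => hterm k')]
        simp only [Finset.sum_add_distrib, Finset.sum_ite_eq', Finset.mem_univ, if_true]
        ring
      have hsH : Sg F (eb a) w c h1 h2 ∈ H := hH a w c h1 h2 har hsupp hsum
      have hsS : Sg F (eb a) w c h1 h2 ∈ SUJ F := Sg_mem_SUJ F h1 h2 hsum
      have hsU : Sg F (eb a) w c h1 h2 ∈ (UU : Subgroup (SLn n K)) :=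
        f_Sg_mem_UU F har hsupp c h1 h2
      have hrow_s : ∀ j, mt (Sg F (eb a) w c h1 h2) a j = mt u a j := by
        intro j
        rw [mt_Sg, f_Sm_eb_apply, if_pos rfl, hwa]
        by_cases hj1 : j = a
        · rw [hj1, if_neg (ne_of_lt har), hwra, map_zero, Matrix.one_apply_eq, hdiag a,
            if_neg (fun h => (ne_of_lt har) h.2)]
          ring
        · by_cases hj2 : j = Fin.rev a
          · rw [hj2, if_pos rfl, Fin.rev_rev, hwa, map_zero, if_pos ⟨rfl, rfl⟩,
              Matrix.one_apply_ne (ne_of_lt har), hc]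
            ring
          · rw [if_neg hj2, if_neg (fun h => hj2 h.2), Matrix.one_apply_ne (fun h => hj1 h.symm)]
            by_cases hj3 : a < j ∧ j < Fin.rev a
            · have hj3' : a < Fin.rev j ∧ Fin.rev j < Fin.rev a :=
                ⟨Fin.lt_rev_iff.mpr hj3.2, Fin.rev_lt_rev.mpr hj3.1⟩
              rw [hw (Fin.rev j), if_pos hj3', Fin.rev_rev, map_neg, F.invol]
              ring
            · have hj3' : ¬ (a < Fin.rev j ∧ Fin.rev j < Fin.rev a) := by
                rintro ⟨h3, h4⟩
                exact hj3 ⟨Fin.rev_lt_rev.mp h4, Fin.lt_rev_iff.mp h3⟩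
              rw [hw0 _ hj3', map_zero]
              rcases lt_or_gt_of_ne hj1 with h | h
              · rw [hrow_lt j h]
                ring
              · have h3 : Fin.rev a < j := by
                  rcases lt_or_gt_of_ne hj2 with h' | h'
                  · exact absurd ⟨h, h'⟩ hj3
                  · exact h'
                rw [hrow_gt j h3]
                ring
      have hrows_s : ∀ x : Fin n, (x : ℕ) < k → ∀ j,
          mt (Sg F (eb a) w c h1 h2) x j = (1 : Matrix (Fin n) (Fin n) K) x j := by
        intro x hx j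
        have hxa : x ≠ a := by
          intro h
          rw [h, hak] at hx
          exact lt_irrefl _ hx
        have hxlt : x < a := by
          rw [Fin.lt_def, hak]
          exact hx
        have hwx : w x = 0 := hw0 x (fun h => absurd h.1 (not_lt.mpr hxlt.le))
        have hnot : ¬ (x = a ∧ j = Fin.rev a) := fun h => hxa h.1
        rw [mt_Sg, f_Sm_eb_apply, hwx, if_neg hxa, if_neg hnot]
        simp
      have hu' : u * (Sg F (eb a) w c h1 h2)⁻¹ ∈ H := by
        apply ih (k + 1) (by omega) _ (mul_mem huU (inv_mem hsU)) (mul_mem huS (inv_mem hsS))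
        intro x hx j
        rw [mt_mul, Matrix.mul_apply]
        by_cases hxk : (x : ℕ) < k
        · rw [Finset.sum_eq_single x]
          · rw [hrows x hxk x, Matrix.one_apply_eq, one_mul]
            exact f_inv_row (hrows_s x hxk) j
          · intro z _ hz
            rw [hrows x hxk z, Matrix.one_apply_ne hz.symm, zero_mul]
          · intro h
            exact absurd (Finset.mem_univ x) h
        · have hxa : x = a := Fin.ext (by rw [hak]; omega)
          rw [hxa]
          have e := congrFun (congrFun (mt_mul_inv (Sg F (eb a) w c h1 h2)) a) j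
          rw [Matrix.mul_apply] at e
          rw [← e]
          exact Finset.sum_congr rfl (fun z _ => by rw [hrow_s z])
      have e : u = (u * (Sg F (eb a) w c h1 h2)⁻¹) * Sg F (eb a) w c h1 h2 := by group
      rw [e]
      exact mul_mem hu' hsH
    · -- row `k` is already trivial
      apply ih (k + 1) (by omega) u huU huS
      intro x hx j
      by_cases hxk : (x : ℕ) < k
      · exact hrows x hxk j
      · have hxa : x = ⟨k, hkn⟩ := Fin.ext (by show (x : ℕ) = k; omega)
        rcases lt_trichotomy j x with h | h | h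
        · rw [hlow x j h, Matrix.one_apply_ne (ne_of_gt h)]
        · rw [h, hdiag x, Matrix.one_apply_eq]
        · have hj' : ((Fin.rev j : Fin n) : ℕ) < k := by
            have h3 := Fin.lt_def.mp h
            have h4 : ¬ (k < n - (k + 1)) := by
              intro h5
              apply har
              rw [Fin.lt_def, Fin.val_rev]
              exact h5
            rw [hxa] at h3
            rw [Fin.val_rev]
            have h6 : k < (j : ℕ) := h3
            have := j.2
            omega
          exact hcols j hj' x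

/-- SU-F (generation of the unitriangular part by upper Eichler elements) -/
theorem UU_le_of_Sg (H : Subgroup (SLn n K))
    (hH : ∀ (a : Fin n) (w : Fin n → K) (c : K) (h1 : hf F (eb a) (eb a) = 0)
      (h2 : hf F w (eb a) = 0), a < Fin.rev a → (∀ x, w x ≠ 0 → a < x ∧ x < Fin.rev a) →
      c + F.sg c + hf F w w = 0 → Sg F (eb a) w c h1 h2 ∈ H) :
    ∀ u ∈ (UU : Subgroup (SLn n K)), u ∈ SUJ F → u ∈ H := by
  intro u huU huS
  exact f_key F H hH n 0 (by omega) u huU huS (fun x hx => absurd hx (Nat.not_lt_zero _))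

end Cfsg.Agent.Lib.Helper20.SuF
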