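import Mathlib
import Cfsg.Agent.Lib.Helper3.SzC2a
import Cfsg.Agent.Lib.Helper55.SzCC2gh
import Cfsg.Agent.Lib.Helper55.SzCC3

set_option autoImplicit false
set_option linter.style.haveILetI false
set_option linter.unusedSectionVars false

/-! # S0347 part C, leaf C3c: the normaliser of the centraliser of a real fixed point free
element, when `|Q| = q²`. -/

namespace Cfsg.Agent.Lib.Helper3.Sz

open Cfsg MulAction
open Cfsg.Agent.Lib.Helper97.Zass
open Cfsg.Agent.Lib.Helper3.ZassOdd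
open Cfsg.Agent.Lib.Helper3.ZassFeit

section pure

variable {G : Type*} [Group G]

/-- an element of odd order group with `m * m = 1` is trivial. -/
theorem c3_eq_one_of_sq [Finite G] (M : Subgroup G) (hodd : Odd (Nat.card M)) {m : G}
    (hm : m ∈ M) (h2 : m * m = 1) : m = 1 := by
  obtain ⟨r, hr⟩ := hodd
  have h := congrArg Subtype.val (pow_card_eq_one' (G := M) (x := ⟨m, hm⟩))
  rw [hr] at h
  have h3 : m ^ (2 * r + 1) = 1 := by simpa using h
  rw [pow_succ, pow_mul, pow_two, h2, one_pow, one_mul] at h3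
  exact h3

/-- `M ∩ C(s) = 1`. -/
theorem c3_inter [Finite G] (M : Subgroup G) (s : G) (hodd : Odd (Nat.card M))
    (hinv : ∀ m ∈ M, s * m * s⁻¹ = m⁻¹) {m : G} (hm : m ∈ M) (hms : m * s = s * m) : m = 1 := by
  apply c3_eq_one_of_sq M hodd hm
  have h1 := hinv m hm
  have h2 : s * m * s⁻¹ = m := by rw [← hms]; group
  rw [h2] at h1
  calc m * m = m * m⁻¹ := by rw [← h1]
    _ = 1 := mul_inv_cancel m

/-- `N(M) = M (N(M) ∩ C(s))`. -/
theorem c3_split [Finite G] (M : Subgroup G) (s : G) (hodd : Odd (Nat.card M)) (hs2 : s * s = 1)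
    (hinv : ∀ m ∈ M, s * m * s⁻¹ = m⁻¹)
    (hcent : ∀ x : G, (∀ m ∈ M, x * m = m * x) → x ∈ M)
    (hcomm : ∀ x ∈ M, ∀ y ∈ M, x * y = y * x) :
    ∀ x ∈ Subgroup.normalizer (M : Set G), ∃ m ∈ M, (m * x) * s = s * (m * x) := by
  intro x hx
  have hkM : s * x * s * x⁻¹ ∈ M := by
    apply hcent
    intro m hm
    have hm1 : x⁻¹ * m * x ∈ M := by
      have := (Subgroup.mem_normalizer_iff.mp (Subgroup.inv_mem _ hx) m).mp hm
      simpa using this
    have e1 : s * (x⁻¹ * m * x) = (x⁻¹ * m * x)⁻¹ * s := mul_inv_eq_iff_eq_mul.mp (hinv _ hm1)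
    have e2 : s * m⁻¹ = m * s := by
      have := hinv _ (M.inv_mem hm)
      rw [inv_inv] at this
      exact mul_inv_eq_iff_eq_mul.mp this
    calc s * x * s * x⁻¹ * m = s * x * (s * (x⁻¹ * m * x)) * x⁻¹ := by group
      _ = s * x * ((x⁻¹ * m * x)⁻¹ * s) * x⁻¹ := by rw [e1]
      _ = (s * m⁻¹) * (x * s * x⁻¹) := by group
      _ = m * s * (x * s * x⁻¹) := by rw [e2]
      _ = m * (s * x * s * x⁻¹) := by group
  obtain ⟨r, hr⟩ := hodd
  have hkpow : (s * x * s * x⁻¹) ^ (2 * r + 1) = 1 := by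
    have h := congrArg Subtype.val (pow_card_eq_one' (G := M) (x := ⟨_, hkM⟩))
    rw [hr] at h
    simpa using h
  have hm2M : (s * x * s * x⁻¹) ^ (r + 1) ∈ M := M.pow_mem hkM _
  have hm2sq : (s * x * s * x⁻¹) ^ (r + 1) * (s * x * s * x⁻¹) ^ (r + 1) = s * x * s * x⁻¹ := by
    rw [← pow_add]
    have : r + 1 + (r + 1) = (2 * r + 1) + 1 := by ring
    rw [this, pow_succ, hkpow, one_mul]
  refine ⟨(s * x * s * x⁻¹) ^ (r + 1), hm2M, ?_⟩
  generalize hm2 : (s * x * s * x⁻¹) ^ (r + 1) = m2 at hm2M hm2sq ⊢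
  have e4 : s * m2⁻¹ = m2 * s := by
    have := hinv _ (M.inv_mem hm2M)
    rw [inv_inv] at this
    exact mul_inv_eq_iff_eq_mul.mp this
  have hxs : x * s = s * (s * x * s * x⁻¹) * x := by
    calc x * s = (s * s) * x * s := by rw [hs2, one_mul]
      _ = s * (s * x * s * x⁻¹) * x := by group
  calc (m2 * x) * s = m2 * (x * s) := by group
    _ = m2 * (s * (s * x * s * x⁻¹) * x) := by rw [hxs]
    _ = (m2 * s) * (s * x * s * x⁻¹) * x := by group
    _ = (s * m2⁻¹) * (m2 * m2) * x := by rw [e4, hm2sq]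
    _ = s * (m2 * x) := by group

/-- the order of the normaliser. -/
theorem c3_card [Finite G] (M : Subgroup G) (s : G) (hodd : Odd (Nat.card M)) (hs2 : s * s = 1)
    (hinv : ∀ m ∈ M, s * m * s⁻¹ = m⁻¹)
    (hcent : ∀ x : G, (∀ m ∈ M, x * m = m * x) → x ∈ M)
    (hcomm : ∀ x ∈ M, ∀ y ∈ M, x * y = y * x) :
    Nat.card (Subgroup.normalizer (M : Set G)) =
      Nat.card (Subgroup.normalizer (M : Set G) ⊓ Subgroup.centralizer ({s} : Set G) : Subgroup G) *
        Nat.card M := by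
  set T : Subgroup G := Subgroup.normalizer (M : Set G) ⊓ Subgroup.centralizer ({s} : Set G)
    with hT
  have hMN : M ≤ Subgroup.normalizer (M : Set G) := Subgroup.le_normalizer
  have hTN : T ≤ Subgroup.normalizer (M : Set G) := inf_le_left
  have hTs : ∀ t ∈ T, t * s = s * t := fun t ht =>
    Subgroup.mem_centralizer_singleton_iff.mp (Subgroup.mem_inf.mp ht).2
  let f : T × M → Subgroup.normalizer (M : Set G) := fun p =>
    ⟨(p.2 : G) * (p.1 : G), Subgroup.mul_mem _ (hMN p.2.2) (hTN p.1.2)⟩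
  have hinj : Function.Injective f := by
    rintro ⟨⟨t, ht⟩, ⟨m, hm⟩⟩ ⟨⟨t', ht'⟩, ⟨m', hm'⟩⟩ h
    have h1 : m * t = m' * t' := congrArg Subtype.val h
    have h2 : m'⁻¹ * m = t' * t⁻¹ := by
      calc m'⁻¹ * m = m'⁻¹ * (m * t) * t⁻¹ := by group
        _ = m'⁻¹ * (m' * t') * t⁻¹ := by rw [h1]
        _ = t' * t⁻¹ := by group
    have h3 : m'⁻¹ * m ∈ M := M.mul_mem (M.inv_mem hm') hm
    have h4 : t' * t⁻¹ ∈ T := T.mul_mem ht' (T.inv_mem ht)
    have h5 : m'⁻¹ * m = 1 := c3_inter M s hodd hinv h3 (by rw [h2]; exact hTs _ h4)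
    have h6 : m = m' := by
      have := congrArg (fun z => m' * z) h5
      simpa using this
    have h7 : t = t' := by
      rw [h5] at h2
      have := congrArg (fun z => z * t) h2
      simpa using this
    subst h6; subst h7; rfl
  have hsurj : Function.Surjective f := by
    rintro ⟨x, hx⟩
    obtain ⟨m, hm, hmx⟩ := c3_split M s hodd hs2 hinv hcent hcomm x hx
    have hmxT : m * x ∈ T := by
      rw [hT, Subgroup.mem_inf]
      exact ⟨Subgroup.mul_mem _ (hMN hm) hx, Subgroup.mem_centralizer_singleton_iff.mpr hmx⟩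
    refine ⟨⟨⟨m * x, hmxT⟩, ⟨m⁻¹, M.inv_mem hm⟩⟩, ?_⟩
    apply Subtype.ext
    show m⁻¹ * (m * x) = x
    group
  rw [← Nat.card_congr (Equiv.ofBijective f ⟨hinj, hsurj⟩), Nat.card_prod]

/-- an involution of `N(M) ∩ C(s)` centralising no nonidentity element of `M` is `s`. -/
theorem c3_uniq [Finite G] (M : Subgroup G) (s : G) (hodd : Odd (Nat.card M)) (hs2 : s * s = 1)
    (hinv : ∀ m ∈ M, s * m * s⁻¹ = m⁻¹)
    (hcent : ∀ x : G, (∀ m ∈ M, x * m = m * x) → x ∈ M)
    (hcomm : ∀ x ∈ M, ∀ y ∈ M, x * y = y * x) {u : G}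
    (huN : u ∈ Subgroup.normalizer (M : Set G)) (hus : u * s = s * u) (hu2 : u * u = 1)
    (hfree : ∀ m ∈ M, u * m = m * u → m = 1) : u = s := by
  have huinv : u⁻¹ = u := inv_eq_of_mul_eq_one_right hu2
  have hsinv : s⁻¹ = s := inv_eq_of_mul_eq_one_right hs2
  have hconj : ∀ m ∈ M, u * m * u⁻¹ ∈ M := fun m hm =>
    (Subgroup.mem_normalizer_iff.mp huN m).mp hm
  -- `u` inverts `M`
  have huM : ∀ m ∈ M, u * m * u⁻¹ = m⁻¹ := by
    intro m hm
    have hm' := hconj m hm
    have hk : m * (u * m * u⁻¹) = 1 := by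
      apply hfree _ (M.mul_mem hm hm')
      have h1 : u * (m * (u * m * u⁻¹)) = (u * m * u⁻¹) * (u * u) * m * u⁻¹ := by group
      rw [h1, hu2, mul_one, huinv]
      have h2 := hcomm _ hm' m hm
      rw [huinv] at h2
      calc u * m * u * m * u = (u * m * u * m) * u := by group
        _ = (m * (u * m * u)) * u := by rw [h2]
    exact (eq_inv_of_mul_eq_one_right hk)
  -- `u * s` centralises `M`
  have husM : u * s ∈ M := by
    apply hcent
    intro m hm
    have e1 : s * m = m⁻¹ * s := mul_inv_eq_iff_eq_mul.mp (hinv m hm)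
    have e2 : u * m⁻¹ = m * u := by
      have := huM _ (M.inv_mem hm)
      rw [inv_inv] at this
      exact mul_inv_eq_iff_eq_mul.mp this
    calc u * s * m = u * (s * m) := by group
      _ = u * (m⁻¹ * s) := by rw [e1]
      _ = (u * m⁻¹) * s := by group
      _ = m * u * s := by rw [e2]
      _ = m * (u * s) := by group
  have h1 : u * s = 1 := by
    apply c3_inter M s hodd hinv husM
    calc u * s * s = (s * u) * s := by rw [hus]
      _ = s * (u * s) := by group
  calc u = u * (s * s) := by rw [hs2, mul_one]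
    _ = (u * s) * s := by group
    _ = s := by rw [h1, one_mul]

/-- conjugation action of a subgroup `T` normalising `M` on the nonidentity elements of `M`. -/
@[reducible] def c3_act (M T : Subgroup G)
    (hT : ∀ t ∈ T, ∀ m ∈ M, t * m * t⁻¹ ∈ M) : MulAction T {m : G // m ∈ M ∧ m ≠ 1} where
  smul t x := ⟨(t : G) * x.1 * (t : G)⁻¹, hT t t.2 x.1 x.2.1, fun h => x.2.2 (by
    have h1 : x.1 = (t : G)⁻¹ * ((t : G) * x.1 * (t : G)⁻¹) * (t : G) := by group
    rw [h1, h]; group)⟩
  one_smul x := by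
    apply Subtype.ext
    show ((1 : T) : G) * x.1 * ((1 : T) : G)⁻¹ = x.1
    simp
  mul_smul s t x := by
    apply Subtype.ext
    show ((s * t : T) : G) * x.1 * ((s * t : T) : G)⁻¹
      = (s : G) * ((t : G) * x.1 * (t : G)⁻¹) * (s : G)⁻¹
    rw [Subgroup.coe_mul]; group

/-- a group acting freely by conjugation on `M ∖ 1` has order dividing `|M| - 1`. -/
theorem c3_dvd [Finite G] (M T : Subgroup G)
    (hT : ∀ t ∈ T, ∀ m ∈ M, t * m * t⁻¹ ∈ M)
    (hfree : ∀ t ∈ T, ∀ m ∈ M, m ≠ 1 → t * m * t⁻¹ = m → t = 1) :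
    Nat.card T ∣ Nat.card M - 1 := by
  letI := c3_act M T hT
  have hstab : ∀ x : {m : G // m ∈ M ∧ m ≠ 1}, MulAction.stabilizer T x = ⊥ := by
    intro x
    ext t
    rw [MulAction.mem_stabilizer_iff, Subgroup.mem_bot]
    constructor
    · intro h
      have h1 : (t : G) * x.1 * (t : G)⁻¹ = x.1 := congrArg Subtype.val h
      exact Subtype.ext (hfree t t.2 x.1 x.2.1 x.2.2 h1)
    · rintro rfl; exact one_smul _ _
  have h := Nat.card_congr (MulAction.selfEquivOrbitsQuotientProd hstab)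
  rw [Nat.card_prod] at h
  have hcard : Nat.card {m : G // m ∈ M ∧ m ≠ 1} = Nat.card M - 1 := by
    have e : {n : G // n ∈ M ∧ n ≠ 1} ≃ {n : M // n ≠ 1} :=
      { toFun := fun x => ⟨⟨x.1, x.2.1⟩, fun h => x.2.2 (congrArg Subtype.val h)⟩
        invFun := fun x => ⟨x.1.1, x.1.2, fun h => x.2 (Subtype.ext h)⟩
        left_inv := fun x => rfl
        right_inv := fun x => rfl }
    rw [Nat.card_congr e, Cfsg.Agent.Lib.Helper6.TI.card_ne_one]
  rw [← hcard, h]
  exact dvd_mul_left _ _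

end pure

variable {G Ω : Type*} [Group G] [MulAction G Ω] [Fintype Ω] {a b : Ω} {Q : Subgroup G} {q : ℕ}

/-- C3c. -/
theorem IsRealFpf.card_normalizer [Finite G] [IsSimpleGroup G] (c : Ctx G a b Q q)
    (hQ : Nat.card Q = q ^ 2) {g : G} (hg : IsRealFpf G Ω g) :
    ∃ t : ℕ, (t = 2 ∨ t = 4) ∧
      Nat.card (Subgroup.normalizer ((cen g : Subgroup G) : Set G)) = t * Nat.card (cen g) ∧
      t ∣ Nat.card (cen g) - 1 := by
  obtain ⟨hfpf, s, hs1, hs2, hsg⟩ := id hg
  have hsinv : s⁻¹ = s := inv_eq_of_mul_eq_one_right hs2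
  have hcomm := IsRealFpf.comm c hg
  have hinv := inverts_cen c hfpf hs1 hs2 hsg
  have hodd := (IsRealFpf.odd_card c hg).1
  have hcent : ∀ x : G, (∀ m ∈ cen g, x * m = m * x) → x ∈ cen g := by
    intro x hx
    rw [mem_cen]
    exact hx g (mem_cen.mpr rfl)
  set T : Subgroup G :=
    Subgroup.normalizer ((cen g : Subgroup G) : Set G) ⊓ Subgroup.centralizer ({s} : Set G) with hT
  have hTN : T ≤ Subgroup.normalizer ((cen g : Subgroup G) : Set G) := inf_le_left
  have hTs : ∀ t ∈ T, t * s = s * t := fun t ht =>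
    Subgroup.mem_centralizer_singleton_iff.mp (Subgroup.mem_inf.mp ht).2
  have hsT : s ∈ T := by
    rw [hT, Subgroup.mem_inf]
    refine ⟨?_, Subgroup.mem_centralizer_singleton_iff.mpr rfl⟩
    rw [Subgroup.mem_normalizer_iff]
    intro h
    constructor
    · intro hh
      rw [hinv h hh]; exact Subgroup.inv_mem _ hh
    · intro hh
      have h1 := hinv _ hh
      have h4 : h = (s * h * s⁻¹)⁻¹ := by
        rw [← h1]
        calc h = (s * s) * h * (s * s)⁻¹ := by rw [hs2]; group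
          _ = s * (s * h * s⁻¹) * s⁻¹ := by group
      rw [h4]
      exact Subgroup.inv_mem _ hh
  -- involutions of `T`
  have huniq : ∀ u ∈ T, u ≠ 1 → u * u = 1 → u = s := by
    intro u hu hu1 hu2
    apply c3_uniq (cen g) s hodd hs2 hinv hcent hcomm (hTN hu) (hTs u hu) hu2
    intro m hm hum
    by_contra hm1
    have hmf := (IsRealFpf.of_mem_cen c hg hm hm1).1
    obtain ⟨p, hp, hpu⟩ := c.exists_unique_fix hu1 hu2
    have h1 : u • (m • p) = m • p := by
      rw [← mul_smul, hum, mul_smul, hp]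
    exact hmf p (hpu _ h1)
  -- conjugate `T` into `Q`
  obtain ⟨w, hw⟩ := c.exists_conj_mem hs1 hs2
  have hw1 : w * s * w⁻¹ ≠ 1 := by
    intro h
    apply hs1
    have := congrArg (fun v => w⁻¹ * v * w) h
    simpa [mul_assoc] using this
  have hw2 : (w * s * w⁻¹) * (w * s * w⁻¹) = 1 := by
    calc (w * s * w⁻¹) * (w * s * w⁻¹) = w * (s * s) * w⁻¹ := by group
      _ = 1 := by rw [hs2]; group
  have hcQ := c.cent_inv hw hw1 hw2
  have hT' : T.map (MulAut.conj w).toMonoidHom ≤ Q := by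
    rintro x ⟨t, ht, rfl⟩
    rw [← hcQ, Subgroup.mem_centralizer_singleton_iff]
    show (w * t * w⁻¹) * (w * s * w⁻¹) = (w * s * w⁻¹) * (w * t * w⁻¹)
    calc (w * t * w⁻¹) * (w * s * w⁻¹) = w * (t * s) * w⁻¹ := by group
      _ = w * (s * t) * w⁻¹ := by rw [hTs t ht]
      _ = (w * s * w⁻¹) * (w * t * w⁻¹) := by group
  have hcardT' : Nat.card (T.map (MulAut.conj w).toMonoidHom) = Nat.card T :=
    Subgroup.card_map_of_injective (MulAut.conj w).injective
  have h24 : Nat.card T = 2 ∨ Nat.card T = 4 := by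
    rw [← hcardT']
    apply card_of_unique_inv c hQ _ hT' (s := w * s * w⁻¹)
      (Subgroup.mem_map.mpr ⟨s, hsT, rfl⟩) hw1 hw2
    rintro x ⟨t, ht, rfl⟩ hx1 hx2
    have ht1 : t ≠ 1 := by
      rintro rfl
      apply hx1
      simp
    have ht2 : t * t = 1 := by
      have h1 : (w * t * w⁻¹) * (w * t * w⁻¹) = 1 := hx2
      have h2 : t * t = w⁻¹ * ((w * t * w⁻¹) * (w * t * w⁻¹)) * w := by group
      rw [h2, h1]; group
    rw [huniq t ht ht1 ht2]
    rfl
  refine ⟨Nat.card T, h24, c3_card (cen g) s hodd hs2 hinv hcent hcomm, ?_⟩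
  apply c3_dvd (cen g) T
  · intro t ht m hm
    exact (Subgroup.mem_normalizer_iff.mp (hTN ht) m).mp hm
  · intro t ht m hm hm1 htm
    by_contra ht1
    have ht4 : t ^ 4 = 1 := by
      have h := congrArg Subtype.val (pow_card_eq_one' (G := T) (x := ⟨t, ht⟩))
      rcases h24 with h2 | h4
      · rw [h2] at h
        have h' : t ^ 2 = 1 := by simpa using h
        calc t ^ 4 = (t ^ 2) ^ 2 := by rw [← pow_mul]
          _ = 1 := by rw [h', one_pow]
      · rw [h4] at h
        simpa using h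
    have htm' : t * m = m * t := by
      calc t * m = (t * m * t⁻¹) * t := by group
        _ = m * t := by rw [htm]
    -- `s` commutes with `m`
    have hsm : m * s = s * m := by
      by_cases h2 : t * t = 1
      · rw [← huniq t ht ht1 h2]; exact htm'.symm
      · have h3 : (t * t) * (t * t) = 1 := by
          have e4 : (t * t) * (t * t) = t ^ 4 := by
            simp only [pow_succ, pow_zero, one_mul, mul_assoc]
          rw [e4, ht4]
        rw [← huniq (t * t) (T.mul_mem ht ht) h2 h3]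
        calc m * (t * t) = (m * t) * t := by group
          _ = (t * m) * t := by rw [htm']
          _ = t * (m * t) := by group
          _ = t * (t * m) := by rw [htm']
          _ = t * t * m := by group
    exact hm1 (c3_inter (cen g) s hodd hinv hm hsm)

end Cfsg.Agent.Lib.Helper3.Sz
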