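import Mathlib

set_option autoImplicit false

namespace Cfsg.Agent.Lib.Helper41

/-- Affine maps `x ↦ l x + c` of a field `K` whose linear part is an `m`-th root of unity. -/
@[ext] structure Aff (K : Type*) [Field K] (m : ℕ) where
  l : Kˣ
  c : K
  hl : l ^ m = 1

namespace Aff

variable {K : Type*} [Field K] {m : ℕ}

instance : Mul (Aff K m) :=
  ⟨fun x y => ⟨x.l * y.l, x.c + x.l * y.c, by rw [mul_pow, x.hl, y.hl, one_mul]⟩⟩

instance : One (Aff K m) := ⟨⟨1, 0, one_pow _⟩⟩

instance : Inv (Aff K m) :=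
  ⟨fun x => ⟨x.l⁻¹, -((x.l⁻¹ : Kˣ) : K) * x.c, by rw [inv_pow, x.hl, inv_one]⟩⟩

@[simp] theorem mul_l (x y : Aff K m) : (x * y).l = x.l * y.l := rfl
@[simp] theorem mul_c (x y : Aff K m) : (x * y).c = x.c + x.l * y.c := rfl
@[simp] theorem one_l : (1 : Aff K m).l = 1 := rfl
@[simp] theorem one_c : (1 : Aff K m).c = 0 := rfl
@[simp] theorem inv_l (x : Aff K m) : (x⁻¹).l = x.l⁻¹ := rfl
@[simp] theorem inv_c (x : Aff K m) : (x⁻¹).c = -((x.l⁻¹ : Kˣ) : K) * x.c := rfl

instance : Group (Aff K m) where
  mul_assoc x y z := by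
    ext
    · simp [mul_assoc]
    · simp [mul_add, add_assoc, mul_assoc]
  one_mul x := by ext <;> simp
  mul_one x := by ext <;> simp
  inv_mul_cancel x := by
    ext
    · simp
    · simp

theorem pow_l (x : Aff K m) (n : ℕ) : (x ^ n).l = x.l ^ n := by
  induction n with
  | zero => simp
  | succ n ih => rw [pow_succ, mul_l, ih, pow_succ]

theorem pow_c (x : Aff K m) (n : ℕ) :
    (x ^ n).c = x.c * ∑ i ∈ Finset.range n, ((x.l : K)) ^ i := by
  induction n with
  | zero => simp
  | succ n ih =>
    rw [pow_succ, mul_c, ih, pow_l, Finset.sum_range_succ]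
    push_cast
    ring

theorem eq_one_iff (x : Aff K m) : x = 1 ↔ x.l = 1 ∧ x.c = 0 := by
  constructor
  · rintro rfl; exact ⟨rfl, rfl⟩
  · rintro ⟨h1, h2⟩; ext
    · rw [h1]; rfl
    · rw [h2]; rfl

/-- Elements with non-trivial linear part have the order of the linear part. -/
theorem orderOf_eq_of_ne_one (x : Aff K m) (hx : x.l ≠ 1) : orderOf x = orderOf x.l := by
  rw [orderOf_eq_orderOf_iff]
  intro n
  rw [eq_one_iff, pow_l, pow_c]
  constructor
  · exact fun h => h.1
  · intro h
    refine ⟨h, ?_⟩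
    have hne : ((x.l : Kˣ) : K) - 1 ≠ 0 := by
      intro h0
      apply hx
      ext
      rw [Units.val_one]
      linear_combination h0
    have hgeom := geom_sum_mul ((x.l : Kˣ) : K) n
    have hpow : ((x.l : Kˣ) : K) ^ n = 1 := by
      rw [← Units.val_pow_eq_pow_val, h, Units.val_one]
    rw [hpow, sub_self] at hgeom
    have := (mul_eq_zero.mp hgeom).resolve_right hne
    rw [this, mul_zero]

/-- Translations have order dividing the characteristic. -/
theorem orderOf_of_eq_one (p : ℕ) [Fact p.Prime] [CharP K p] (x : Aff K m) (hx : x.l = 1)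
    (hc : x.c ≠ 0) : orderOf x = p := by
  apply orderOf_eq_prime
  · rw [eq_one_iff, pow_l, pow_c, hx]
    refine ⟨one_pow _, ?_⟩
    simp
  · intro h
    exact hc ((eq_one_iff x).mp h).2

variable [Fintype K]

instance : Finite (Aff K m) := by
  apply Finite.of_injective (fun x : Aff K m => (x.l, x.c))
  intro x y h
  simp only [Prod.mk.injEq] at h
  exact Aff.ext h.1 h.2

/-- The projection to the linear part. -/
def lin : Aff K m →* Kˣ where
  toFun x := x.l
  map_one' := rfl
  map_mul' _ _ := rfl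

instance : Group.IsSolvable (Aff K m) := by
  have hker : Group.IsSolvable (lin (K := K) (m := m)).ker := by
    apply Group.isSolvable_of_comm
    rintro ⟨a, ha⟩ ⟨b, hb⟩
    apply Subtype.ext
    rw [MonoidHom.mem_ker] at ha hb
    change a.l = 1 at ha
    change b.l = 1 at hb
    show a * b = b * a
    ext
    · simp [ha, hb]
    · simp [ha, hb, add_comm]
  exact Group.isSolvable_of_ker_le_range (lin (K := K) (m := m)).ker.subtype lin
    (by rw [Subgroup.range_subtype])

/-- The spectrum of the affine group. -/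
theorem range_orderOf (p : ℕ) [Fact p.Prime] [CharP K p] (hm : m ∣ Fintype.card K - 1) :
    Set.range (orderOf : Aff K m → ℕ) = {n : ℕ | n ∣ p ∨ n ∣ m} := by
  classical
  have hp : p.Prime := Fact.out
  ext n
  simp only [Set.mem_range, Set.mem_ofPred_eq]
  constructor
  · rintro ⟨x, rfl⟩
    by_cases hx : x.l = 1
    · left
      by_cases hc : x.c = 0
      · have : x = 1 := (eq_one_iff x).mpr ⟨hx, hc⟩
        rw [this, orderOf_one]; exact one_dvd _
      · rw [orderOf_of_eq_one p x hx hc]
    · right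
      rw [orderOf_eq_of_ne_one x hx]
      exact orderOf_dvd_of_pow_eq_one x.hl
  · rintro (h | h)
    · rcases (Nat.dvd_prime hp).mp h with rfl | rfl
      · exact ⟨1, orderOf_one⟩
      · exact ⟨⟨1, 1, one_pow _⟩, orderOf_of_eq_one n _ rfl one_ne_zero⟩
    · obtain ⟨g, hg⟩ := IsCyclic.exists_generator (α := Kˣ)
      have hog : orderOf g = Fintype.card K - 1 := by
        rw [orderOf_eq_card_of_forall_mem_zpowers hg, Nat.card_eq_fintype_card, Fintype.card_units]
      have hpos : 0 < orderOf g := orderOf_pos g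
      obtain ⟨e, he⟩ : n ∣ orderOf g := by rw [hog]; exact h.trans hm
      have he0 : e ≠ 0 := by
        rintro rfl
        rw [mul_zero] at he; omega
      have hord : orderOf (g ^ e) = n := by
        rw [orderOf_pow_of_dvd he0 ⟨n, by rw [he]; ring⟩, he]
        exact Nat.mul_div_cancel _ (Nat.pos_of_ne_zero he0)
      have hlm : (g ^ e) ^ m = 1 := by
        rw [← orderOf_dvd_iff_pow_eq_one, hord]; exact h
      by_cases h1 : g ^ e = 1
      · refine ⟨1, ?_⟩
        rw [orderOf_one, ← hord, h1, orderOf_one]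
      · refine ⟨⟨g ^ e, 0, hlm⟩, ?_⟩
        rw [orderOf_eq_of_ne_one _ h1, hord]

end Aff

end Cfsg.Agent.Lib.Helper41
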