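import Mathlib

set_option autoImplicit false

namespace Cfsg.Agent.Lib.Helper41

open Equiv

/-- Element orders of the alternating group of degree `n`, in terms of cycle types. -/
theorem mem_range_orderOf_alternating_iff (n m : ℕ) :
    m ∈ Set.range (orderOf : alternatingGroup (Fin n) → ℕ) ↔
      ∃ c : Multiset ℕ, (∀ a ∈ c, 2 ≤ a) ∧ c.sum ≤ n ∧ Even (c.sum + Multiset.card c) ∧
        c.lcm = m := by
  constructor
  · rintro ⟨⟨σ, hσ⟩, rfl⟩
    refine ⟨σ.cycleType, fun a ha => Perm.two_le_of_mem_cycleType ha, ?_, ?_, ?_⟩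
    · simpa using σ.sum_cycleType_le
    · rw [Perm.mem_alternatingGroup, Perm.sign_of_cycleType] at hσ
      by_contra hodd
      rw [Nat.not_even_iff_odd] at hodd
      rw [hodd.neg_one_pow] at hσ
      exact absurd hσ (by decide)
    · rw [Perm.lcm_cycleType]
      exact (Subgroup.orderOf_mk σ hσ).symm
  · rintro ⟨c, h2, hsum, heven, rfl⟩
    obtain ⟨σ, hσ⟩ := (Perm.exists_with_cycleType_iff (α := Fin n) (m := c)).mpr
      ⟨by simpa using hsum, h2⟩
    have hmem : σ ∈ alternatingGroup (Fin n) := by
      rw [Perm.mem_alternatingGroup, Perm.sign_of_cycleType, hσ, heven.neg_one_pow]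
    refine ⟨⟨σ, hmem⟩, ?_⟩
    rw [Subgroup.orderOf_mk, ← Perm.lcm_cycleType, hσ]

/-- Element orders of the symmetric group of degree `n`, in terms of cycle types. -/
theorem mem_range_orderOf_perm_iff (n m : ℕ) :
    m ∈ Set.range (orderOf : Perm (Fin n) → ℕ) ↔
      ∃ c : Multiset ℕ, (∀ a ∈ c, 2 ≤ a) ∧ c.sum ≤ n ∧ c.lcm = m := by
  constructor
  · rintro ⟨σ, rfl⟩
    exact ⟨σ.cycleType, fun a ha => Perm.two_le_of_mem_cycleType ha,
      by simpa using σ.sum_cycleType_le, Perm.lcm_cycleType σ⟩
  · rintro ⟨c, h2, hsum, rfl⟩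
    obtain ⟨σ, hσ⟩ := (Perm.exists_with_cycleType_iff (α := Fin n) (m := c)).mpr
      ⟨by simpa using hsum, h2⟩
    exact ⟨σ, by rw [← Perm.lcm_cycleType, hσ]⟩

/-- Exhaustive check over all compositions with parts at least 2 and sum at most `budget`:
`acc` is the lcm so far and `k` the sum plus the number of parts so far. -/
def chk (P : ℕ → Bool) : (fuel budget acc k : ℕ) → Bool
  | 0, _, _, _ => false
  | fuel + 1, budget, acc, k =>
    (k % 2 != 0 || P acc) &&
      (List.range (budget + 1)).all fun a =>
        decide (a < 2) || chk P fuel (budget - a) (Nat.lcm acc a) (k + a + 1)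

theorem chk_sound (P : ℕ → Bool) :
    ∀ (fuel budget acc k : ℕ), chk P fuel budget acc k = true →
      ∀ c : Multiset ℕ, (∀ a ∈ c, 2 ≤ a) → c.sum ≤ budget →
        Even (k + (c.sum + Multiset.card c)) → P (Nat.lcm acc c.lcm) = true := by
  intro fuel
  induction fuel with
  | zero => intro budget acc k h; simp [chk] at h
  | succ fuel ih =>
    intro budget acc k h c h2 hsum heven
    rw [chk, Bool.and_eq_true] at h
    obtain ⟨h0, hall⟩ := h
    rcases Multiset.empty_or_exists_mem c with rfl | ⟨a, ha⟩
    · simp only [Multiset.sum_zero, Multiset.card_zero, add_zero] at heven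
      have hk : k % 2 = 0 := Nat.even_iff.mp heven
      simpa [hk] using h0
    · obtain ⟨c', rfl⟩ := Multiset.exists_cons_of_mem ha
      rw [Multiset.sum_cons] at hsum
      rw [List.all_eq_true] at hall
      have ha2 : 2 ≤ a := h2 a (Multiset.mem_cons_self a c')
      have hmem : a ∈ List.range (budget + 1) := by
        rw [List.mem_range]; omega
      have h1 := hall a hmem
      have h1' : chk P fuel (budget - a) (Nat.lcm acc a) (k + a + 1) = true := by
        rcases Bool.or_eq_true _ _ |>.mp h1 with h | h
        · exact absurd (of_decide_eq_true h) (by omega)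
        · exact h
      have := ih (budget - a) (Nat.lcm acc a) (k + a + 1) h1' c'
        (fun b hb => h2 b (Multiset.mem_cons_of_mem hb)) (by omega)
        (by
          rw [Multiset.sum_cons, Multiset.card_cons] at heven
          have : k + a + 1 + (c'.sum + Multiset.card c') = k + (a + c'.sum + (Multiset.card c' + 1)) := by
            ring
          rw [this]; exact heven)
      rw [Multiset.lcm_cons, lcm_eq_nat_lcm, ← Nat.lcm_assoc]
      exact this

/-- If the exhaustive check succeeds, every element order of the alternating group of degree `n`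
satisfies `P`. -/
theorem forall_orderOf_alternating (P : ℕ → Bool) (n : ℕ) (h : chk P (n + 1) n 1 0 = true)
    (g : alternatingGroup (Fin n)) : P (orderOf g) = true := by
  obtain ⟨c, h2, hsum, heven, hc⟩ :=
    (mem_range_orderOf_alternating_iff n (orderOf g)).mp ⟨g, rfl⟩
  have := chk_sound P (n + 1) n 1 0 h c h2 hsum (by simpa using heven)
  rwa [Nat.lcm_one_left, hc] at this

/-- The same check ignoring signs (take `k` odd never: use `P` directly): for the symmetric group. -/
def chkS (P : ℕ → Bool) : (fuel budget acc : ℕ) → Bool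
  | 0, _, _ => false
  | fuel + 1, budget, acc =>
    P acc &&
      (List.range (budget + 1)).all fun a =>
        decide (a < 2) || chkS P fuel (budget - a) (Nat.lcm acc a)

theorem chkS_sound (P : ℕ → Bool) :
    ∀ (fuel budget acc : ℕ), chkS P fuel budget acc = true →
      ∀ c : Multiset ℕ, (∀ a ∈ c, 2 ≤ a) → c.sum ≤ budget → P (Nat.lcm acc c.lcm) = true := by
  intro fuel
  induction fuel with
  | zero => intro budget acc h; simp [chkS] at h
  | succ fuel ih =>
    intro budget acc h c h2 hsum
    rw [chkS, Bool.and_eq_true] at h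
    obtain ⟨h0, hall⟩ := h
    rcases Multiset.empty_or_exists_mem c with rfl | ⟨a, ha⟩
    · simpa using h0
    · obtain ⟨c', rfl⟩ := Multiset.exists_cons_of_mem ha
      rw [Multiset.sum_cons] at hsum
      rw [List.all_eq_true] at hall
      have ha2 : 2 ≤ a := h2 a (Multiset.mem_cons_self a c')
      have hmem : a ∈ List.range (budget + 1) := by
        rw [List.mem_range]; omega
      have h1 := hall a hmem
      have h1' : chkS P fuel (budget - a) (Nat.lcm acc a) = true := by
        rcases Bool.or_eq_true _ _ |>.mp h1 with h | h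
        · exact absurd (of_decide_eq_true h) (by omega)
        · exact h
      have := ih (budget - a) (Nat.lcm acc a) h1' c'
        (fun b hb => h2 b (Multiset.mem_cons_of_mem hb)) (by omega)
      rw [Multiset.lcm_cons, lcm_eq_nat_lcm, ← Nat.lcm_assoc]
      exact this

theorem forall_orderOf_perm (P : ℕ → Bool) (n : ℕ) (h : chkS P (n + 1) n 1 = true)
    (g : Perm (Fin n)) : P (orderOf g) = true := by
  obtain ⟨c, h2, hsum, hc⟩ := (mem_range_orderOf_perm_iff n (orderOf g)).mp ⟨g, rfl⟩
  have := chkS_sound P (n + 1) n 1 h c h2 hsum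
  rwa [Nat.lcm_one_left, hc] at this

end Cfsg.Agent.Lib.Helper41
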