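import Mathlib
import Cfsg.Agent.S5893

set_option autoImplicit false

/-!
# Characteristic two: a subgroup of `SL₂(F)` of PSL type is isomorphic to `PSL₂(F₀)`
(no maximality assumption; via helper21's S1230)
-/

namespace Cfsg.Agent.Lib.Helper41.DkChar2Iso

open Matrix Cfsg.Agent.Lib.Helper2.SL2 Cfsg.Agent.Lib.Helper14.Dk Cfsg.Agent.Lib.Helper41.DkOver
open Cfsg.Agent.Lib.Helper41.DkChar2
open Cfsg.Agent.S5893 (not_mem_ZZ_iff)

variable {F : Type*} [Field F] [Fintype F]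

local notation "SL2" => Matrix.SpecialLinearGroup (Fin 2) F

/-- In characteristic two a subgroup `Y ≤ SL₂(F)` of PSL type (helper14's numerical type) is
isomorphic to `PSL₂(F₀)` for a field `F₀` with `|F₀| ^ m = |F|`, `|F₀| ≥ 4`. -/
theorem psl_iso (heven : Even (Fintype.card F)) (Y : Subgroup SL2)
    (h : IsPSL (ZZ Y.subtype) (UU Y.subtype)) :
    ∃ (F₀ : Type) (_ : Field F₀) (_ : Fintype F₀) (m : ℕ), 1 ≤ m ∧ 4 ≤ Fintype.card F₀ ∧
      Fintype.card F₀ ^ m = Fintype.card F ∧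
      Nat.card Y = Fintype.card F₀ * (Fintype.card F₀ ^ 2 - 1) ∧
      Nonempty (Y ≃* Matrix.ProjectiveSpecialLinearGroup (Fin 2) F₀) := by
  classical
  have h2 : (2 : F) = 0 := two_eq_zero_of_even heven
  have h4F : (4 : F) = 0 := by linear_combination (2 : F) * h2
  have hch : ringChar F = 2 := FiniteField.even_card_iff_char_two.mpr (Nat.even_iff.mp heven)
  haveI : CharP F 2 := by rw [← hch]; exact ringChar.charP F
  haveI : Fact (Nat.Prime 2) := ⟨Nat.prime_two⟩
  have hτ : Function.Injective Y.subtype := Y.subtype_injective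
  have D := data_of_rep 2 Y.subtype hτ
  have hd1 : Nat.card (ZZ Y.subtype) = 1 := card_ZZ_of_even heven Y.subtype hτ
  have hZbot : ∀ y : ↥Y, y ∈ ZZ Y.subtype → y = 1 := by
    intro y hy
    by_contra h1
    exact ((not_mem_ZZ_iff heven Y y).mpr h1) hy
  obtain ⟨k, qH, g₂, g, hg, hk2, ⟨⟨x, hxZ, hUx⟩, hall⟩, hP, -, -, hTin⟩ := h
  rw [hd1, one_mul] at hg
  obtain ⟨hee, haa⟩ := hall x hxZ hUx
  obtain ⟨hle', hq3⟩ := psld_le hP hk2
  obtain ⟨m, hm1, hm⟩ := field_card_pow Y.subtype hτ hxZ hUx hee haa hle'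
  rw [hd1, one_mul] at haa
  -- the field has 2^a elements
  obtain ⟨a, ha⟩ := FiniteField.card F 2
  have hqa : Fintype.card F = 2 ^ (a : ℕ) := ha.2
  obtain ⟨b, hb, rfl⟩ : ∃ b, b ≤ (a : ℕ) ∧ qH = 2 ^ b := by
    apply (Nat.dvd_prime_pow Nat.prime_two).mp
    rw [← hqa, ← hm]
    exact dvd_pow_self qH (by omega)
  have hb1 : 1 ≤ b := by
    rcases Nat.eq_zero_or_pos b with rfl | h
    · simp at hq3
    · exact h
  have hev : Even (2 ^ b) := (Nat.even_pow' (by omega)).mpr even_two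
  obtain ⟨hk, hg₂, hgv⟩ : k + 1 = 2 ^ b ∧ g₂ = 2 ^ b + 1 ∧ g = 2 ^ b * k * g₂ := by
    rcases hP with ⟨h1, h2', h3⟩ | ⟨h1, -, -⟩ | ⟨h1, -, -, -⟩
    · exact ⟨h1, h2', h3⟩
    · exfalso
      rw [Nat.even_iff] at hev
      omega
    · exfalso
      rw [Nat.even_iff] at hev
      omega
  have hqH4 : 4 ≤ 2 ^ b := by
    rw [Nat.even_iff] at hev
    omega
  have hgf : g = 2 ^ b * ((2 ^ b) ^ 2 - 1) := by
    have e1 : (2 ^ b) ^ 2 - 1 = k * (k + 2) := by
      rw [← hk]
      have : (k + 1) ^ 2 = k * (k + 2) + 1 := by ring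
      omega
    rw [hgv, hg₂, e1, ← hk]; ring
  -- involutions
  have hexp : ∀ y ∈ M x, y * y = 1 := by
    intro y hy
    by_cases hyZ : y ∈ ZZ Y.subtype
    · rw [hZbot y hyZ, one_mul]
    · have hUy : UU Y.subtype y := D.U_comm x y hxZ hyZ (mem_M.mp hy) hUx
      have := D.U_pow y hyZ hUy
      rw [← pow_two]
      exact hZbot _ this
  have hT2 : IsPGroup 2 ↥(M x) := by
    intro y
    refine ⟨1, ?_⟩
    apply Subtype.ext
    rw [pow_one, pow_two]
    exact hexp y y.2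
  have hcardT : Nat.card (M x) = 2 ^ b := haa
  have hnn : nn x = g₂ := by
    have h1 := nn_mul_ee_mul_aa x
    rw [hee, haa, hg, hgv] at h1
    have : nn x * (k * 2 ^ b) = g₂ * (k * 2 ^ b) := by rw [← mul_assoc, h1]; ring
    exact Nat.eq_of_mul_eq_mul_right (Nat.mul_pos (by omega) (by omega)) this
  have hidx : ¬ 2 ∣ (M x).index := by
    have h1 := (M x).card_mul_index
    rw [hcardT, hg, hgv] at h1
    have h3 : (M x).index = k * g₂ := by
      have : 2 ^ b * (M x).index = 2 ^ b * (k * g₂) := by rw [h1]; ring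
      exact Nat.eq_of_mul_eq_mul_left (by omega) this
    rw [h3, hg₂]
    rw [Nat.even_iff] at hev
    intro hdvd
    have hko : k % 2 = 1 := by omega
    have hgo : (2 ^ b + 1) % 2 = 1 := by omega
    have : (k * (2 ^ b + 1)) % 2 = 1 := by rw [Nat.mul_mod, hko, hgo]
    omega
  let P : Sylow 2 ↥Y := hT2.toSylow hidx
  have hPT : (P : Subgroup ↥Y) = M x := IsPGroup.toSylow_coe hT2 hidx
  have hnc : ¬ IsCyclic (P : Subgroup ↥Y) := by
    rw [hPT]
    intro hcyc
    obtain ⟨y, hy⟩ := hcyc.exists_generator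
    have h1 : orderOf y = Nat.card (M x) := orderOf_eq_card_of_forall_mem_zpowers hy
    have h2' : y ^ 2 = 1 := by
      apply Subtype.ext
      rw [Subgroup.coe_pow, pow_two]
      exact hexp y y.2
    have h3 : orderOf y ≤ 2 := orderOf_le_of_pow_eq_one (by norm_num) h2'
    omega
  have hnotnorm : Subgroup.normalizer (M x : Set ↥Y) ≠ ⊤ := by
    intro h
    have : nn x = 1 := by unfold nn; rw [h, Subgroup.index_top]
    omega
  have hnn' : ¬ (P : Subgroup ↥Y).Normal := by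
    rw [hPT]
    intro hn
    exact hnotnorm (Subgroup.normalizer_eq_top_iff.mpr hn)
  have hC : ∀ t : ↥Y, orderOf t = 2 →
      IsMulCommutative (Subgroup.centralizer ({t} : Set ↥Y)) ∧
        ∀ c ∈ Subgroup.centralizer ({t} : Set ↥Y), c ^ 2 = 1 := by
    intro t hto
    have ht1 : t ≠ 1 := by
      intro h
      rw [h, orderOf_one] at hto
      omega
    have htt : t * t = 1 := by
      have := pow_orderOf_eq_one t
      rw [hto, pow_two] at this
      exact this
    have htZ : t ∉ ZZ Y.subtype := (not_mem_ZZ_iff heven Y t).mpr ht1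
    have hUt : UU Y.subtype t := by
      have h1 : (t : SL2) * (t : SL2) = 1 := congrArg Subtype.val htt
      have := tr_zero_of_sq_one h2 (t : SL2) h1
      show tr2 (t : SL2) ^ 2 = 4
      rw [this, h4F]; ring
    constructor
    · refine ⟨⟨fun c d => ?_⟩⟩
      apply Subtype.ext
      exact D.toCT.comm_of_mem htZ c.2 d.2
    · intro c hc
      by_cases hcZ : c ∈ ZZ Y.subtype
      · rw [hZbot c hcZ, one_pow]
      · have hc' : c ∈ M t := hc
        have hUc : UU Y.subtype c := D.U_comm t c htZ hcZ (mem_M.mp hc') hUt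
        exact hZbot _ (D.U_pow c hcZ hUc)
  obtain ⟨F₀, hF₀1, hF₀2, hF₀c, ⟨e⟩⟩ := Cfsg.Agent.S1230.result P hnc hnn' hC
  have hF₀card : Fintype.card F₀ = 2 ^ b := by rw [hF₀c, hPT, hcardT]
  refine ⟨F₀, hF₀1, hF₀2, m, hm1, by rw [hF₀card]; exact hqH4, by rw [hF₀card, hm], ?_, ⟨e⟩⟩
  rw [hF₀card, hg, hgf]

end Cfsg.Agent.Lib.Helper41.DkChar2Iso
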