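import Mathlib
import Cfsg.Agent.Lib.Helper41.DkOver
import Cfsg.Agent.S5943

set_option autoImplicit false

/-!
# Overgroups of the subfield subgroup `SL₂(K) ≤ SL₂(F)` in odd characteristic: numerics
-/

namespace Cfsg.Agent.Lib.Helper41.DkSubfield

open Matrix Cfsg.Agent.Lib.Helper2.SL2 Cfsg.Agent.Lib.Helper14.Dk Cfsg.Agent.Lib.Helper41.DkOver
open Cfsg.Agent.S5943 (slMap slMap_apply slMap_injective slMap_ux slMap_uy card_range_slMap)

theorem arith_odd (p a b : ℕ) (hp : 3 ≤ p) (ha : 1 ≤ a)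
    (hdvd : p ^ (2 * a) - 1 ∣ 2 * (p ^ (2 * b) - 1)) : a ∣ b := by
  have h1 : p ^ (2 * a) - 1 ∣ 2 * (p ^ (2 * a) - 1) := dvd_mul_left _ _
  have h2 : p ^ (2 * a) - 1 ∣ Nat.gcd (2 * (p ^ (2 * a) - 1)) (2 * (p ^ (2 * b) - 1)) :=
    Nat.dvd_gcd h1 hdvd
  rw [Nat.gcd_mul_left, Nat.pow_sub_one_gcd_pow_sub_one] at h2
  set G' := Nat.gcd (2 * a) (2 * b) with hG'
  have hG1 : G' ∣ 2 * a := Nat.gcd_dvd_left _ _
  have hG2 : G' ∣ 2 * b := Nat.gcd_dvd_right _ _
  have hGpos : 0 < G' := Nat.gcd_pos_of_pos_left _ (by omega)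
  by_cases hGa : G' = 2 * a
  · rw [hGa] at hG2
    exact (Nat.mul_dvd_mul_iff_left (by norm_num)).mp hG2
  · exfalso
    obtain ⟨t, ht⟩ := hG1
    have ht2 : 2 ≤ t := by
      rcases Nat.lt_or_ge t 2 with h | h
      · interval_cases t
        · omega
        · omega
      · exact h
    have hGle : G' ≤ a := by nlinarith
    have hpa : 3 ≤ p ^ a := by
      calc 3 ≤ p := hp
        _ = p ^ 1 := (pow_one p).symm
        _ ≤ p ^ a := Nat.pow_le_pow_right (by omega) ha
    have hpG : p ^ G' ≤ p ^ a := Nat.pow_le_pow_right (by omega) hGle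
    have hpG1 : 3 ≤ p ^ G' := by
      calc 3 ≤ p := hp
        _ = p ^ 1 := (pow_one p).symm
        _ ≤ p ^ G' := Nat.pow_le_pow_right (by omega) hGpos
    have hsq : p ^ (2 * a) = p ^ a * p ^ a := by rw [two_mul, pow_add]
    have hlt : 2 * (p ^ G' - 1) < p ^ (2 * a) - 1 := by
      rw [hsq]
      have : 3 * p ^ a ≤ p ^ a * p ^ a := Nat.mul_le_mul_right _ hpa
      omega
    have hpos : 0 < 2 * (p ^ G' - 1) := by omega
    have := Nat.le_of_dvd hpos h2
    omega

variable {F K : Type*} [Field F] [Field K] [Fintype F] [Fintype K]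

local notation "SL2" => Matrix.SpecialLinearGroup (Fin 2) F

omit [Fintype F] [Fintype K] in
theorem center_le_range (ι : K →+* F) : Subgroup.center SL2 ≤ (slMap ι).range := by
  intro g hg
  rcases (mem_center_iff_pm g).mp hg with rfl | rfl
  · exact Subgroup.one_mem _
  · refine ⟨-1, ?_⟩
    apply ext2 <;> simp [slMap_apply, neg00, neg01, neg10, neg11, one00, one01, one10, one11]

theorem odd_card_of_char (p : ℕ) [Fact p.Prime] [CharP F p] (hp2 : p ≠ 2) :
    Odd (Fintype.card F) := by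
  rcases Nat.even_or_odd (Fintype.card F) with h | h
  · exfalso
    have h1 : ringChar F = 2 := FiniteField.even_card_iff_char_two.mpr (Nat.even_iff.mp h)
    have h2 : ringChar F = p := ringChar.eq F p
    omega
  · exact h

/-- numerical shape of the overgroups of `SL₂(K)` in `SL₂(F)`, odd characteristic -/
theorem over_subfield (p : ℕ) [Fact p.Prime] [CharP F p] (hp2 : p ≠ 2) (ι : K →+* F) (a n : ℕ)
    (ha : 1 ≤ a) (hK : Fintype.card K = p ^ a) (hF : Fintype.card F = p ^ n) (Y : Subgroup SL2)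
    (hle : (slMap ι).range ≤ Y) :
    (Nat.card Y = 24 ∨ Nat.card Y = 48 ∨ Nat.card Y = 120) ∨
    ∃ b m, a ∣ b ∧ b * m = n ∧ 1 ≤ b ∧ (Nat.card Y = 2 * (p ^ b * (p ^ (2 * b) - 1)) ∨
      Nat.card Y = p ^ b * (p ^ (2 * b) - 1)) := by
  classical
  have hpp : p.Prime := Fact.out
  have hp3 : 3 ≤ p := by
    have := hpp.two_le
    omega
  have hodd : Odd (Fintype.card F) := odd_card_of_char p hp2
  have h2F : (2 : F) ≠ 0 := two_ne_zero_of_odd hodd
  have hZ : Subgroup.center SL2 ≤ Y := (center_le_range ι).trans hle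
  have hd : Nat.card (ZZ Y.subtype) = 2 := card_ZZ_of_odd hodd Y hZ
  have hx : ux (1 : F) ∈ Y := hle ⟨ux 1, by rw [slMap_ux, map_one]⟩
  have hy : uy (1 : F) ∈ Y := hle ⟨uy 1, by rw [slMap_uy, map_one]⟩
  have hab : ux (1 : F) ^ 2 * uy (1 : F) ^ 2 ≠ uy (1 : F) ^ 2 * ux (1 : F) ^ 2 := by
    intro h
    have h1 := (entries_of_eq h).1
    simp only [pow_two, mul00, mul01, mul10, mul11, ux_00, ux_01, ux_10, ux_11,
      uy_00, uy_01, uy_10, uy_11] at h1
    have : (2 : F) * 2 = 0 := by linear_combination h1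
    rcases mul_eq_zero.mp this with h | h <;> exact h2F h
  have hcH := card_range_slMap ι
  rw [hK, ← pow_mul, mul_comm a 2] at hcH
  have hdvd : Nat.card (slMap ι).range ∣ Nat.card Y := Subgroup.card_dvd_of_le hle
  rw [hcH] at hdvd
  rcases over_cases p Y hx hy _ _ hx hy hab with h | h | h | h
  · left; left; rw [h.1, hd]
  · left; right; left; rw [h.1, hd]
  · left; right; right; rw [h.1, hd]
  · obtain ⟨k, qH, g₂, g, m, hg, hk2, hP, hm1, hm⟩ := h
    rw [hd] at hg
    rw [hF] at hm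
    have hq3 : 3 ≤ qH := (psld_le hP hk2).2
    obtain ⟨b, hb, rfl⟩ : ∃ b, b ≤ n ∧ qH = p ^ b :=
      (Nat.dvd_prime_pow hpp).mp (hm ▸ dvd_pow_self qH (by omega))
    have hb1 : 1 ≤ b := by
      rcases Nat.eq_zero_or_pos b with rfl | h
      · simp at hq3
      · exact h
    have hbm : b * m = n := by
      rw [← pow_mul] at hm
      exact Nat.pow_right_injective hpp.two_le hm
    have hcop : Nat.Coprime (p ^ (2 * a) - 1) (p ^ b) := by
      apply Nat.Coprime.pow_right
      apply Nat.Coprime.symm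
      rw [hpp.coprime_iff_not_dvd]
      intro hdv
      have h1 : p ∣ p ^ (2 * a) := dvd_pow_self p (by omega)
      have h3 : 1 ≤ p ^ (2 * a) := Nat.one_le_pow _ _ (by omega)
      have h4 : p ∣ p ^ (2 * a) - (p ^ (2 * a) - 1) := Nat.dvd_sub h1 hdv
      have h5 : p ^ (2 * a) - (p ^ (2 * a) - 1) = 1 := by omega
      rw [h5] at h4
      have := Nat.le_of_dvd one_pos h4
      omega
    have hsq : p ^ (2 * b) = p ^ b * p ^ b := by rw [two_mul, pow_add]
    have hpb : 3 ≤ p ^ b := hq3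
    rcases hP with ⟨h1, h2', h3⟩ | ⟨h1, h2', h3⟩ | ⟨h1, h2', h3', h4⟩
    · -- PGL type
      have hgval : g = p ^ b * (p ^ (2 * b) - 1) := by
        have e1 : p ^ (2 * b) - 1 = k * (k + 2) := by
          rw [hsq, ← h1]
          have : (k + 1) * (k + 1) = k * (k + 2) + 1 := by ring
          omega
        rw [h3, h2', e1, ← h1]
        ring
      right
      refine ⟨b, m, ?_, hbm, hb1, Or.inl (by rw [hg, hgval])⟩
      apply arith_odd p a b hp3 ha
      have : p ^ (2 * a) - 1 ∣ p ^ b * (2 * (p ^ (2 * b) - 1)) := by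
        have h5 : p ^ (2 * a) - 1 ∣ 2 * g := by
          rw [← hg]
          exact (dvd_mul_left _ _).trans hdvd
        rw [hgval] at h5
        have e : p ^ b * (2 * (p ^ (2 * b) - 1)) = 2 * (p ^ b * (p ^ (2 * b) - 1)) := by ring
        rw [e]; exact h5
      exact hcop.dvd_of_dvd_mul_left this
    · -- PSL type
      have hgval : 2 * g = p ^ b * (p ^ (2 * b) - 1) := by
        have e1 : p ^ (2 * b) - 1 = (2 * k) * (2 * g₂) := by
          have : p ^ b * p ^ b = (2 * k) * (2 * g₂) + 1 := by rw [h2', ← h1]; ring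
          rw [hsq]
          omega
        rw [h3, e1, ← h1]
        ring
      right
      refine ⟨b, m, ?_, hbm, hb1, Or.inr (by rw [hg, hgval])⟩
      apply arith_odd p a b hp3 ha
      have : p ^ (2 * a) - 1 ∣ p ^ b * (p ^ (2 * b) - 1) := by
        rw [← hgval, ← hg]
        exact (dvd_mul_left _ _).trans hdvd
      exact (hcop.dvd_of_dvd_mul_left this).trans (dvd_mul_left _ _)
    · left; right; right
      rw [hg, h4]

end Cfsg.Agent.Lib.Helper41.DkSubfield
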