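import Cfsg.Agent.Lib.Helper76.E8mDefs
import Cfsg.Agent.Lib.Helper18.ChevCommSL

/-! # E8m hive (S2107, owner helper76): leaf E-PRES `exists_section_of_sys` (helper41).

A simply laced Steinberg system `S'` in `Y` whose elements map to the generators of `D.SteinbergCover K`
gives a section of `φ : Y →* D.SteinbergCover K`. -/

set_option autoImplicit false

universe u

namespace Cfsg.Agent.Lib.Helper76.E8m

open Cfsg Cfsg.Lie Cfsg.Agent.Lib.Helper39.Sm Cfsg.Agent.Lib.Helper18
open scoped commutatorElement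

section P
variable {D : ChevalleyDatum} {K : Type*} [Field K] {Y : Type*} [Group Y]

theorem pres_X_zero (S' : SLSys D K Y) (r : ℕ) : S'.X r 0 = 1 := by
  have h := S'.X_add r 0 0
  rw [add_zero] at h
  exact mul_eq_left.mp h

theorem pres_X_inv (S' : SLSys D K Y) (r : ℕ) (t : K) : (S'.X r t)⁻¹ = S'.X r (-t) := by
  rw [inv_eq_iff_mul_eq_one, S'.X_add, add_neg_cancel, pres_X_zero]

/-- the map on generators -/
def pres_f (S' : SLSys D K Y) : Fin D.nroots × K → Y := fun p => S'.X p.1 p.2

theorem pres_lift_stX (S' : SLSys D K Y) (r : ℕ) (hr : r < D.nroots) (t : K) :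
    FreeGroup.lift (pres_f S') (D.stX r t) = S'.X r t := by
  unfold ChevalleyDatum.stX
  rw [dif_pos hr, FreeGroup.lift_apply_of]
  rfl

theorem pres_rels (hSL : chkSL D = true) (hB : TabBasic D) (S' : SLSys D K Y) :
    ∀ g ∈ D.steinbergRelsAB K, FreeGroup.lift (pres_f S') g = 1 := by
  intro g hg
  rcases hg with ⟨r, t₁, t₂, hr, rfl⟩ | ⟨r, s, t, u, hr, hs, hsr, hsn, rfl⟩
  · simp only [map_mul, map_inv, pres_lift_stX S' r hr]
    rw [S'.X_add, mul_inv_cancel]
  · have l1 : (D.chainEntry r s).length ≤ 1 := by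
      rw [chainEntry_eq_findEntry]; exact findEntry_length_le D hSL r hr s
    have l2 : (D.chainEntry s r).length ≤ 1 := by
      rw [chainEntry_eq_findEntry]; exact findEntry_length_le D hSL s hs r
    have hct := commTerms_SL D r s l1 l2
    simp only [map_mul, map_inv, pres_lift_stX S' r hr, pres_lift_stX S' s hs]
    unfold ChevalleyDatum.commWord
    rw [hct]
    rcases hrs : D.chainEntry r s with _ | ⟨q, l⟩
    · -- commuting pair
      have hcm : Cm D r s := ⟨hr, hs, hsn, hrs⟩
      have hc := S'.X_cm r s hcm t u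
      simp only [List.map_nil, ChevalleyDatum.stWord, List.prod_nil, map_one, inv_one, mul_one]
      have : S'.X s u * S'.X r t = S'.X r t * S'.X s u := hc.eq.symm
      rw [mul_assoc, this, ← mul_assoc, mul_assoc (S'.X s u)⁻¹, inv_mul_cancel, mul_one, inv_mul_cancel]
    · -- one term
      have hsm : sm D r s = some q.1 := by
        unfold sm; rw [hrs]; rfl
      have hep : ep D r s = q.2 := by
        unfold ep; rw [hrs]; rfl
      obtain ⟨-, -, he⟩ := hB.sm_lt r s q.1 hsm
      obtain ⟨hsm', hep'⟩ := hB.sm_symm r s q.1 hsm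
      have hX := S'.X_sum s r q.1 hsm' (-u) (-t)
      rw [commutatorElement_def, ← pres_X_inv, ← pres_X_inv, inv_inv, inv_inv, hep', hep] at hX
      simp only [List.map_cons, List.map_nil, ChevalleyDatum.stWord, List.prod_cons, List.prod_nil, mul_one,
        pres_lift_stX S' q.1 he]
      rw [hX]
      have : ((-q.2 : ℤ) : K) * -u * -t = (q.2 : K) * (-t) ^ 1 * u ^ 1 := by
        push_cast; ring
      rw [this, mul_inv_cancel]

/-- E-PRES. -/
theorem exists_section_of_sys (hSL : chkSL D = true) (hB : TabBasic D) (S' : SLSys D K Y)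
    (φ : Y →* D.SteinbergCover K) (h : ∀ r, r < D.nroots → ∀ t : K, φ (S'.X r t) = D.scGen K r t) :
    ∃ τ : D.SteinbergCover K →* Y, φ.comp τ = MonoidHom.id (D.SteinbergCover K) := by
  refine ⟨PresentedGroup.toGroup (pres_rels hSL hB S'), ?_⟩
  apply PresentedGroup.ext
  intro x
  obtain ⟨⟨r, hr⟩, t⟩ := x
  rw [MonoidHom.comp_apply, PresentedGroup.toGroup.of, MonoidHom.id_apply]
  show φ (S'.X r t) = _
  rw [h r hr t]
  unfold ChevalleyDatum.scGen ChevalleyDatum.stX
  rw [dif_pos hr]
  rfl

end P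

end Cfsg.Agent.Lib.Helper76.E8m
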