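import Mathlib
import Cfsg.Agent.Lib.Helper95.FusionSimple
import Cfsg.Agent.Lib.Helper95.FusionTransport
import Cfsg.Agent.Lib.Helper87.ExtendAut
import Cfsg.Agent.Lib.Helper88.Abelian
import Cfsg.Agent.S5119

set_option autoImplicit false

/-! A simplicity criterion for the fusion system of a finite group on a Sylow `p`-subgroup `S` whose
normaliser is `S ⟨c⟩ C(S)` with `c` of order three: no proper non-trivial strongly closed subgroup, and
a subgroup `R` normal in `S` such that `c` is a product of `N(R)`-conjugates of elements of `S`. -/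

namespace Cfsg.Agent.Lib.Helper41.FusionC3

open Cfsg Cfsg.FusionSystem Cfsg.Agent.Lib.Helper95.Fusion Cfsg.Agent.Lib.Helper87

variable {G : Type*} [Group G]

/-- if an element `e` with `e ^ 3 = 1` acts on `R` like an element `s` with `s ^ N = 1`, `3 ∤ N`,
then `e` centralises `R` -/
theorem centralizes_of_acts_like {R : Subgroup G} {e s : G} {N : ℕ} (he3 : e ^ 3 = 1)
    (heR : e ∈ Subgroup.normalizer (R : Set G)) (hsN : s ^ N = 1) (hN : ¬ 3 ∣ N)
    (h : ∀ y ∈ R, e * y * e⁻¹ = s * y * s⁻¹) : ∀ y ∈ R, e * y * e⁻¹ = y := by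
  have hmemR : ∀ k : ℕ, ∀ y ∈ R, e ^ k * y * (e ^ k)⁻¹ ∈ R := by
    intro k y hy
    have : e ^ k ∈ Subgroup.normalizer (R : Set G) := pow_mem heR k
    exact (Subgroup.mem_normalizer_iff.mp this y).mp hy
  have hpow : ∀ k : ℕ, ∀ y ∈ R, e ^ k * y * (e ^ k)⁻¹ = s ^ k * y * (s ^ k)⁻¹ := by
    intro k
    induction k with
    | zero => intro y _; simp
    | succ k ih =>
      intro y hy
      have h1 : e ^ (k + 1) * y * (e ^ (k + 1))⁻¹ = e * (e ^ k * y * (e ^ k)⁻¹) * e⁻¹ := by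
        rw [pow_succ']; group
      have h2 : s ^ (k + 1) * y * (s ^ (k + 1))⁻¹ = s * (s ^ k * y * (s ^ k)⁻¹) * s⁻¹ := by
        rw [pow_succ']; group
      rw [h1, h2, h _ (hmemR k y hy), ih y hy]
  have hNy : ∀ y ∈ R, e ^ N * y * (e ^ N)⁻¹ = y := by
    intro y hy
    rw [hpow N y hy, hsN]; simp
  have hmod : e ^ N = e ^ (N % 3) := by
    conv_lhs => rw [← Nat.div_add_mod N 3, pow_add, pow_mul, he3, one_pow, one_mul]
  have hcases : N % 3 = 1 ∨ N % 3 = 2 := by omega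
  intro y hy
  rcases hcases with h1 | h2
  · have := hNy y hy
    rw [hmod, h1, pow_one] at this
    exact this
  · have h4 : ∀ z ∈ R, e ^ 2 * z * (e ^ 2)⁻¹ = z := by
      intro z hz
      have := hNy z hz
      rw [hmod, h2] at this
      exact this
    have h5 : e = e ^ 2 * e ^ 2 := by
      rw [← pow_add]
      have : e ^ (2 + 2) = e ^ 3 * e := by rw [← pow_succ]
      rw [this, he3, one_mul]
    have h6 : e * y * e⁻¹ = e ^ 2 * (e ^ 2 * y * (e ^ 2)⁻¹) * (e ^ 2)⁻¹ := by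
      conv_lhs => rw [h5]
      group
    rw [h6, h4 y hy, h4 y hy]

/-- the criterion -/
theorem isSimple_of_c3 [Finite G] {p : ℕ} [Fact p.Prime] (S : Sylow p G) (hp3 : ¬ 3 ∣ p)
    (hS : (S : Subgroup G) ≠ ⊥) (hA : PropA (S : Subgroup G))
    (R : Subgroup G) (hRS : R ≤ (S : Subgroup G))
    (hSR : (S : Subgroup G) ≤ Subgroup.normalizer (R : Set G))
    (c g s₁ r₁ r₂ : G)
    (hcS : ∀ x ∈ (S : Subgroup G), c * x * c⁻¹ ∈ (S : Subgroup G))
    (hcR : c ∈ Subgroup.normalizer (R : Set G)) (hc3 : c ^ 3 = 1)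
    (hgR : g ∈ Subgroup.normalizer (R : Set G))
    (hs₁ : s₁ ∈ (S : Subgroup G)) (hr₁ : r₁ ∈ (S : Subgroup G)) (hr₂ : r₂ ∈ (S : Subgroup G))
    (hM1 : g * s₁ * g⁻¹ * s₁ * (g * s₁ * g⁻¹)⁻¹ = g * r₁)
    (hM2 : c⁻¹ * g * c⁻¹⁻¹ * g⁻¹ = c * r₂)
    (hN : ∀ n : G, (∀ x ∈ (S : Subgroup G), n * x * n⁻¹ ∈ (S : Subgroup G)) →
      ∃ j : ℕ, ∃ s ∈ (S : Subgroup G), ∀ x ∈ (S : Subgroup G),
        n * x * n⁻¹ = (c ^ j * s) * x * (c ^ j * s)⁻¹)
    (h3 : ∃ x ∈ R, c * x * c⁻¹ ≠ x) :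
    (groupFusionSystem (S : Subgroup G)).IsSimple p := by
  classical
  have hSp : IsPGroup p (S : Subgroup G) := S.isPGroup'
  have hFsat := Cfsg.Agent.Lib.Helper85.groupFusionSystem_isSaturated S
  refine ⟨hFsat, hS, ?_⟩
  intro T E hE
  obtain ⟨⟨hEsat, -, hsub, hsc, hinv, hfrat⟩, -⟩ := hE
  by_cases hT : T = ⊥
  · exact Or.inl hT
  right
  have hTS : T = (S : Subgroup G) := by
    apply hA T hsc.1 hT
    intro x hx g hg
    have hR : Subgroup.zpowers x ≤ T := by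
      rw [Subgroup.zpowers_le]
      exact hx
    have hφ : conjHom (Subgroup.zpowers x) g ∈
        (groupFusionSystem (S : Subgroup G)).Hom (Subgroup.zpowers x) := by
      refine ⟨hR.trans hsc.1, ?_, g, fun y => rfl⟩
      rintro ⟨y, k, rfl⟩
      rw [conjHom_apply]
      have : g * x ^ k * g⁻¹ = (g * x * g⁻¹) ^ k := by
        rw [conj_zpow]
      show g * x ^ k * g⁻¹ ∈ (S : Subgroup G)
      rw [this]
      exact Subgroup.zpow_mem _ hg k
    exact hsc.2 _ hR _ hφ ⟨x, Subgroup.mem_zpowers x⟩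
  subst hTS
  -- strong invariance
  have hstrong := (Cfsg.Agent.S5119.result p hSp (groupFusionSystem (S : Subgroup G)) hFsat E hsub
    hsc).mp ⟨hsub, hsc, hinv, hfrat⟩
  -- the subgroup of `N(R)` inducing automorphisms of `R` in `E`
  let A : Subgroup (Subgroup.normalizer (R : Set G)) := (E.autGroup R).comap R.normalizerMonoidHom
  have hA_iff : ∀ x : Subgroup.normalizer (R : Set G), x ∈ A ↔ conjHom R (x : G) ∈ E.Hom R := by
    intro x
    show R.normalizerMonoidHom x ∈ E.autGroup R ↔ _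
    rw [mem_autGroup_iff E hRS]
    have : R.subtype.comp (R.normalizerMonoidHom x).toMonoidHom = conjHom R (x : G) := by
      apply MonoidHom.ext
      intro y
      rfl
    rw [this]
  have hSA : ∀ s (hs : s ∈ (S : Subgroup G)), (⟨s, hSR hs⟩ : Subgroup.normalizer (R : Set G)) ∈ A := by
    intro s hs
    rw [hA_iff]
    exact E.conj_mem hRS hs
  have hAnormal : ∀ n x : Subgroup.normalizer (R : Set G), x ∈ A → n * x * n⁻¹ ∈ A := by
    intro n x hx
    rw [hA_iff] at hx ⊢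
    have hnN := n.2
    have hxN := x.2
    have hφQ : ∀ y : R, conjHom R (x : G) y ∈ R := by
      intro y
      exact (Subgroup.mem_normalizer_iff.mp hxN y).mp y.2
    have hψ : conjHom R (n : G) ∈ (groupFusionSystem (S : Subgroup G)).Hom R := by
      refine ⟨hRS, fun y => ?_, (n : G), fun y => rfl⟩
      exact hRS ((Subgroup.mem_normalizer_iff.mp hnN y).mp y.2)
    obtain ⟨χ, hχ, hχe⟩ := hstrong R R le_rfl hRS (conjHom R (x : G)) hx hφQ (conjHom R (n : G)) hψ
    have himg : (R.subgroupOf R).map (conjHom R (n : G)) = R := by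
      ext z
      constructor
      · rintro ⟨y, -, rfl⟩
        exact (Subgroup.mem_normalizer_iff.mp hnN y).mp y.2
      · intro hz
        have hy : (n : G)⁻¹ * z * (n : G) ∈ R := by
          have h1 : (n : G)⁻¹ ∈ Subgroup.normalizer (R : Set G) := inv_mem hnN
          have := (Subgroup.mem_normalizer_iff.mp h1 z).mp hz
          simpa using this
        refine ⟨⟨_, hy⟩, Subgroup.mem_subgroupOf.mpr hy, ?_⟩
        show (n : G) * ((n : G)⁻¹ * z * (n : G)) * (n : G)⁻¹ = z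
        group
    obtain ⟨χ', hχ', hχ'e⟩ := Cfsg.Agent.Lib.Helper88.hom_cast E himg hχ
    have hkey : ∀ y : R, ∀ hz : (n : G) * (y : G) * (n : G)⁻¹ ∈ R,
        χ' ⟨(n : G) * (y : G) * (n : G)⁻¹, hz⟩ = (n : G) * ((x : G) * (y : G) * (x : G)⁻¹) * (n : G)⁻¹ := by
      intro y hz
      have hz' : (n : G) * (y : G) * (n : G)⁻¹ ∈ (R.subgroupOf R).map (conjHom R (n : G)) := by
        rw [himg]; exact hz
      rw [hχ'e _ hz' hz]
      exact hχe y hz'
    have heq : conjHom R ((n * x * n⁻¹ : Subgroup.normalizer (R : Set G)) : G) = χ' := by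
      apply MonoidHom.ext
      intro z
      have hy : (n : G)⁻¹ * (z : G) * (n : G) ∈ R := by
        have h1 : (n : G)⁻¹ ∈ Subgroup.normalizer (R : Set G) := inv_mem hnN
        have := (Subgroup.mem_normalizer_iff.mp h1 z).mp z.2
        simpa using this
      have e1 : (n : G) * ((n : G)⁻¹ * (z : G) * (n : G)) * (n : G)⁻¹ = (z : G) := by group
      have hz2 : (n : G) * ((n : G)⁻¹ * (z : G) * (n : G)) * (n : G)⁻¹ ∈ R := by rw [e1]; exact z.2
      have h2 := hkey ⟨_, hy⟩ hz2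
      have e2 : (⟨(n : G) * ((n : G)⁻¹ * (z : G) * (n : G)) * (n : G)⁻¹, hz2⟩ : R) = z :=
        Subtype.ext e1
      rw [e2] at h2
      rw [h2]
      show ((n * x * n⁻¹ : Subgroup.normalizer (R : Set G)) : G) * (z : G) *
        ((n * x * n⁻¹ : Subgroup.normalizer (R : Set G)) : G)⁻¹ = _
      simp only [Subgroup.coe_mul, Subgroup.coe_inv]
      group
    rw [heq]
    exact hχ'
  -- `g` and `c` induce automorphisms of `R` in `E`
  have hgA : (⟨g, hgR⟩ : Subgroup.normalizer (R : Set G)) ∈ A := by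
    have h1 := hAnormal (⟨g, hgR⟩ * ⟨s₁, hSR hs₁⟩ * ⟨g, hgR⟩⁻¹) ⟨s₁, hSR hs₁⟩ (hSA s₁ hs₁)
    have h2 : (⟨g, hgR⟩ * ⟨s₁, hSR hs₁⟩ * ⟨g, hgR⟩⁻¹ : Subgroup.normalizer (R : Set G)) *
        ⟨s₁, hSR hs₁⟩ * (⟨g, hgR⟩ * ⟨s₁, hSR hs₁⟩ * ⟨g, hgR⟩⁻¹)⁻¹ = ⟨g, hgR⟩ * ⟨r₁, hSR hr₁⟩ := by
      apply Subtype.ext
      simp only [Subgroup.coe_mul, Subgroup.coe_inv]
      exact hM1
    rw [h2] at h1
    exact (Subgroup.mul_mem_cancel_right A (hSA r₁ hr₁)).mp h1
  have hcA : (⟨c, hcR⟩ : Subgroup.normalizer (R : Set G)) ∈ A := by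
    have h1 := hAnormal (⟨c, hcR⟩⁻¹) ⟨g, hgR⟩ hgA
    have h2 := A.mul_mem h1 (A.inv_mem hgA)
    have h3 : (⟨c, hcR⟩⁻¹ * ⟨g, hgR⟩ * (⟨c, hcR⟩⁻¹)⁻¹ : Subgroup.normalizer (R : Set G)) *
        (⟨g, hgR⟩)⁻¹ = ⟨c, hcR⟩ * ⟨r₂, hSR hr₂⟩ := by
      apply Subtype.ext
      simp only [Subgroup.coe_mul, Subgroup.coe_inv]
      exact hM2
    rw [h3] at h2
    exact (Subgroup.mul_mem_cancel_right A (hSA r₂ hr₂)).mp h2
  -- extension of conjugation by `c` on `R` to `S`
  have hfn : E.IsFullyNormalized R := by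
    refine ⟨hRS, fun Q _ => ?_⟩
    have e : normalizerIn (S : Subgroup G) R = (S : Subgroup G) :=
      le_antisymm inf_le_left (le_inf le_rfl hSR)
    rw [e]
    exact Subgroup.card_le_of_le inf_le_left
  have hν : conjAut R c hcR ∈ E.autGroup R := hcA
  have hNorm : ∀ a ∈ autInducedBy (S : Subgroup G) R,
      conjAut R c hcR * a * (conjAut R c hcR)⁻¹ ∈ autInducedBy (S : Subgroup G) R := by
    intro a ha
    obtain ⟨h, hh, hconj⟩ := (mem_autInducedBy_iff _ _ a).mp ha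
    refine (mem_autInducedBy_iff _ _ _).mpr ⟨c * h * c⁻¹, hcS h hh, fun x => ?_⟩
    have e1 : (((conjAut R c hcR)⁻¹ x : R) : G) = c⁻¹ * x * c := by
      have h1 := conjAut_coe R c hcR ((conjAut R c hcR)⁻¹ x)
      rw [MulAut.apply_inv_self] at h1
      rw [h1]; group
    show ((conjAut R c hcR (a ((conjAut R c hcR)⁻¹ x)) : R) : G) = _
    rw [conjAut_coe, hconj, e1]
    group
  obtain ⟨ψ, hψ, hψe⟩ := extend_of_normalizes hSp E hEsat hfn hν hNorm
  have hNS : normalizerIn (S : Subgroup G) R = (S : Subgroup G) :=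
    le_antisymm inf_le_left (le_inf le_rfl hSR)
  obtain ⟨ψ', hψ', hψ'e⟩ := Cfsg.Agent.Lib.Helper88.hom_cast E hNS hψ
  obtain ⟨-, hval, m, hm⟩ := hsub _ hψ'
  have hmS : ∀ x ∈ (S : Subgroup G), m * x * m⁻¹ ∈ (S : Subgroup G) := by
    intro x hx
    have := hval ⟨x, hx⟩
    rw [hm] at this
    exact this
  have hmR : ∀ y ∈ R, m * y * m⁻¹ = c * y * c⁻¹ := by
    intro y hy
    have hyS : y ∈ (S : Subgroup G) := hRS hy
    have hyN : y ∈ normalizerIn (S : Subgroup G) R := by rw [hNS]; exact hyS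
    have h1 := hm ⟨y, hyS⟩
    rw [hψ'e y hyN hyS, hψe ⟨y, hy⟩ hyN] at h1
    rw [← h1]
    rfl
  obtain ⟨j, s, hs, hjs⟩ := hN m hmS
  have hmod : c ^ j = c ^ (j % 3) := by
    conv_lhs => rw [← Nat.div_add_mod j 3, pow_add, pow_mul, hc3, one_pow, one_mul]
  have hsN : s ^ Nat.card (S : Subgroup G) = 1 := by
    have := pow_card_eq_one' (G := (S : Subgroup G)) (x := ⟨s, hs⟩)
    exact congrArg Subtype.val this
  have h3N : ¬ 3 ∣ Nat.card (S : Subgroup G) := by
    obtain ⟨n, hn⟩ := IsPGroup.iff_card.mp hSp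
    rw [hn]
    intro h
    exact hp3 (Nat.Prime.dvd_of_dvd_pow Nat.prime_three h)
  obtain ⟨x₀, hx₀R, hx₀⟩ := h3
  have hc_mem : conjHom (S : Subgroup G) c ∈ E.Hom (S : Subgroup G) := by
    have hcases : j % 3 = 0 ∨ j % 3 = 1 ∨ j % 3 = 2 := by omega
    rcases hcases with h0 | h1 | h2
    · exfalso
      rw [h0, pow_zero] at hmod
      have hact : ∀ y ∈ R, c * y * c⁻¹ = s * y * s⁻¹ := by
        intro y hy
        rw [← hmR y hy, hjs y (hRS hy), hmod, one_mul]
      exact hx₀ (centralizes_of_acts_like hc3 hcR hsN h3N hact x₀ hx₀R)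
    · rw [h1, pow_one] at hmod
      have hsi : conjHom (S : Subgroup G) s⁻¹ ∈ E.Hom (S : Subgroup G) :=
        E.conj_mem le_rfl (inv_mem hs)
      have hv : ∀ x : (S : Subgroup G), conjHom (S : Subgroup G) s⁻¹ x ∈ (S : Subgroup G) :=
        (E.le_of_mem hsi).2
      have hc := E.comp_mem hsi hψ' hv
      have heq : conjHom (S : Subgroup G) c =
          ψ'.comp ((conjHom (S : Subgroup G) s⁻¹).codRestrict (S : Subgroup G) hv) := by
        apply MonoidHom.ext
        intro x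
        have hx' : s⁻¹ * (x : G) * s⁻¹⁻¹ ∈ (S : Subgroup G) := hv x
        show c * (x : G) * c⁻¹ = ψ' ⟨s⁻¹ * (x : G) * s⁻¹⁻¹, hx'⟩
        rw [hm]
        show c * (x : G) * c⁻¹ = m * (s⁻¹ * (x : G) * s⁻¹⁻¹) * m⁻¹
        rw [hjs _ hx', hmod]
        group
      rw [heq]
      exact hc
    · exfalso
      rw [h2] at hmod
      have hci3 : c⁻¹ ^ 3 = 1 := by rw [inv_pow, hc3, inv_one]
      have hact : ∀ y ∈ R, c⁻¹ * y * c⁻¹⁻¹ = s * y * s⁻¹ := by
        intro y hy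
        have h4 : c * y * c⁻¹ = c ^ 2 * s * y * (c ^ 2 * s)⁻¹ := by
          rw [← hmR y hy, hjs y (hRS hy), hmod]
        have h5 : s * y * s⁻¹ = (c ^ 2)⁻¹ * (c * y * c⁻¹) * c ^ 2 := by
          rw [h4]; group
        rw [h5]; group
      have h6 := centralizes_of_acts_like hci3 (inv_mem hcR) hsN h3N hact
      apply hx₀
      have h7 : c⁻¹ * (c * x₀ * c⁻¹) * c⁻¹⁻¹ = c * x₀ * c⁻¹ := by
        apply h6
        exact (Subgroup.mem_normalizer_iff.mp hcR x₀).mp hx₀R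
      have h8 : c⁻¹ * (c * x₀ * c⁻¹) * c⁻¹⁻¹ = x₀ := by group
      rw [← h7, h8]
  -- all of `Aut_F(S)` lies in `E`
  have hcpowS : ∀ k : ℕ, ∀ x ∈ (S : Subgroup G), c ^ k * x * (c ^ k)⁻¹ ∈ (S : Subgroup G) := by
    intro k
    induction k with
    | zero => intro x hx; simpa using hx
    | succ k ih =>
      intro x hx
      have : c ^ (k + 1) * x * (c ^ (k + 1))⁻¹ = c * (c ^ k * x * (c ^ k)⁻¹) * c⁻¹ := by
        rw [pow_succ']; group
      rw [this]
      exact hcS _ (ih x hx)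
  have hcpow : ∀ k : ℕ, conjHom (S : Subgroup G) (c ^ k) ∈ E.Hom (S : Subgroup G) := by
    intro k
    induction k with
    | zero =>
      rw [pow_zero]
      exact E.conj_mem le_rfl (one_mem _)
    | succ k ih =>
      have hv : ∀ x : (S : Subgroup G), conjHom (S : Subgroup G) (c ^ k) x ∈ (S : Subgroup G) :=
        fun x => hcpowS k x x.2
      have hc := E.comp_mem ih hc_mem hv
      have heq : conjHom (S : Subgroup G) (c ^ (k + 1)) =
          (conjHom (S : Subgroup G) c).comp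
            ((conjHom (S : Subgroup G) (c ^ k)).codRestrict (S : Subgroup G) hv) := by
        apply MonoidHom.ext
        intro x
        show c ^ (k + 1) * (x : G) * (c ^ (k + 1))⁻¹ = c * (c ^ k * (x : G) * (c ^ k)⁻¹) * c⁻¹
        rw [pow_succ']; group
      rw [heq]
      exact hc
  have hall : ∀ n : G, (∀ x ∈ (S : Subgroup G), n * x * n⁻¹ ∈ (S : Subgroup G)) →
      conjHom (S : Subgroup G) n ∈ E.Hom (S : Subgroup G) := by
    intro n hn
    obtain ⟨k, s', hs', hks⟩ := hN n hn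
    have hsi : conjHom (S : Subgroup G) s' ∈ E.Hom (S : Subgroup G) := E.conj_mem le_rfl hs'
    have hv : ∀ x : (S : Subgroup G), conjHom (S : Subgroup G) s' x ∈ (S : Subgroup G) :=
      (E.le_of_mem hsi).2
    have hc := E.comp_mem hsi (hcpow k) hv
    have heq : conjHom (S : Subgroup G) n =
        (conjHom (S : Subgroup G) (c ^ k)).comp
          ((conjHom (S : Subgroup G) s').codRestrict (S : Subgroup G) hv) := by
      apply MonoidHom.ext
      intro x
      show n * (x : G) * n⁻¹ = c ^ k * (s' * (x : G) * s'⁻¹) * (c ^ k)⁻¹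
      rw [hks x x.2]; group
    rw [heq]
    exact hc
  refine ⟨rfl, fun P => Set.Subset.antisymm (hsub P) ?_⟩
  intro φ hφ
  have hP : P ≤ (S : Subgroup G) := hφ.1
  obtain ⟨α, hα, φ₀, hφ₀, hfac⟩ := hfrat P hP φ hφ
  have hαF := (mem_autGroup_iff (groupFusionSystem (S : Subgroup G)) le_rfl α).mp hα
  obtain ⟨-, hvalα, n, hn⟩ := hαF
  have hnS : ∀ x ∈ (S : Subgroup G), n * x * n⁻¹ ∈ (S : Subgroup G) := by
    intro x hx
    have := hvalα ⟨x, hx⟩
    rw [hn] at this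
    exact this
  have hαE : conjHom (S : Subgroup G) n ∈ E.Hom (S : Subgroup G) := hall n hnS
  have hval : ∀ x : P, φ₀ x ∈ (S : Subgroup G) := (E.le_of_mem hφ₀).2
  have hc := E.comp_mem hφ₀ hαE hval
  have heq : φ = (conjHom (S : Subgroup G) n).comp (φ₀.codRestrict (S : Subgroup G) hval) := by
    apply MonoidHom.ext
    intro x
    rw [hfac x (hval x)]
    have := hn ⟨φ₀ x, hval x⟩
    exact this
  rw [heq]
  exact hc

end Cfsg.Agent.Lib.Helper41.FusionC3
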