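import Mathlib
import Cfsg.Agent.Lib.Helper41.FusionC3

set_option autoImplicit false

/-! The criterion of `FusionC3`, checked on one Sylow subgroup only. -/

namespace Cfsg.Agent.Lib.Helper41.FusionC3

open Cfsg Cfsg.FusionSystem Cfsg.Agent.Lib.Helper95.Fusion
open scoped Pointwise

variable {G : Type*} [Group G]

theorem normalizer_conj_smul (k x : G) (R : Subgroup G)
    (hx : x ∈ Subgroup.normalizer (R : Set G)) :
    k * x * k⁻¹ ∈ Subgroup.normalizer ((MulAut.conj k • R : Subgroup G) : Set G) := by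
  rw [Subgroup.mem_normalizer_iff] at hx ⊢
  intro y
  rw [mem_conj_smul_iff, mem_conj_smul_iff, hx (k⁻¹ * y * k)]
  have e : k⁻¹ * (k * x * k⁻¹ * y * (k * x * k⁻¹)⁻¹) * k = x * (k⁻¹ * y * k) * x⁻¹ := by group
  rw [e]

theorem isSimple_of_c3_one [Finite G] {p : ℕ} [Fact p.Prime] (S0 : Sylow p G) (hp3 : ¬ 3 ∣ p)
    (hS : (S0 : Subgroup G) ≠ ⊥) (hA : PropA (S0 : Subgroup G))
    (R : Subgroup G) (hRS : R ≤ (S0 : Subgroup G))
    (hSR : (S0 : Subgroup G) ≤ Subgroup.normalizer (R : Set G))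
    (c g s₁ r₁ r₂ : G)
    (hcS : ∀ x ∈ (S0 : Subgroup G), c * x * c⁻¹ ∈ (S0 : Subgroup G))
    (hcR : c ∈ Subgroup.normalizer (R : Set G)) (hc3 : c ^ 3 = 1)
    (hgR : g ∈ Subgroup.normalizer (R : Set G))
    (hs₁ : s₁ ∈ (S0 : Subgroup G)) (hr₁ : r₁ ∈ (S0 : Subgroup G)) (hr₂ : r₂ ∈ (S0 : Subgroup G))
    (hM1 : g * s₁ * g⁻¹ * s₁ * (g * s₁ * g⁻¹)⁻¹ = g * r₁)
    (hM2 : c⁻¹ * g * c⁻¹⁻¹ * g⁻¹ = c * r₂)
    (hN : ∀ n : G, (∀ x ∈ (S0 : Subgroup G), n * x * n⁻¹ ∈ (S0 : Subgroup G)) →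
      ∃ j : ℕ, ∃ s ∈ (S0 : Subgroup G), ∀ x ∈ (S0 : Subgroup G),
        n * x * n⁻¹ = (c ^ j * s) * x * (c ^ j * s)⁻¹)
    (h3 : ∃ x ∈ R, c * x * c⁻¹ ≠ x) (S : Sylow p G) :
    (groupFusionSystem (S : Subgroup G)).IsSimple p := by
  obtain ⟨k, rfl⟩ := MulAction.exists_smul_eq G S0 S
  have hcoe : ((k • S0 : Sylow p G) : Subgroup G) = MulAut.conj k • (S0 : Subgroup G) := rfl
  have hm : ∀ x, x ∈ ((k • S0 : Sylow p G) : Subgroup G) ↔ k⁻¹ * x * k ∈ (S0 : Subgroup G) :=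
    fun x => by rw [hcoe, mem_conj_smul_iff]
  have hm' : ∀ x, x ∈ (S0 : Subgroup G) → k * x * k⁻¹ ∈ ((k • S0 : Sylow p G) : Subgroup G) := by
    intro x hx
    rw [hm]
    have e : k⁻¹ * (k * x * k⁻¹) * k = x := by group
    rw [e]
    exact hx
  apply isSimple_of_c3 (k • S0) hp3 ?_ ?_ (MulAut.conj k • R) ?_ ?_ (k * c * k⁻¹) (k * g * k⁻¹)
    (k * s₁ * k⁻¹) (k * r₁ * k⁻¹) (k * r₂ * k⁻¹) ?_ (normalizer_conj_smul k c R hcR) ?_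
    (normalizer_conj_smul k g R hgR) (hm' _ hs₁) (hm' _ hr₁) (hm' _ hr₂) ?_ ?_ ?_ ?_
  · intro hbot
    apply hS
    rw [eq_bot_iff]
    intro x hx
    have h1 := hm' x hx
    rw [hbot, Subgroup.mem_bot] at h1
    rw [Subgroup.mem_bot]
    have h2 : x = k⁻¹ * (k * x * k⁻¹) * k := by group
    rw [h2, h1]
    group
  · rw [hcoe]
    exact propA_conj k hA
  · intro x hx
    rw [mem_conj_smul_iff] at hx
    rw [hm]
    exact hRS hx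
  · intro x hx
    rw [hm] at hx
    have h1 := normalizer_conj_smul k _ R (hSR hx)
    have e : k * (k⁻¹ * x * k) * k⁻¹ = x := by group
    rw [e] at h1
    exact h1
  · intro x hx
    rw [hm] at hx ⊢
    have h1 := hcS _ hx
    have e : k⁻¹ * (k * c * k⁻¹ * x * (k * c * k⁻¹)⁻¹) * k = c * (k⁻¹ * x * k) * c⁻¹ := by group
    rw [e]
    exact h1
  · rw [conj_pow, hc3]
    group
  · have e : k * g * k⁻¹ * (k * s₁ * k⁻¹) * (k * g * k⁻¹)⁻¹ * (k * s₁ * k⁻¹) *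
        (k * g * k⁻¹ * (k * s₁ * k⁻¹) * (k * g * k⁻¹)⁻¹)⁻¹ =
        k * (g * s₁ * g⁻¹ * s₁ * (g * s₁ * g⁻¹)⁻¹) * k⁻¹ := by group
    rw [e, hM1]
    group
  · have e : (k * c * k⁻¹)⁻¹ * (k * g * k⁻¹) * (k * c * k⁻¹)⁻¹⁻¹ * (k * g * k⁻¹)⁻¹ =
        k * (c⁻¹ * g * c⁻¹⁻¹ * g⁻¹) * k⁻¹ := by group
    rw [e, hM2]
    group
  · intro n hn
    have hn' : ∀ x ∈ (S0 : Subgroup G), (k⁻¹ * n * k) * x * (k⁻¹ * n * k)⁻¹ ∈ (S0 : Subgroup G) := by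
      intro x hx
      have h1 := hn _ (hm' x hx)
      rw [hm] at h1
      have e : k⁻¹ * (n * (k * x * k⁻¹) * n⁻¹) * k = (k⁻¹ * n * k) * x * (k⁻¹ * n * k)⁻¹ := by
        group
      rw [e] at h1
      exact h1
    obtain ⟨j, s, hs, hjs⟩ := hN _ hn'
    refine ⟨j, k * s * k⁻¹, hm' s hs, ?_⟩
    intro x hx
    rw [hm] at hx
    have h1 := hjs _ hx
    rw [conj_pow]
    have e1 : n * x * n⁻¹ = k * ((k⁻¹ * n * k) * (k⁻¹ * x * k) * (k⁻¹ * n * k)⁻¹) * k⁻¹ := by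
      group
    rw [e1, h1]
    group
  · obtain ⟨x, hx, hne⟩ := h3
    refine ⟨k * x * k⁻¹, ?_, ?_⟩
    · rw [mem_conj_smul_iff]
      have e : k⁻¹ * (k * x * k⁻¹) * k = x := by group
      rw [e]
      exact hx
    · intro h
      apply hne
      have e : c * x * c⁻¹ = k⁻¹ * (k * c * k⁻¹ * (k * x * k⁻¹) * (k * c * k⁻¹)⁻¹) * k := by group
      rw [e, h]
      group

end Cfsg.Agent.Lib.Helper41.FusionC3
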