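import Mathlib
import Cfsg.Agent.S5160
import Cfsg.Agent.Lib.Helper95.FusionTransport

set_option autoImplicit false

/-! A simplicity criterion for the fusion system of a finite group `G` on a Sylow `p`-subgroup `S`:
no proper non-trivial strongly closed subgroup, and `N_G(S)` is generated by `S` and by elements which,
for some self-centralising `R ⊴ S`, lie in the subgroup generated by the `p`-elements of `N_G(R)`. -/

namespace Cfsg.Agent.Lib.Helper41.FusionFam

open Cfsg Cfsg.FusionSystem Cfsg.Agent.Lib.Helper95.Fusion Cfsg.Agent.Lib.Helper87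
  Cfsg.Agent.Lib.Helper85

variable {G : Type*} [Group G]

theorem isCentric_of_self_centralizing {S R : Subgroup G} (hRS : R ≤ S)
    (hcent : ∀ g : G, (∀ x ∈ R, g * x = x * g) → g ∈ R) :
    (groupFusionSystem S).IsCentric R := by
  refine ⟨hRS, ?_⟩
  rintro Q ⟨φ, ⟨-, -, g, hg⟩, rfl⟩
  intro x hx
  have hxc : x ∈ Subgroup.centralizer ((φ.range : Subgroup G) : Set G) := hx.2
  rw [Subgroup.mem_centralizer_iff] at hxc
  have h1 : g⁻¹ * x * g ∈ R := by
    apply hcent
    intro y hy
    have h2 := hxc (φ ⟨y, hy⟩) ⟨⟨y, hy⟩, rfl⟩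
    rw [hg] at h2
    have h3 : g * y * g⁻¹ * x = x * (g * y * g⁻¹) := h2
    calc g⁻¹ * x * g * y = g⁻¹ * (x * (g * y * g⁻¹)) * g := by group
      _ = g⁻¹ * (g * y * g⁻¹ * x) * g := by rw [h3]
      _ = y * (g⁻¹ * x * g) := by group
  refine ⟨⟨g⁻¹ * x * g, h1⟩, ?_⟩
  rw [hg]
  show g * (g⁻¹ * x * g) * g⁻¹ = x
  group

theorem isFullyNormalized_of_normal [Finite G] {S R : Subgroup G} (hRS : R ≤ S)
    (hSR : S ≤ Subgroup.normalizer (R : Set G)) : (groupFusionSystem S).IsFullyNormalized R := by
  refine ⟨hRS, fun Q _ => ?_⟩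
  have e : normalizerIn S R = S := le_antisymm inf_le_left (le_inf le_rfl hSR)
  rw [e]
  exact Subgroup.card_le_of_le inf_le_left

/-- the criterion -/
theorem isSimple_of_family [Finite G] {p : ℕ} [Fact p.Prime] (S : Sylow p G)
    (hS : (S : Subgroup G) ≠ ⊥) (hA : PropA (S : Subgroup G))
    {ι : Type*} (R : ι → Subgroup G) (hRS : ∀ i, R i ≤ (S : Subgroup G))
    (hSR : ∀ i, (S : Subgroup G) ≤ Subgroup.normalizer (R i : Set G))
    (hcent : ∀ i, ∀ g : G, (∀ x ∈ R i, g * x = x * g) → g ∈ R i)
    (hgen : ∀ n : G, (∀ x ∈ (S : Subgroup G), n * x * n⁻¹ ∈ (S : Subgroup G)) →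
      n ∈ Subgroup.closure (((S : Subgroup G) : Set G) ∪
        {h : G | (∀ x ∈ (S : Subgroup G), h * x * h⁻¹ ∈ (S : Subgroup G)) ∧
          ∃ i, h ∈ Subgroup.closure {g : G | g ∈ Subgroup.normalizer (R i : Set G) ∧
            ∃ k : ℕ, orderOf g = p ^ k}})) :
    (groupFusionSystem (S : Subgroup G)).IsSimple p := by
  classical
  have hSp : IsPGroup p (S : Subgroup G) := S.isPGroup'
  have hF : (groupFusionSystem (S : Subgroup G)).IsSaturated p := groupFusionSystem_isSaturated S
  refine ⟨hF, hS, fun T E hE => ?_⟩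
  obtain ⟨⟨hEsat, -, hEinv⟩, -⟩ := hE
  have hsub : E.IsSubsystemOf (groupFusionSystem (S : Subgroup G)) := hEinv.1
  have hsc := hEinv.2.1
  by_cases hT : T = ⊥
  · exact Or.inl hT
  right
  have hTS : T = (S : Subgroup G) := by
    apply hA T hsc.1 hT
    intro x hx g hg
    have hR : Subgroup.zpowers x ≤ T := by
      rw [Subgroup.zpowers_le]
      exact hx
    have hφ : conjHom (Subgroup.zpowers x) g ∈
        (groupFusionSystem (S : Subgroup G)).Hom (Subgroup.zpowers x) := by
      refine ⟨hR.trans hsc.1, ?_, g, fun y => rfl⟩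
      rintro ⟨y, k, rfl⟩
      have : g * x ^ k * g⁻¹ = (g * x * g⁻¹) ^ k := by
        rw [conj_zpow]
      show g * x ^ k * g⁻¹ ∈ (S : Subgroup G)
      rw [this]
      exact Subgroup.zpow_mem _ hg k
    exact hsc.2 _ hR _ hφ ⟨x, Subgroup.mem_zpowers x⟩
  subst hTS
  refine ⟨rfl, ?_⟩
  have hstrong : StrongInv E (groupFusionSystem (S : Subgroup G)) :=
    (Cfsg.Agent.S5119.result p hSp _ hF E hsub hsc).mp hEinv
  have hle : E ≤ groupFusionSystem (S : Subgroup G) := hsub
  apply Cfsg.Agent.S5338.result p hSp _ hF E hEsat hle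
  · intro Q φ hφ R hRQ ψ hψ hψQ
    exact hstrong R Q hRQ (hom_le _ hφ) ψ hψ hψQ φ hφ
  · apply le_antisymm
    · intro α hα
      rw [mem_autGroup_iff _ le_rfl] at hα ⊢
      exact hsub _ hα
    · rw [autGroup_groupFusionSystem le_rfl]
      intro α hα
      obtain ⟨n, -, hnα⟩ := (mem_autInducedBy_iff _ _ α).mp hα
      have hnS : ∀ x ∈ (S : Subgroup G), n * x * n⁻¹ ∈ (S : Subgroup G) := by
        intro x hx
        have := hnα ⟨x, hx⟩
        rw [← this]
        exact (α ⟨x, hx⟩).2
      -- the subgroup of `N(S)` acting through `Aut_E(S)`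
      have hcl : Subgroup.closure (((S : Subgroup G) : Set G) ∪
          {h : G | (∀ x ∈ (S : Subgroup G), h * x * h⁻¹ ∈ (S : Subgroup G)) ∧
            ∃ i, h ∈ Subgroup.closure {g : G | g ∈ Subgroup.normalizer (R i : Set G) ∧
              ∃ k : ℕ, orderOf g = p ^ k}}) ≤
          ((E.autGroup (S : Subgroup G)).comap (S : Subgroup G).normalizerMonoidHom).map
            (Subgroup.normalizer ((S : Subgroup G) : Set G)).subtype := by
        rw [Subgroup.closure_le]
        rintro h (hh | ⟨hhS, i, hhi⟩)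
        · refine ⟨⟨h, Subgroup.le_normalizer hh⟩, ?_, rfl⟩
          show (S : Subgroup G).normalizerMonoidHom ⟨h, Subgroup.le_normalizer hh⟩ ∈
            E.autGroup (S : Subgroup G)
          apply autInducedBy_le_autGroup E le_rfl
          exact conjAut_mem_autInducedBy hh (Subgroup.le_normalizer hh)
        · have hhN : h ∈ Subgroup.normalizer ((S : Subgroup G) : Set G) := by
            rw [Subgroup.mem_normalizer_iff]
            intro x
            constructor
            · exact hhS x
            · intro hx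
              -- finite group: conjugation is a bijection of `S`
              let f : ↥(S : Subgroup G) → ↥(S : Subgroup G) := fun y => ⟨h * (y : G) * h⁻¹, hhS y y.2⟩
              have hinj : Function.Injective f := by
                intro a b hab
                have h1 : h * (a : G) * h⁻¹ = h * (b : G) * h⁻¹ := congrArg Subtype.val hab
                exact Subtype.ext (mul_left_cancel (mul_right_cancel h1))
              obtain ⟨y, hy⟩ := Finite.surjective_of_injective hinj ⟨h * x * h⁻¹, hx⟩
              have h1 : h * (y : G) * h⁻¹ = h * x * h⁻¹ := congrArg Subtype.val hy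
              have h2 : (y : G) = x := mul_left_cancel (mul_right_cancel h1)
              rw [← h2]
              exact y.2
          refine ⟨⟨h, hhN⟩, ?_, rfl⟩
          show (S : Subgroup G).normalizerMonoidHom ⟨h, hhN⟩ ∈ E.autGroup (S : Subgroup G)
          have hfn := isFullyNormalized_of_normal (hRS i) (hSR i)
          have hfa := (fc_fa_of_fullyNormalized hSp _ hF hfn).2
          have hcen := isCentric_of_self_centralizing (hRS i) (hcent i)
          have hFaut : ∀ (g : G) (hg : g ∈ Subgroup.normalizer (R i : Set G)),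
              conjAut (R i) g hg ∈ (groupFusionSystem (S : Subgroup G)).autGroup (R i) := by
            intro g hg
            rw [autGroup_groupFusionSystem (hRS i)]
            exact conjAut_mem_autInducedBy (Subgroup.mem_top g) hg
          obtain ⟨hgN, hmem⟩ := conjAut_mem_autE_of_closure E _ hstrong hfa hFaut hhi
          set β := (S : Subgroup G).normalizerMonoidHom ⟨h, hhN⟩ with hβ
          have hβx : ∀ x : (S : Subgroup G), ((β x : (S : Subgroup G)) : G) = h * (x : G) * h⁻¹ :=
            fun x => rfl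
          have hβF : β ∈ (groupFusionSystem (S : Subgroup G)).autGroup (S : Subgroup G) := by
            rw [autGroup_groupFusionSystem le_rfl]
            exact (mem_autInducedBy_iff _ _ β).mpr ⟨h, Subgroup.mem_top h, hβx⟩
          have hψ := (mem_autGroup_iff _ le_rfl β).mp hβF
          have hres : ((S : Subgroup G).subtype.comp β.toMonoidHom).comp
              (Subgroup.inclusion (hRS i)) ∈ E.Hom (R i) := by
            have h1 := (mem_autGroup_iff E (hRS i) _).mp hmem
            have h2 : ((S : Subgroup G).subtype.comp β.toMonoidHom).comp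
                (Subgroup.inclusion (hRS i)) = (R i).subtype.comp (conjAut (R i) h hgN).toMonoidHom := by
              ext x
              rfl
            rw [h2]
            exact h1
          have := Cfsg.Agent.Lib.Helper88.mem_of_restrict_mem hSp _ E hF hEsat hle _ (hRS i) rfl
            hcen hψ hres
          exact (mem_autGroup_iff E le_rfl β).mpr this
      obtain ⟨⟨n', hn'N⟩, hmem, hnn'⟩ := hcl (hgen n hnS)
      have hn' : n' = n := hnn'
      subst hn'
      have hαeq : α = (S : Subgroup G).normalizerMonoidHom ⟨n', hn'N⟩ := by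
        ext x
        rw [hnα x]
        rfl
      rw [hαeq]
      exact hmem

open scoped Pointwise

theorem conj_mem_closure_conj (k : G) (A B : Set G) (hAB : ∀ a ∈ A, k * a * k⁻¹ ∈ B) :
    ∀ x ∈ Subgroup.closure A, k * x * k⁻¹ ∈ Subgroup.closure B := by
  intro x hx
  induction hx using Subgroup.closure_induction with
  | mem a ha => exact Subgroup.subset_closure (hAB a ha)
  | one =>
    rw [mul_one, mul_inv_cancel]
    exact Subgroup.one_mem _
  | mul a b _ _ iha ihb =>
    have e : k * (a * b) * k⁻¹ = (k * a * k⁻¹) * (k * b * k⁻¹) := by group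
    rw [e]
    exact Subgroup.mul_mem _ iha ihb
  | inv a _ iha =>
    have e : k * a⁻¹ * k⁻¹ = (k * a * k⁻¹)⁻¹ := by group
    rw [e]
    exact Subgroup.inv_mem _ iha

theorem normalizer_conj_smul' (k x : G) (R : Subgroup G)
    (hx : x ∈ Subgroup.normalizer (R : Set G)) :
    k * x * k⁻¹ ∈ Subgroup.normalizer ((MulAut.conj k • R : Subgroup G) : Set G) := by
  rw [Subgroup.mem_normalizer_iff] at hx ⊢
  intro y
  rw [mem_conj_smul_iff, mem_conj_smul_iff, hx (k⁻¹ * y * k)]
  have e : k⁻¹ * (k * x * k⁻¹ * y * (k * x * k⁻¹)⁻¹) * k = x * (k⁻¹ * y * k) * x⁻¹ := by group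
  rw [e]

/-- the criterion, checked on one Sylow subgroup -/
theorem isSimple_of_family_one [Finite G] {p : ℕ} [Fact p.Prime] (S0 : Sylow p G)
    (hS : (S0 : Subgroup G) ≠ ⊥) (hA : PropA (S0 : Subgroup G))
    {ι : Type*} (R : ι → Subgroup G) (hRS : ∀ i, R i ≤ (S0 : Subgroup G))
    (hSR : ∀ i, (S0 : Subgroup G) ≤ Subgroup.normalizer (R i : Set G))
    (hcent : ∀ i, ∀ g : G, (∀ x ∈ R i, g * x = x * g) → g ∈ R i)
    (hgen : ∀ n : G, (∀ x ∈ (S0 : Subgroup G), n * x * n⁻¹ ∈ (S0 : Subgroup G)) →
      n ∈ Subgroup.closure (((S0 : Subgroup G) : Set G) ∪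
        {h : G | (∀ x ∈ (S0 : Subgroup G), h * x * h⁻¹ ∈ (S0 : Subgroup G)) ∧
          ∃ i, h ∈ Subgroup.closure {g : G | g ∈ Subgroup.normalizer (R i : Set G) ∧
            ∃ k : ℕ, orderOf g = p ^ k}}))
    (S : Sylow p G) : (groupFusionSystem (S : Subgroup G)).IsSimple p := by
  obtain ⟨k, rfl⟩ := MulAction.exists_smul_eq G S0 S
  have hcoe : ((k • S0 : Sylow p G) : Subgroup G) = MulAut.conj k • (S0 : Subgroup G) := rfl
  have hm : ∀ x, x ∈ ((k • S0 : Sylow p G) : Subgroup G) ↔ k⁻¹ * x * k ∈ (S0 : Subgroup G) :=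
    fun x => by rw [hcoe, mem_conj_smul_iff]
  have hm' : ∀ x, x ∈ (S0 : Subgroup G) → k * x * k⁻¹ ∈ ((k • S0 : Sylow p G) : Subgroup G) := by
    intro x hx
    rw [hm]
    have e : k⁻¹ * (k * x * k⁻¹) * k = x := by group
    rw [e]
    exact hx
  apply isSimple_of_family (k • S0) ?_ ?_ (fun i => MulAut.conj k • R i) ?_ ?_ ?_ ?_
  · intro hbot
    apply hS
    rw [eq_bot_iff]
    intro x hx
    have h1 := hm' x hx
    rw [hbot, Subgroup.mem_bot] at h1
    rw [Subgroup.mem_bot]
    have h2 : x = k⁻¹ * (k * x * k⁻¹) * k := by group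
    rw [h2, h1]
    group
  · rw [hcoe]
    exact propA_conj k hA
  · intro i x hx
    rw [mem_conj_smul_iff] at hx
    rw [hm]
    exact hRS i hx
  · intro i x hx
    rw [hm] at hx
    have h1 := normalizer_conj_smul' k _ (R i) (hSR i hx)
    have e : k * (k⁻¹ * x * k) * k⁻¹ = x := by group
    rw [e] at h1
    exact h1
  · intro i g hg
    rw [mem_conj_smul_iff]
    apply hcent i
    intro y hy
    have hy' : k * y * k⁻¹ ∈ MulAut.conj k • R i := by
      rw [mem_conj_smul_iff]
      have e : k⁻¹ * (k * y * k⁻¹) * k = y := by group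
      rw [e]
      exact hy
    have h1 := hg _ hy'
    calc k⁻¹ * g * k * y = k⁻¹ * (g * (k * y * k⁻¹)) * k := by group
      _ = k⁻¹ * (k * y * k⁻¹ * g) * k := by rw [h1]
      _ = y * (k⁻¹ * g * k) := by group
  · intro n hn
    have hn' : ∀ x ∈ (S0 : Subgroup G), (k⁻¹ * n * k) * x * (k⁻¹ * n * k)⁻¹ ∈ (S0 : Subgroup G) := by
      intro x hx
      have h1 := hn _ (hm' x hx)
      rw [hm] at h1
      have e : k⁻¹ * (n * (k * x * k⁻¹) * n⁻¹) * k = (k⁻¹ * n * k) * x * (k⁻¹ * n * k)⁻¹ := by
        group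
      rw [e] at h1
      exact h1
    have h1 := hgen _ hn'
    have h2 := conj_mem_closure_conj k _ ((((k • S0 : Sylow p G) : Subgroup G) : Set G) ∪
        {h : G | (∀ x ∈ ((k • S0 : Sylow p G) : Subgroup G),
          h * x * h⁻¹ ∈ ((k • S0 : Sylow p G) : Subgroup G)) ∧
          ∃ i, h ∈ Subgroup.closure {g : G | g ∈ Subgroup.normalizer
            ((MulAut.conj k • R i : Subgroup G) : Set G) ∧ ∃ j : ℕ, orderOf g = p ^ j}}) ?_ _ h1
    · have e : k * (k⁻¹ * n * k) * k⁻¹ = n := by group
      rw [e] at h2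
      exact h2
    · rintro a (ha | ⟨haS, i, hai⟩)
      · exact Or.inl (hm' a ha)
      · right
        refine ⟨?_, i, ?_⟩
        · intro x hx
          rw [hm] at hx ⊢
          have h3 := haS _ hx
          have e : k⁻¹ * (k * a * k⁻¹ * x * (k * a * k⁻¹)⁻¹) * k = a * (k⁻¹ * x * k) * a⁻¹ := by
            group
          rw [e]
          exact h3
        · apply conj_mem_closure_conj k _ _ _ a hai
          rintro g ⟨hgN, j, hj⟩
          refine ⟨normalizer_conj_smul' k g (R i) hgN, j, ?_⟩
          rw [← hj]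
          have hsc : SemiconjBy k g (k * g * k⁻¹) := by
            show k * g = k * g * k⁻¹ * k
            group
          exact (SemiconjBy.orderOf_eq k hsc).symm

end Cfsg.Agent.Lib.Helper41.FusionFam
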