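import Mathlib
import Cfsg.Agent.Lib.Helper41.OmBNDefs
import Cfsg.Agent.Lib.Helper41.SpBNCrit
import Cfsg.Agent.Lib.Helper43.SpBN_DC
import Cfsg.Agent.Lib.Helper42.OmegaDescent
import Cfsg.Agent.Lib.Helper6.St.Main2
import Cfsg.Agent.Lib.Helper74.Osima5
import Cfsg.Agent.Lib.Helper79.Basic
import Cfsg.Agent.Lib.Helper3.FTBRep
import Cfsg.Agent.Lib.Helper1.OmBN_RK1L
import Cfsg.Agent.Lib.Helper1.OmBN_RK1S
import Cfsg.Agent.Lib.Helper14.OmBN_INJ
import Cfsg.Agent.Lib.Helper14.OmBN_OPP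
import Cfsg.Agent.Lib.Helper14.OmBN_SQ
import Cfsg.Agent.Lib.Helper19.OmBN_TOP
import Cfsg.Agent.Lib.Helper25.OmBN_FACS
import Cfsg.Agent.Lib.Helper31.OmBN_PPOW
import Cfsg.Agent.Lib.Helper31.OmBN_UNIP
import Cfsg.Agent.Lib.Helper32.OoABS
import Cfsg.Agent.Lib.Helper33.OmBN_CENTER
import Cfsg.Agent.Lib.Helper34.OmBN_FACL
import Cfsg.Agent.Lib.Helper45.OmBN_HINV
import Cfsg.Agent.Lib.Helper45.OmBN_OMIDX
import Cfsg.Agent.Lib.Helper45.OmBN_REFL
import Cfsg.Agent.Lib.Helper45.OmBN_ROOTOM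
import Cfsg.Agent.Lib.Helper47.OmBN_IDX2
import Cfsg.Agent.Lib.Helper80.OmBN_BFLAG
import Cfsg.Agent.Lib.Helper80.OmBN_EB
import Cfsg.Agent.Lib.Helper80.OmBN_TCONJ
import Cfsg.Agent.Lib.Helper80.OmBN_TORUS
import Cfsg.Agent.Lib.Helper94.OmBN_CARDT
import Cfsg.Agent.Lib.Helper95.OmBN_CONJL
import Cfsg.Agent.Lib.Helper95.OmBN_CONJNE
import Cfsg.Agent.Lib.Helper95.OmBN_CONJS
import Cfsg.Agent.Lib.Helper97.OmBN_GEN
import Cfsg.Agent.Lib.Helper97.OmBN_NSYMM
import Cfsg.Agent.Lib.Helper97.OmBN_PERM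

/-! # S2549 hive (helper41): ASSEMBLY: the (B,N)-pair of the full `O^-_{2m+2}(F)` and the Steinberg
character of `PΩ^-_{2m+2}(F)`, all `q`

All leaves are proved in `Cfsg/Agent/Lib/<Seat>/OmBN_<TAG>.lean` (namespace `Cfsg.Agent.Lib.Helper41.OmBN`) by
helper1 (RK1S, RK1L), helper14 (SQ, INJ, OPP), helper19 (TOP), helper25 (FACS), helper31 (PPOW, UNIP),
helper32/helper39 (PPART), helper33 (CENTER), helper34 (FACL), helper45 (HINV, OMIDX, REFL, ROOTOM), helper47 (IDX2),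
helper80 (EB, BFLAG, TORUS, TCONJ), helper94 (CARDT), helper95 (CONJS, CONJL, CONJNE), helper97 (GEN, NSYMM, PERM).
This file only assembles them. -/

set_option autoImplicit false

namespace Cfsg.Agent.Lib.Helper41.OmBN

open Matrix Cfsg Cfsg.Agent.Lib.Helper13 Cfsg.Agent.Lib.Helper8 Cfsg.Agent.Lib.Helper43
  Cfsg.Agent.Lib.Helper41.SpBN

variable {F : Type*} [Field F] {m : ℕ} {a b : F}

/-! ## Leaves: basic structure -/





theorem S_subset_N : So F m a b ⊆ (No F m a b : Set (OG F m a b)) := by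
  rintro g ⟨σ, -, hg⟩
  exact ⟨σ, fun _ => 1, hg ▸ permBlock_isBMono σ⟩





/-! ## Leaves: the double coset axiom (via helper41 `SpBN.bn_crit`) -/










/-! ## Leaves: the big cell and the unipotent radical -/





/-! ## Leaves: `Ω` -/






/-! ## Leaves: generic group / character theory -/




/-! ## Assembly (helper41): compiles from the leaves above -/

theorem mul_mem_union_o [Fintype F] (hab : Aniso a b) : ∀ s ∈ So F m a b, ∀ n ∈ No F m a b, ∀ g ∈ Bo F m a b,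
    s * g * n ∈ DoubleCoset.doubleCoset (s * n) (Bo F m a b : Set (OG F m a b)) (Bo F m a b) ∪
      DoubleCoset.doubleCoset n (Bo F m a b : Set (OG F m a b)) (Bo F m a b) := by
  rintro s ⟨σ, hσ, hs⟩ n hn g hg
  rcases hσ with ⟨k, k', hkk, rfl⟩ | ⟨k, hk, rfl⟩
  · have hne : k ≠ k' := by
      intro h
      rw [h] at hkk
      omega
    exact bn_crit (Bo F m a b) s n (XS F m a b k k') (XS F m a b k' k) (facS hab hkk hs) (rk1S hab hkk hs)
      (conjS hab hne n hn) g hg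
  · exact bn_crit (Bo F m a b) s n (XL F m a b k) (XLm F m a b k) (facL hab hk hs) (rk1L hab hk hs)
      (conjL hab k n hn) g hg

/-- **The (B,N)-pair of `O^-_{2m+2}(F)`.** -/
def bnPairO [Fintype F] (hab : Aniso a b) : Cfsg.BNPair (OG F m a b) where
  B := Bo F m a b
  N := No F m a b
  S := So F m a b
  sup_eq_top := B_sup_N hab
  conj_mem := T_conj
  subset := S_subset_N
  sq_mem := S_sq_mem
  inj := S_inj
  closure_sup := closure_S_sup
  mul_mem_union := mul_mem_union_o hab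
  conj_ne := S_conj_ne hab

theorem T_le_conj {n : OG F m a b} (hn : n ∈ No F m a b) :
    Bo F m a b ⊓ No F m a b ≤ Bo F m a b ⊓ (Bo F m a b).map (MulAut.conj n).toMonoidHom := by
  intro t ht
  refine Subgroup.mem_inf.mpr ⟨ht.1, ?_⟩
  rw [Subgroup.mem_map]
  refine ⟨n⁻¹ * t * n, ?_, ?_⟩
  · have := T_conj n⁻¹ ((No F m a b).inv_mem hn) t ht
    rwa [inv_inv] at this
  · simp only [MulEquiv.coe_toMonoidHom, MulAut.conj_apply]
    group

/-- an element all of whose conjugates lie in `H` fixes every coset of `H` -/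
theorem fpc_core {G : Type*} [Group G] (H : Subgroup G) {z : G} (hz : ∀ g : G, g⁻¹ * z * g ∈ H) :
    Cfsg.fixedPointCharacter H z = Cfsg.fixedPointCharacter H 1 := by
  unfold Cfsg.fixedPointCharacter
  have hset : MulAction.fixedBy (G ⧸ H) z = MulAction.fixedBy (G ⧸ H) (1 : G) := by
    ext x
    simp only [MulAction.mem_fixedBy, one_smul, iff_true]
    induction x using QuotientGroup.induction_on with
    | H g =>
      change ((z * g : G) : G ⧸ H) = (g : G ⧸ H)
      rw [QuotientGroup.eq]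
      have : (z * g)⁻¹ * g = (g⁻¹ * z * g)⁻¹ := by group
      rw [this]
      exact H.inv_mem (hz g)
  rw [hset]

/-- the permutation character on `G/H` does not vanish on `H` -/
theorem fpc_ne_zero {G : Type*} [Group G] [Finite G] (H : Subgroup G) {h : G} (hh : h ∈ H) :
    Cfsg.fixedPointCharacter H h ≠ 0 := by
  unfold Cfsg.fixedPointCharacter
  have : Nonempty (MulAction.fixedBy (G ⧸ H) h) := by
    refine ⟨⟨((1 : G) : G ⧸ H), ?_⟩⟩
    rw [MulAction.mem_fixedBy]
    change ((h * 1 : G) : G ⧸ H) = ((1 : G) : G ⧸ H)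
    rw [QuotientGroup.eq]
    simpa using H.inv_mem hh
  have hpos : 0 < Nat.card (MulAction.fixedBy (G ⧸ H) h) := Nat.card_pos
  exact_mod_cast hpos.ne'

/-- descent from an irreducible character of `Ω` of `p`-defect zero (variant of helper42 `pomega_steinberg_descent`) -/
theorem pomega_descent_of_irr {ι : Type} [Fintype ι] [DecidableEq ι] {F : Type*} [Field F]
    [Fintype F] (p : ℕ) [Fact p.Prime] (Q : (ι → F) → F)
    (θ : ↥(Cfsg.Omega F Q) → ℂ) (hθ : Cfsg.IsIrrCharacter ↥(Cfsg.Omega F Q) θ)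
    (d k e : ℕ) (hde : d = p ^ e) (hθ1 : θ 1 = (d : ℂ))
    (hcard : Nat.card ↥(Cfsg.Omega F Q) = d * k) (hpk : ¬ p ∣ k)
    (hZ : ∀ z : ↥(Cfsg.Omega F Q), z ∈ Subgroup.center ↥(Cfsg.Omega F Q) → θ z = θ 1) :
    ∃ ψ : Cfsg.POmega F Q → ℂ, Cfsg.IsIrrCharacter (Cfsg.POmega F Q) ψ ∧
      ∀ P : Sylow p (Cfsg.POmega F Q), ψ 1 = Nat.card P ∧
        ∀ x : Cfsg.POmega F Q, x ∈ P → x ≠ 1 → ψ x = 0 := by
  classical
  have hp : p.Prime := Fact.out
  haveI : Fintype ↥(Cfsg.isometryGroup F Q) := Fintype.ofFinite _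
  haveI : Fintype ↥(Cfsg.Omega F Q) := Fintype.ofFinite _
  haveI : Fintype (Cfsg.POmega F Q) := Fintype.ofFinite _
  obtain ⟨ψ, hψ, hval⟩ := Cfsg.Agent.Lib.Helper79.isIrrCharacter_deflate hθ
    (Subgroup.center ↥(Cfsg.Omega F Q)) (fun z hz => hZ z hz)
  have hψ1 : ψ 1 = (d : ℂ) := by
    have := hval 1
    rw [QuotientGroup.mk_one] at this
    rw [this, hθ1]
  obtain ⟨k', hk'⟩ := Cfsg.Agent.Lib.Helper3.irr_degree_dvd_card hψ d hψ1
  have hd0 : 0 < d := by rw [hde]; exact Nat.pow_pos hp.pos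
  have hdvd : Nat.card (Cfsg.POmega F Q) ∣ Nat.card ↥(Cfsg.Omega F Q) :=
    Subgroup.card_quotient_dvd_card _
  have hk'k : k' ∣ k := by
    rw [hk', hcard] at hdvd
    exact (Nat.mul_dvd_mul_iff_left hd0).mp hdvd
  have hpk' : ¬ p ∣ k' := fun h => hpk (h.trans hk'k)
  have hcardP : ∀ P : Sylow p (Cfsg.POmega F Q), Nat.card P = d := by
    intro P
    rw [Sylow.card_eq_multiplicity, hk', hde]
    have hk0 : k' ≠ 0 := by
      rintro rfl
      rw [mul_zero] at hk'
      exact Nat.card_pos.ne' hk'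
    have h1' : p ^ e ≠ 0 := pow_ne_zero _ hp.ne_zero
    rw [Nat.factorization_mul h1' hk0, Finsupp.add_apply,
      Nat.factorization_eq_zero_of_not_dvd hpk', add_zero,
      hp.factorization_pow, Finsupp.single_eq_same]
  refine ⟨ψ, hψ, fun P => ⟨?_, ?_⟩⟩
  · rw [hψ1, hcardP P]
  · intro x hx hx1
    have hdiv : p ∣ orderOf x := by
      obtain ⟨j, hj⟩ := (IsPGroup.iff_orderOf.mp P.isPGroup') ⟨x, hx⟩
      rw [Subgroup.orderOf_mk] at hj
      rw [hj]
      have hj0 : j ≠ 0 := by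
        rintro rfl
        rw [pow_zero, orderOf_eq_one_iff] at hj
        exact hx1 hj
      exact dvd_pow_self p hj0
    exact Cfsg.Agent.Lib.Helper74.irr_vanish_of_defect_zero hp ⟨ψ, hψ⟩ d k' hψ1 hk' hpk' x hdiv

open Cfsg.Agent.Lib.Helper6 Cfsg.Agent.Lib.Helper6.St in
/-- **The Steinberg character of the full `O^-_{2m+2}(F)`**: irreducible, of `p`-power degree `|B : T|`,
`p ∤ |O : B|`, constant on `Z(Ω)`, non-zero on `T`. -/
theorem steinberg_O [Fintype F] (hab : Aniso a b) (p : ℕ) [Fact p.Prime] [CharP F p] :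
    ∃ (χ : OG F m a b → ℂ) (e : ℕ), Cfsg.IsIrrCharacter (OG F m a b) χ ∧ χ 1 = ((p ^ e : ℕ) : ℂ) ∧
      Nat.card (OG F m a b) = (Bo F m a b).index *
        (p ^ e * Nat.card (Bo F m a b ⊓ No F m a b : Subgroup (OG F m a b))) ∧
      ¬ p ∣ (Bo F m a b).index ∧
      (∀ z : ↥(Cfsg.Omega F ⇑(minusForm m F a b)),
        z ∈ Subgroup.center ↥(Cfsg.Omega F ⇑(minusForm m F a b)) → χ (z : OG F m a b) = χ 1) ∧
      ∀ t ∈ Bo F m a b ⊓ No F m a b, χ t ≠ 0 := by
  classical
  haveI : Fintype (OG F m a b) := Fintype.ofFinite _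
  set P := bnPairO (m := m) hab with hP
  have hfin : (P.S).Finite := Set.toFinite _
  set T : Finset (OG F m a b) := hfin.toFinset with hTdef
  have hT : (↑T : Set (OG F m a b)) = P.S := hfin.coe_toFinset
  obtain ⟨n0, hn0⟩ := perm_exists (F := F) (a := a) (b := b) (Equiv.sumComm (Fin m) (Fin m))
    (by intro s; cases s <;> rfl)
  have hn0N : n0 ∈ P.N := ⟨Equiv.sumComm (Fin m) (Fin m), fun _ => 1, hn0 ▸ permBlock_isBMono _⟩
  have hopp := B_inf_conj hn0
  have hTpos : 0 < Nat.card (Bo F m a b ⊓ No F m a b : Subgroup (OG F m a b)) := Nat.card_pos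
  have hmax : ∀ n ∈ P.N, Nat.card (C P n) ≤ Nat.card (C P n0) := by
    intro n hn
    have h1 := card_doubleCoset_mul (Bo F m a b) n
    have h2 := card_doubleCoset_mul (Bo F m a b) n0
    rw [hopp] at h2
    have h3 : Nat.card (Bo F m a b ⊓ No F m a b : Subgroup (OG F m a b)) ≤
        Nat.card (Bo F m a b ⊓ (Bo F m a b).map (MulAut.conj n).toMonoidHom : Subgroup (OG F m a b)) :=
      Subgroup.card_le_of_le (T_le_conj hn)
    have h4 : Nat.card (C P n) * Nat.card (Bo F m a b ⊓ No F m a b : Subgroup (OG F m a b)) ≤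
        Nat.card (C P n0) * Nat.card (Bo F m a b ⊓ No F m a b : Subgroup (OG F m a b)) := by
      calc Nat.card (C P n) * Nat.card (Bo F m a b ⊓ No F m a b : Subgroup (OG F m a b))
          ≤ Nat.card (C P n) *
            Nat.card (Bo F m a b ⊓ (Bo F m a b).map (MulAut.conj n).toMonoidHom :
              Subgroup (OG F m a b)) := Nat.mul_le_mul_left _ h3
        _ = Nat.card (Bo F m a b) * Nat.card (Bo F m a b) := h1
        _ = _ := h2.symm
    exact Nat.le_of_mul_le_mul_right h4 hTpos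
  obtain ⟨U, hUB, hUp, hUn, hUH⟩ := exists_U (m := m) hab p
  obtain ⟨e, he⟩ := index_T_ppow P p U hUB hUp hUn hUH
  have hidx : ((Bo F m a b ⊓ No F m a b).subgroupOf (Bo F m a b)).index *
      Nat.card (Bo F m a b ⊓ No F m a b : Subgroup (OG F m a b)) = Nat.card (Bo F m a b) := by
    have h5 := Subgroup.card_mul_index ((Bo F m a b ⊓ No F m a b).subgroupOf (Bo F m a b))
    rw [Nat.card_congr (Subgroup.subgroupOfEquivOfLe
      (inf_le_left : Bo F m a b ⊓ No F m a b ≤ Bo F m a b)).toEquiv] at h5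
    rw [mul_comm]
    exact h5
  refine ⟨stChar P T, e, isIrrCharacter_stChar P T hT, ?_, ?_, ?_, ?_, ?_⟩
  · have h := stChar_borel P T hT hn0N hmax (1 : P.B)
    rw [Subgroup.coe_one] at h
    rw [h, fixedPointCharacter_one]
    congr 1
    change ((Bo F m a b ⊓ (Bo F m a b).map (MulAut.conj n0).toMonoidHom).subgroupOf (Bo F m a b)).index = _
    rw [hopp]
    exact he
  · rw [← Subgroup.index_mul_card (Bo F m a b), ← hidx]
    change _ = _ * (p ^ e * _)
    rw [← he]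
    rfl
  · exact Cfsg.Agent.Lib.Helper39.OoBN.not_dvd_index_B P p (fun n hn => T_le_conj hn) e he
  · intro z hz
    unfold stChar
    apply Finset.sum_congr rfl
    intro J _
    congr 1
    apply fpc_core
    intro g
    exact (le_sup_left : P.B ≤ P.parabolic _) (center_core hab z hz g)
  · intro t ht
    have h := stChar_borel P T hT hn0N hmax (⟨t, ht.1⟩ : P.B)
    rw [h]
    apply fpc_ne_zero
    rw [Subgroup.mem_subgroupOf]
    change t ∈ Bo F m a b ⊓ (Bo F m a b).map (MulAut.conj n0).toMonoidHom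
    rw [hopp]
    exact ht

/-- **S2549**: the Steinberg character of `PΩ^-_{2m+2}(F)`. -/
theorem steinberg_pomega_minus {F : Type*} [Field F] [Fintype F] (p : ℕ) [Fact p.Prime] [CharP F p] (m : ℕ)
    (a b : F) (hab : ∀ z₁ z₂ : F, z₁ ^ 2 + a * z₁ * z₂ + b * z₂ ^ 2 = 0 → z₁ = 0 ∧ z₂ = 0) :
    ∃ χ : Cfsg.POmega F (Cfsg.quadFormMinus m F a b) → ℂ,
      Cfsg.IsIrrCharacter (Cfsg.POmega F (Cfsg.quadFormMinus m F a b)) χ ∧
      ∀ P : Sylow p (Cfsg.POmega F (Cfsg.quadFormMinus m F a b)), χ 1 = Nat.card P ∧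
        ∀ x : Cfsg.POmega F (Cfsg.quadFormMinus m F a b), x ∈ P → x ≠ 1 → χ x = 0 := by
  classical
  have hp : p.Prime := Fact.out
  rw [minusForm_coe]
  have hab' : Aniso a b := hab
  obtain ⟨χ, e, hχ, h1, hcard, hidx, hZ, hT⟩ := steinberg_O (m := m) hab' p
  by_cases hp2 : p = 2
  · subst hp2
    obtain ⟨r, hrT, hrΩ⟩ := exists_refl_T (m := m) hab'
    have hθ := irr_restrict_index_two (Cfsg.Omega F ⇑(minusForm m F a b)) (omega_index_two hab') hχ r hrΩ
      (hT r hrT)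
    obtain ⟨k, hk, hcT⟩ := card_T_even (m := m) hab'
    have h2 : Nat.card ↥(Cfsg.Omega F ⇑(minusForm m F a b)) * 2 = Nat.card (OG F m a b) := by
      have h3 := Subgroup.card_mul_index (Cfsg.Omega F ⇑(minusForm m F a b))
      rw [omega_index_two (m := m) hab'] at h3
      exact h3
    refine pomega_descent_of_irr 2 _ (fun x => χ (x : OG F m a b)) hθ (2 ^ e) ((Bo F m a b).index * k) e rfl
      ?_ ?_ ?_ (fun z hz => hZ z hz)
    · rw [Subgroup.coe_one, h1]
    · rw [hcard, hcT] at h2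
      have : Nat.card ↥(Cfsg.Omega F ⇑(minusForm m F a b)) * 2 =
          (2 ^ e * ((Bo F m a b).index * k)) * 2 := by rw [h2]; ring
      exact Nat.eq_of_mul_eq_mul_right (by norm_num) this
    · intro h
      rcases (Nat.Prime.dvd_mul Nat.prime_two).mp h with h | h
      · exact hidx h
      · exact (Nat.not_even_iff_odd.mpr hk) (even_iff_two_dvd.mpr h)
  · have hodd : Odd (p ^ e) := (hp.odd_of_ne_two hp2).pow
    refine Cfsg.Agent.Lib.Helper42.OmDesc.pomega_steinberg_descent p _ (closure_invol hab') χ hχ (p ^ e)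
      ((Bo F m a b).index * Nat.card (Bo F m a b ⊓ No F m a b : Subgroup (OG F m a b))) e hodd rfl h1 ?_ ?_
      hZ
    · rw [hcard]; ring
    · intro h
      rcases (Nat.Prime.dvd_mul hp).mp h with h | h
      · exact hidx h
      · exact card_T_odd hab' p hp2 h

end Cfsg.Agent.Lib.Helper41.OmBN
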