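import Mathlib
import Cfsg.Agent.Lib.Helper41.PSLnDefs

set_option autoImplicit false

/-! Basic facts on transvections in `SL_n(K)`: membership in the parabolic subgroups, orders,
Steinberg relations; `UU` is a `p`-group; the centre of `SL_n(K)` has order prime to `p`. -/

namespace Cfsg.Agent.Lib.Helper41.PSLn

open Matrix

variable {n : ℕ} {K : Type*} [Field K] [Fintype K]

theorem tv_coe {i j : Fin n} (hij : i ≠ j) (c : K) :
    ((tv hij c : SLn n K) : Matrix (Fin n) (Fin n) K) = 1 + Matrix.single i j c := rfl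

theorem tv_apply {i j : Fin n} (hij : i ≠ j) (c : K) (k l : Fin n) :
    (tv hij c : SLn n K).1 k l =
      (1 : Matrix (Fin n) (Fin n) K) k l + if i = k ∧ j = l then c else 0 := by
  rw [tv_coe, Matrix.add_apply, Matrix.single_apply]

theorem tv_mem_PRow {i j : Fin n} (hij : i ≠ j) (c : K) (a : Fin n) (hja : j ≠ a) :
    tv hij c ∈ PRow n K a := by
  rw [mem_PRow]
  intro k hk
  rw [tv_apply, Matrix.one_apply_ne hk, zero_add, if_neg]
  rintro ⟨-, h⟩
  exact hja h

theorem tv_mem_PCol {i j : Fin n} (hij : i ≠ j) (c : K) (b : Fin n) (hib : i ≠ b) :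
    tv hij c ∈ PCol n K b := by
  rw [mem_PCol]
  intro l hl
  rw [tv_apply, Matrix.one_apply_ne hl.symm, zero_add, if_neg]
  rintro ⟨h, -⟩
  exact hib h

theorem tv_mem_UU {i j : Fin n} (hij : i < j) (c : K) : tv (ne_of_lt hij) c ∈ UU n K := by
  rw [mem_UU]
  refine ⟨?_, ?_⟩
  · intro k l hlk
    rw [tv_apply, Matrix.one_apply_ne (ne_of_gt hlk), zero_add, if_neg]
    rintro ⟨h1, h2⟩
    rw [← h1, ← h2] at hlk
    exact absurd hij (not_lt.mpr (le_of_lt hlk))
  · intro k
    rw [tv_apply, Matrix.one_apply_eq, if_neg, add_zero]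
    rintro ⟨h1, h2⟩
    rw [← h1] at h2
    exact (ne_of_lt hij) h2.symm

theorem tv_pow {i j : Fin n} (hij : i ≠ j) (c : K) (m : ℕ) :
    (tv hij c : SLn n K) ^ m = tv hij ((m : K) * c) := by
  induction m with
  | zero =>
    rw [pow_zero, Nat.cast_zero, zero_mul]
    exact (SpecialLinearGroup.transvection_coeff_zero hij).symm
  | succ m ih =>
    rw [pow_succ, ih, ← SpecialLinearGroup.transvection_add, Nat.cast_succ, add_mul, one_mul]

theorem orderOf_tv (p : ℕ) [Fact p.Prime] [CharP K p] {i j : Fin n} (hij : i ≠ j) (c : K) :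
    ∃ k : ℕ, orderOf (tv hij c : SLn n K) = p ^ k := by
  have hp : p.Prime := Fact.out
  have h1 : (tv hij c : SLn n K) ^ p = 1 := by
    rw [tv_pow, CharP.cast_eq_zero, zero_mul]
    exact SpecialLinearGroup.transvection_coeff_zero hij
  have h2 : orderOf (tv hij c : SLn n K) ∣ p ^ 1 := by
    rw [pow_one]
    exact orderOf_dvd_of_pow_eq_one h1
  obtain ⟨k, -, hk⟩ := (Nat.dvd_prime_pow hp).mp h2
  exact ⟨k, hk⟩

/-- Steinberg relation, left index -/
theorem tv_conj_left {i j k : Fin n} (hij : i ≠ j) (hki : k ≠ i) (hkj : k ≠ j) (s c : K) :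
    tv hki s * tv hij c * (tv hki s)⁻¹ = tv hij c * tv hkj (s * c) := by
  rw [SpecialLinearGroup.transvection_inv]
  apply Subtype.ext
  show (1 + Matrix.single k i s) * (1 + Matrix.single i j c) * (1 + Matrix.single k i (-s)) =
    (1 + Matrix.single i j c) * (1 + Matrix.single k j (s * c))
  have e1 : Matrix.single i j c * Matrix.single k i (-s) = (0 : Matrix (Fin n) (Fin n) K) :=
    Matrix.single_mul_single_of_ne c i j k hkj.symm (-s)
  have e2 : Matrix.single k i s * Matrix.single k i (-s) = (0 : Matrix (Fin n) (Fin n) K) :=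
    Matrix.single_mul_single_of_ne s k i k hki.symm (-s)
  have e3 : Matrix.single k i s * Matrix.single i j c =
      (Matrix.single k j (s * c) : Matrix (Fin n) (Fin n) K) :=
    Matrix.single_mul_single_same s k i j c
  have e4 : Matrix.single k j (s * c) * Matrix.single k i (-s) =
      (0 : Matrix (Fin n) (Fin n) K) :=
    Matrix.single_mul_single_of_ne (s * c) k j k hkj.symm (-s)
  have e5 : Matrix.single i j c * Matrix.single k j (s * c) =
      (0 : Matrix (Fin n) (Fin n) K) :=
    Matrix.single_mul_single_of_ne c i j k hkj.symm (s * c)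
  have e6 : (Matrix.single k i (-s) : Matrix (Fin n) (Fin n) K) = - Matrix.single k i s :=
    (Matrix.single_neg k i s).symm
  simp only [mul_add, add_mul, mul_one, one_mul, e1, e2, e3, e4, e5, mul_assoc, add_zero,
    zero_add]
  rw [e6]
  abel

/-- Steinberg relation, right index -/
theorem tv_conj_right {i j l : Fin n} (hij : i ≠ j) (hjl : j ≠ l) (hil : i ≠ l) (s c : K) :
    tv hjl s * tv hij c * (tv hjl s)⁻¹ = tv hij c * tv hil (-(c * s)) := by
  rw [SpecialLinearGroup.transvection_inv]
  apply Subtype.ext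
  show (1 + Matrix.single j l s) * (1 + Matrix.single i j c) * (1 + Matrix.single j l (-s)) =
    (1 + Matrix.single i j c) * (1 + Matrix.single i l (-(c * s)))
  have e1 : Matrix.single j l s * Matrix.single i j c = (0 : Matrix (Fin n) (Fin n) K) :=
    Matrix.single_mul_single_of_ne s j l i hil.symm c
  have e2 : Matrix.single j l s * Matrix.single j l (-s) = (0 : Matrix (Fin n) (Fin n) K) :=
    Matrix.single_mul_single_of_ne s j l j hjl.symm (-s)
  have e3 : Matrix.single i j c * Matrix.single j l (-s) =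
      (Matrix.single i l (c * -s) : Matrix (Fin n) (Fin n) K) :=
    Matrix.single_mul_single_same c i j l (-s)
  have e5 : Matrix.single i j c * Matrix.single i l (-(c * s)) =
      (0 : Matrix (Fin n) (Fin n) K) :=
    Matrix.single_mul_single_of_ne c i j i hij.symm (-(c * s))
  have e6 : (Matrix.single j l (-s) : Matrix (Fin n) (Fin n) K) = - Matrix.single j l s :=
    (Matrix.single_neg j l s).symm
  have e7 : c * -s = -(c * s) := by ring
  simp only [mul_add, add_mul, mul_one, one_mul, e1, e2, e3, e5, mul_assoc, add_zero,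
    zero_add, zero_mul, mul_zero]
  rw [e6, e7]
  abel

/-- a strictly upper triangular matrix is nilpotent -/
theorem strictUpper_pow {N : Matrix (Fin n) (Fin n) K} (hN : ∀ i j : Fin n, j ≤ i → N i j = 0)
    (m : ℕ) : ∀ i j : Fin n, (j : ℕ) < (i : ℕ) + m → (N ^ m) i j = 0 := by
  induction m with
  | zero =>
    intro i j hij
    have hne : i ≠ j := by
      rintro rfl
      omega
    rw [pow_zero, Matrix.one_apply_ne hne]
  | succ m ih =>
    intro i j hij
    rw [pow_succ, Matrix.mul_apply]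
    apply Finset.sum_eq_zero
    intro k _
    by_cases hk : (k : ℕ) < (i : ℕ) + m
    · rw [ih i k hk, zero_mul]
    · have hjk : j ≤ k := by
        rw [Fin.le_def]
        omega
      rw [hN k j hjk, mul_zero]

theorem isPGroup_UU (p : ℕ) [Fact p.Prime] [CharP K p] : IsPGroup p (UU n K) := by
  have hp : p.Prime := Fact.out
  rcases Nat.eq_zero_or_pos n with h0 | hpos
  · subst h0
    intro g
    refine ⟨0, ?_⟩
    apply Subtype.ext
    apply Subtype.ext
    ext i
    exact i.elim0
  have : Nonempty (Fin n) := ⟨⟨0, hpos⟩⟩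
  intro g
  refine ⟨n, ?_⟩
  obtain ⟨u, hu⟩ := g
  apply Subtype.ext
  apply Subtype.ext
  have hc : ((u ^ (p ^ n) : SLn n K)).1 = u.1 ^ (p ^ n) := Matrix.SpecialLinearGroup.coe_pow u _
  show ((u ^ (p ^ n) : SLn n K)).1 = 1
  rw [hc]
  have hN : ∀ i j : Fin n, j ≤ i → (u.1 - 1) i j = 0 := by
    intro i j hji
    rw [Matrix.sub_apply]
    rcases lt_or_eq_of_le hji with h | h
    · rw [hu.1 i j h, Matrix.one_apply_ne (ne_of_gt h), sub_zero]
    · rw [h, hu.2 i, Matrix.one_apply_eq, sub_self]
  have hnil : (u.1 - 1) ^ (p ^ n) = 0 := by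
    ext i j
    apply strictUpper_pow hN
    have h1 : n < p ^ n := Nat.lt_pow_self hp.one_lt
    have h2 := j.2
    omega
  have e : u.1 = (u.1 - 1) + 1 := by abel
  rw [e, add_pow_char_pow_of_commute _ _ (Commute.one_right _), hnil, one_pow, zero_add]

theorem mem_UU_of_pow_mem (p : ℕ) [Fact p.Prime] [CharP K p] {b : SLn n K} (hb : b ∈ BB n K)
    (h : b ^ p ∈ UU n K) : b ∈ UU n K := by
  refine ⟨hb, fun i => ?_⟩
  have hpow : ∀ m : ℕ, (b ^ m).1 i i = (b.1 i i) ^ m := by
    intro m
    induction m with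
    | zero =>
      rw [pow_zero, pow_zero]
      exact Matrix.one_apply_eq i
    | succ m ih =>
      rw [pow_succ, BB_diag_mul ((BB n K).pow_mem hb m) hb, ih, pow_succ]
  have h1 : (b.1 i i) ^ p = 1 := by
    rw [← hpow]
    exact h.2 i
  have h2 : (b.1 i i - 1) ^ p = 0 := by
    rw [sub_pow_char, h1, one_pow, sub_self]
  have h3 := pow_eq_zero_iff (Fact.out : p.Prime).ne_zero |>.mp h2
  exact sub_eq_zero.mp h3

theorem card_center_coprime (p : ℕ) [Fact p.Prime] [CharP K p] :
    (Nat.card (Subgroup.center (SLn n K))).Coprime p := by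
  have hp : p.Prime := Fact.out
  have h1 : Nat.card (Subgroup.center (SLn n K)) =
      Nat.card (rootsOfUnity (max (Fintype.card (Fin n)) 1) K) :=
    Nat.card_congr (SpecialLinearGroup.center_equiv_rootsOfUnity).toEquiv
  have h2 : Nat.card (rootsOfUnity (max (Fintype.card (Fin n)) 1) K) ∣ Nat.card Kˣ :=
    Subgroup.card_subgroup_dvd_card _
  have h3 : Nat.card Kˣ = Fintype.card K - 1 := by
    rw [Nat.card_units, Nat.card_eq_fintype_card]
  obtain ⟨f, -, hf⟩ := FiniteField.card K p
  rw [h3, hf] at h2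
  rw [Nat.coprime_comm, hp.coprime_iff_not_dvd, h1]
  intro hd
  have h4 : p ∣ p ^ (f : ℕ) - 1 := hd.trans h2
  have h5 : p ∣ p ^ (f : ℕ) := dvd_pow_self p f.pos.ne'
  have h6 : 1 ≤ p ^ (f : ℕ) := Nat.one_le_pow _ _ hp.pos
  have h7 : p ∣ 1 := by
    have := Nat.dvd_sub h5 h4
    rwa [Nat.sub_sub_self h6] at this
  exact hp.one_lt.ne' (Nat.dvd_one.mp h7)

end Cfsg.Agent.Lib.Helper41.PSLn
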