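import Mathlib
import Cfsg.Agent.Lib.Helper41.PSLnA
import Cfsg.Agent.Lib.Helper97.PSLnT2
import Cfsg.Agent.Lib.Helper94.PSLnT5
import Cfsg.Agent.Lib.Helper94.PSLnT6
import Cfsg.Agent.Lib.Helper94.PSLnT7
import Cfsg.Agent.Lib.Helper85.PSLnT9
import Cfsg.Agent.Lib.Helper97.PSLnT10
import Cfsg.Agent.Lib.Helper2.PSLnT12
import Cfsg.Agent.Lib.Helper25.PSLnT13
import Cfsg.Agent.Lib.Helper32.PGroupCenter
import Cfsg.Agent.Lib.Helper95.FusionTransport

set_option autoImplicit false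

/-! `UU` is a Sylow `p`-subgroup of `SL_n(K)`, has no proper non-trivial strongly closed subgroup,
and its normaliser is generated by `UU` and torus elements coming from the two end parabolics. -/

namespace Cfsg.Agent.Lib.Helper41.PSLn

open Matrix Cfsg.Agent.Lib.Helper95.Fusion

variable {n : ℕ} {K : Type*} [Field K] [Fintype K]

theorem exists_sylow_UU (p : ℕ) [Fact p.Prime] [CharP K p] :
    ∃ S0 : Sylow p (SLn n K), (S0 : Subgroup (SLn n K)) = UU n K := by
  have hp : p.Prime := Fact.out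
  have hU : IsPGroup p (UU n K) := isPGroup_UU p
  obtain ⟨m, hm⟩ := hU.exists_card_eq
  haveI hnormal : ((UU n K).comap
      (Subgroup.normalizer ((UU n K : Subgroup (SLn n K)) : Set (SLn n K))).subtype).Normal :=
    Subgroup.normal_in_normalizer
  have h1 : ¬ p ∣ Nat.card (Subgroup.normalizer ((UU n K : Subgroup (SLn n K)) : Set (SLn n K)) ⧸
      (UU n K).comap (Subgroup.normalizer ((UU n K : Subgroup (SLn n K)) : Set (SLn n K))).subtype) := by
    intro hdvd
    obtain ⟨x, hx⟩ := exists_prime_orderOf_dvd_card' p hdvd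
    obtain ⟨y, rfl⟩ := QuotientGroup.mk_surjective x
    have hy1 : (y ^ p) ∈ (UU n K).comap
        (Subgroup.normalizer ((UU n K : Subgroup (SLn n K)) : Set (SLn n K))).subtype := by
      rw [← QuotientGroup.eq_one_iff, QuotientGroup.mk_pow, ← hx, pow_orderOf_eq_one]
    have hy2 : y ∉ (UU n K).comap
        (Subgroup.normalizer ((UU n K : Subgroup (SLn n K)) : Set (SLn n K))).subtype := by
      intro h
      have h3 := (QuotientGroup.eq_one_iff y).mpr h
      rw [h3, orderOf_one] at hx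
      exact hp.one_lt.ne hx
    apply hy2
    show (y : SLn n K) ∈ UU n K
    apply mem_UU_of_pow_mem p
    · apply mem_BB_of_normalizes
      intro u hu
      exact (Subgroup.mem_normalizer_iff.mp y.2 u).mp hu
    · exact hy1
  have h2 := Sylow.card_quotient_normalizer_modEq_card_quotient (p := p) hm
  have h3 : ¬ p ∣ (UU n K).index := by
    intro hd
    apply h1
    exact (Nat.ModEq.dvd_iff h2 (dvd_refl p)).mpr hd
  exact ⟨hU.toSylow h3, rfl⟩

theorem exists_three (hn : 3 ≤ n) : ∃ a m b : Fin n, (∀ i, a ≤ i) ∧ (∀ i, i ≤ b) ∧ a < m ∧ m < b := by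
  refine ⟨⟨0, by omega⟩, ⟨1, by omega⟩, ⟨n - 1, by omega⟩, ?_, ?_, ?_, ?_⟩
  · intro i
    rw [Fin.le_def]
    exact Nat.zero_le _
  · intro i
    rw [Fin.le_def]
    have := i.2
    show (i : ℕ) ≤ n - 1
    omega
  · rw [Fin.lt_def]
    show 0 < 1
    norm_num
  · rw [Fin.lt_def]
    show 1 < n - 1
    omega

theorem propA_UU (p : ℕ) [Fact p.Prime] [CharP K p] (hn : 3 ≤ n) : PropA (UU n K) := by
  intro T hTU hT hsc
  obtain ⟨a, m, b, ha, hb, ham, hmb⟩ := exists_three hn
  have hab : a < b := ham.trans hmb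
  have hnorm : ∀ x ∈ T, ∀ u ∈ UU n K, u * x * u⁻¹ ∈ T := by
    intro x hx u hu
    apply hsc x hx u
    exact (UU n K).mul_mem ((UU n K).mul_mem hu (hTU hx)) ((UU n K).inv_mem hu)
  have hTn : (T.subgroupOf (UU n K)).Normal := ⟨fun x hx u => hnorm x.1 hx u.1 u.2⟩
  have hne : T.subgroupOf (UU n K) ≠ ⊥ := by
    intro h
    apply hT
    rw [eq_bot_iff]
    intro x hx
    have h1 : (⟨x, hTU hx⟩ : UU n K) ∈ T.subgroupOf (UU n K) := hx
    rw [h, Subgroup.mem_bot] at h1
    rw [Subgroup.mem_bot]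
    exact congrArg Subtype.val h1
  obtain ⟨z, hzT, hzc, hz1⟩ := Cfsg.Agent.Lib.Helper32.exists_ne_one_mem_normal_inf_center
    (isPGroup_UU p) (T.subgroupOf (UU n K)) hne
  obtain ⟨c0, hc0⟩ := center_UU_form ha hb (ne_of_lt hab) z.2 (by
    intro i j hij
    have h1 := Subgroup.mem_center_iff.mp hzc ⟨tv (ne_of_lt hij) 1, tv_mem_UU hij 1⟩
    exact (congrArg Subtype.val h1).symm)
  have hc0ne : c0 ≠ 0 := by
    rintro rfl
    apply hz1
    apply Subtype.ext
    rw [hc0]
    exact SpecialLinearGroup.transvection_coeff_zero _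
  have h0 : tv (ne_of_lt hab) c0 ∈ T := by
    rw [← hc0]
    exact hzT
  have key : ∀ {x y : SLn n K}, x ∈ T → y ∈ UU n K → ∀ g : SLn n K, g * x * g⁻¹ = x * y →
      y ∈ T := by
    intro x y hx hy g hg
    have h1 : g * x * g⁻¹ ∈ T := by
      apply hsc x hx g
      rw [hg]
      exact (UU n K).mul_mem (hTU hx) hy
    rw [hg] at h1
    have h2 := T.mul_mem (T.inv_mem hx) h1
    rwa [inv_mul_cancel_left] at h2
  have s2 : ∀ c : K, tv (ne_of_lt ham) c ∈ T := by
    intro c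
    have h1 := key h0 (tv_mem_UU ham (-(c0 * (-(c / c0))))) (tv (ne_of_gt hmb) (-(c / c0)))
      (tv_conj_right (ne_of_lt hab) (ne_of_gt hmb) (ne_of_lt ham) (-(c / c0)) c0)
    have e : -(c0 * (-(c / c0))) = c := by field_simp
    rwa [e] at h1
  have s3 : ∀ c : K, tv (ne_of_lt hab) c ∈ T := by
    intro c
    have h1 := key (s2 1) (tv_mem_UU hab (-(1 * (-c)))) (tv (ne_of_lt hmb) (-c))
      (tv_conj_right (ne_of_lt ham) (ne_of_lt hmb) (ne_of_lt hab) (-c) 1)
    have e : -(1 * (-c)) = c := by ring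
    rwa [e] at h1
  have s4 : ∀ (i : Fin n) (hib : i < b) (c : K), tv (ne_of_lt hib) c ∈ T := by
    intro i hib c
    by_cases hia : i = a
    · subst hia
      exact s3 c
    · have h1 := key (s3 1) (tv_mem_UU hib (c * 1)) (tv hia c)
        (tv_conj_left (ne_of_lt hab) hia (ne_of_lt hib) c 1)
      rwa [mul_one] at h1
  have s5 : ∀ (i j : Fin n) (hij : i < j) (c : K), tv (ne_of_lt hij) c ∈ T := by
    intro i j hij c
    by_cases hjb : j = b
    · subst hjb
      exact s4 i hij c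
    · have hjb' : j < b := lt_of_le_of_ne (hb j) hjb
      have hib : i < b := hij.trans hjb'
      have h1 := key (s4 i hib 1) (tv_mem_UU hij (-(1 * (-c)))) (tv (ne_of_gt hjb') (-c))
        (tv_conj_right (ne_of_lt hib) (ne_of_gt hjb') (ne_of_lt hij) (-c) 1)
      have e : -(1 * (-c)) = c := by ring
      rwa [e] at h1
  apply le_antisymm hTU
  refine UU_le_closure_tv.trans ((Subgroup.closure_le T).mpr ?_)
  rintro g ⟨i, j, hij, c, rfl⟩
  exact s5 i j hij c

theorem dg_mem_BB (d : Fin n → K) (hd : ∏ i, d i = 1) : dg d hd ∈ BB n K := by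
  rw [mem_BB]
  intro i j hji
  rw [dg_coe, Matrix.diagonal_apply_ne _ (ne_of_gt hji)]

theorem hh_mem_BB {i j : Fin n} (hij : i ≠ j) (t : Kˣ) : hh i j hij t ∈ BB n K :=
  dg_mem_BB _ _

theorem hh_mem_closure_row (p : ℕ) [Fact p.Prime] [CharP K p] {i j : Fin n} (hij : i ≠ j)
    (t : Kˣ) (a : Fin n) (hia : i ≠ a) (hja : j ≠ a) :
    hh i j hij t ∈ Subgroup.closure {g : SLn n K |
      g ∈ Subgroup.normalizer (RRow n K a : Set (SLn n K)) ∧ ∃ k : ℕ, orderOf g = p ^ k} := by
  rw [hh_eq_tv]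
  have h1 : ∀ c : K, tv hij c ∈ Subgroup.closure {g : SLn n K |
      g ∈ Subgroup.normalizer (RRow n K a : Set (SLn n K)) ∧ ∃ k : ℕ, orderOf g = p ^ k} :=
    fun c => Subgroup.subset_closure
      ⟨PRow_le_normalizer_RRow a (tv_mem_PRow hij c a hja), orderOf_tv p hij c⟩
  have h2 : ∀ c : K, tv hij.symm c ∈ Subgroup.closure {g : SLn n K |
      g ∈ Subgroup.normalizer (RRow n K a : Set (SLn n K)) ∧ ∃ k : ℕ, orderOf g = p ^ k} :=
    fun c => Subgroup.subset_closure
      ⟨PRow_le_normalizer_RRow a (tv_mem_PRow hij.symm c a hia), orderOf_tv p hij.symm c⟩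
  exact Subgroup.mul_mem _ (Subgroup.mul_mem _ (Subgroup.mul_mem _ (h1 _) (h2 _)) (h1 _)) (h2 _)

theorem hh_mem_closure_col (p : ℕ) [Fact p.Prime] [CharP K p] {i j : Fin n} (hij : i ≠ j)
    (t : Kˣ) (b : Fin n) (hib : i ≠ b) (hjb : j ≠ b) :
    hh i j hij t ∈ Subgroup.closure {g : SLn n K |
      g ∈ Subgroup.normalizer (RCol n K b : Set (SLn n K)) ∧ ∃ k : ℕ, orderOf g = p ^ k} := by
  rw [hh_eq_tv]
  have h1 : ∀ c : K, tv hij c ∈ Subgroup.closure {g : SLn n K |
      g ∈ Subgroup.normalizer (RCol n K b : Set (SLn n K)) ∧ ∃ k : ℕ, orderOf g = p ^ k} :=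
    fun c => Subgroup.subset_closure
      ⟨PCol_le_normalizer_RCol b (tv_mem_PCol hij c b hib), orderOf_tv p hij c⟩
  have h2 : ∀ c : K, tv hij.symm c ∈ Subgroup.closure {g : SLn n K |
      g ∈ Subgroup.normalizer (RCol n K b : Set (SLn n K)) ∧ ∃ k : ℕ, orderOf g = p ^ k} :=
    fun c => Subgroup.subset_closure
      ⟨PCol_le_normalizer_RCol b (tv_mem_PCol hij.symm c b hjb), orderOf_tv p hij.symm c⟩
  exact Subgroup.mul_mem _ (Subgroup.mul_mem _ (Subgroup.mul_mem _ (h1 _) (h2 _)) (h1 _)) (h2 _)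

/-- the family: the unipotent radicals of the two end parabolics -/
def famR (a b : Fin n) : Bool → Subgroup (SLn n K) := fun i =>
  if i = true then RCol n K b else RRow n K a

theorem famR_false (a b : Fin n) : (famR a b false : Subgroup (SLn n K)) = RRow n K a := rfl

theorem famR_true (a b : Fin n) : (famR a b true : Subgroup (SLn n K)) = RCol n K b := rfl

theorem hgen_UU (p : ℕ) [Fact p.Prime] [CharP K p] {a c b : Fin n} (hac : a ≠ c) (hcb : c ≠ b)
    (hab : a ≠ b) (g : SLn n K) (hg : ∀ x ∈ UU n K, g * x * g⁻¹ ∈ UU n K) :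
    g ∈ Subgroup.closure (((UU n K : Subgroup (SLn n K)) : Set (SLn n K)) ∪
      {h : SLn n K | (∀ x ∈ UU n K, h * x * h⁻¹ ∈ UU n K) ∧
        ∃ i, h ∈ Subgroup.closure {g : SLn n K |
          g ∈ Subgroup.normalizer ((famR a b i : Subgroup (SLn n K)) : Set (SLn n K)) ∧
            ∃ k : ℕ, orderOf g = p ^ k}}) := by
  have hgB : g ∈ BB n K := mem_BB_of_normalizes g hg
  obtain ⟨u, hu, d, hd, rfl⟩ := exists_UU_mul_dg hgB
  apply Subgroup.mul_mem
  · exact Subgroup.subset_closure (Or.inl hu)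
  have h1 := dg_mem_closure_hh b d hd
  refine (Subgroup.closure_le _).mpr ?_ h1
  rintro h ⟨i, hib, t, rfl⟩
  have hrow : ∀ {i j : Fin n} (hij : i ≠ j), i ≠ a → j ≠ a → hh i j hij t ∈
      Subgroup.closure (((UU n K : Subgroup (SLn n K)) : Set (SLn n K)) ∪
      {h : SLn n K | (∀ x ∈ UU n K, h * x * h⁻¹ ∈ UU n K) ∧
        ∃ i, h ∈ Subgroup.closure {g : SLn n K |
          g ∈ Subgroup.normalizer ((famR a b i : Subgroup (SLn n K)) : Set (SLn n K)) ∧
            ∃ k : ℕ, orderOf g = p ^ k}}) := by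
    intro i j hij hia hja
    apply Subgroup.subset_closure
    right
    refine ⟨fun x hx => BB_normalizes_UU (hh_mem_BB hij t) hx, false, ?_⟩
    exact hh_mem_closure_row p hij t a hia hja
  have hcol : ∀ {i j : Fin n} (hij : i ≠ j), i ≠ b → j ≠ b → hh i j hij t ∈
      Subgroup.closure (((UU n K : Subgroup (SLn n K)) : Set (SLn n K)) ∪
      {h : SLn n K | (∀ x ∈ UU n K, h * x * h⁻¹ ∈ UU n K) ∧
        ∃ i, h ∈ Subgroup.closure {g : SLn n K |
          g ∈ Subgroup.normalizer ((famR a b i : Subgroup (SLn n K)) : Set (SLn n K)) ∧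
            ∃ k : ℕ, orderOf g = p ^ k}}) := by
    intro i j hij hib hjb
    apply Subgroup.subset_closure
    right
    refine ⟨fun x hx => BB_normalizes_UU (hh_mem_BB hij t) hx, true, ?_⟩
    exact hh_mem_closure_col p hij t b hib hjb
  by_cases hia : i = a
  · subst hia
    rw [← hh_mul_hh hac hcb hab t]
    exact Subgroup.mul_mem _ (hcol hac hab hcb) (hrow hcb hac.symm hab.symm)
  · exact hrow hib hia hab.symm

end Cfsg.Agent.Lib.Helper41.PSLn
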