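import Mathlib
import Cfsg.Agent.Lib.Helper41.PsDefs
import Cfsg.Agent.Lib.Helper59.PsPS1
import Cfsg.Agent.Lib.Helper91.PsPS2
import Cfsg.Agent.Lib.Helper44.PsPS3
import Cfsg.Agent.Lib.Helper57.PsPS4
import Cfsg.Agent.Lib.Helper5.PsPS5
import Cfsg.Agent.Lib.Helper29.PsPS6
import Cfsg.Agent.Lib.Helper85.PsPS7
import Cfsg.Agent.Lib.Helper11.PsPS8
import Cfsg.Agent.Lib.Helper95.PsPS9
import Cfsg.Agent.Lib.Helper43.PsPS10
import Cfsg.Agent.Lib.Helper78.PsPS11
import Cfsg.Agent.Lib.Helper55.PsPS12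
import Cfsg.Agent.Lib.Helper68.PsPS13core
import Cfsg.Agent.Lib.Helper34.PsPS14
import Cfsg.Agent.Lib.Helper80.PsPS16
import Cfsg.Agent.Lib.Helper54.PsPS17core
import Cfsg.Agent.Lib.Helper49.PsPS18
import Cfsg.Agent.Lib.Helper32.PsPS19
import Cfsg.Agent.Lib.Helper27.PsPS20
import Cfsg.Agent.Lib.Helper64.PsPS21
import Cfsg.Agent.Lib.Helper8.PsPS22
import Cfsg.Agent.Lib.Helper19.PsPS23
import Cfsg.Agent.Lib.Helper70.PsPS24
import Cfsg.Agent.Lib.Helper97.PsPS25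

/-!
# Ps hive (S4321): final assembly (helper41).  `ps41_main` from the landed leaves.
-/

set_option autoImplicit false

namespace Cfsg.Agent.Lib.Helper41.Ps

open Subgroup
open Cfsg.Agent.Lib.Helper22.Cg

universe u

theorem ps41_abs {G : Type u} [Group G] [Finite G] (p : ℕ) [Fact p.Prime] (x y : G)
    (hc : (cs x).Coprime (cs y)) (hdvd : cs (x * y) ∣ cs x) (hpx : ¬ p ∣ cs x)
    (hy : ∃ n : ℕ, orderOf y = p ^ n) : cs y = 1 :=
  ps_abs_core p (fun x y hc hd g h => ps_abs1 x y hc hd g h)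
    (fun N _ hpN y hy hcen => ps_abs2 p N hpN y hy hcen) x y hc hdvd hpx hy

theorem ps41_case4 {G : Type u} [Group G] [Finite G] (p : ℕ) [Fact p.Prime] (P : Sylow p G)
    (α z : G) (hα : α ∈ P) (hz : z ∈ P) (hcomm : α * z = z * α) (hpα : ¬ p ∣ cs α)
    (hpz : ¬ p ∣ cs z) (hcop : (cs α).Coprime (cs z)) (h1α : 1 < cs α) (h1z : 1 < cs z) :
    ∃ t t' : ℕ, t.Prime ∧ t'.Prime ∧ t ∣ cs α ∧ t' ∣ cs z ∧ t ∣ cs (α * z) ∧ t' ∣ cs (α * z) ∧
      p ∣ orderOf (α * z) :=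
  ps_case4_core p P (fun x y hc hd hpx hy => ps41_abs p x y hc hd hpx hy) α z hα hz hcomm hpα hpz
    hcop h1α h1z

theorem ps41_cB {G : Type u} [Group G] [Finite G] (p : ℕ) [Fact p.Prime] (P : Sylow p G) (b : G)
    (hb : b ∈ P) (hbZ : ∀ y ∈ P, b * y = y * b) (hbp : ∃ n : ℕ, orderOf b = p ^ n)
    (hA : ∀ w : G, w * b = b * w → ¬ p ∣ orderOf w → ¬ p ∣ cs (b * w))
    (g : G) (hg : g * b = b * g) :
    ∃ y ∈ P, ∃ c : G, (∀ u ∈ P, c * u = u * c) ∧ g = y * c :=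
  ps17_core p P b (fun g hg => ps_cB1 p P b hb hbZ hbp hA g hg) g hg

theorem ps41_crux {G : Type u} [Group G] [Finite G] (p : ℕ) [Fact p.Prime]
    (hZ : ¬ p ∣ Nat.card ↥(Subgroup.center G)) (P : Sylow p G) (b α : G) (hb : b ∈ P)
    (hb1 : b ≠ 1) (hbZ : ∀ y ∈ P, b * y = y * b) (hα : α ∈ P) (hpα : p ∣ cs α) :
    ∃ x : G, p ∣ orderOf x ∧ p ∣ cs x ∧ ¬ (cs x).Coprime (cs b) := by
  by_contra hcon
  push Not at hcon
  have hstar : ∀ x : G, p ∣ orderOf x → p ∣ cs x → (cs x).Coprime (cs b) := hcon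
  have hpp : (p : ℕ).Prime := Fact.out
  obtain ⟨hbp, -⟩ := ps_sylow_elt p P b hb
  have hcsb : 1 < cs b := ps_noncentral p hZ b hb1 hbp
  have hpb : ¬ p ∣ cs b := ps_sylow_cent p P b hbZ
  -- elements of P with p ∣ cs are p-singular
  have hsing : ∀ x ∈ P, p ∣ cs x → p ∣ orderOf x := by
    intro x hx hpx
    apply (ps_sylow_elt p P x hx).2
    rintro rfl
    have h1 : cs (1 : G) = 1 := by
      simp [cs, Subgroup.centralizer_eq_top_iff_subset]
    rw [h1] at hpx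
    exact hpp.one_lt.ne' (Nat.dvd_one.mp hpx)
  have hA := ps_cA p b hcsb hb1 hbp hstar
  have hB := ps41_cB p P b hb hbZ hbp hA
  have hC : ∀ x ∈ P, p ∣ cs x → ∀ g : G, ∃ y ∈ P, ∃ c : G, c * x = x * c ∧ g = y * c :=
    fun x hx hpx g => ps_cC p P b hB x hx (hstar x (hsing x hx hpx) hpx) g
  have hN := ps_cD p P hC α hα hpα
  have hαnc : ¬ ∀ y ∈ P, α * y = y * α := fun h => ps_sylow_cent p P α h hpα
  obtain ⟨a, haP, hanc, hZ2⟩ := ps_cE p P α hα hαnc
  have hpa : p ∣ cs a := ps_cF p P hN a haP hanc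
  have habP : a * b ∈ P := P.mul_mem haP hb
  have habnc : ¬ ∀ y ∈ P, (a * b) * y = y * (a * b) := by
    intro h
    apply hanc
    intro y hy
    have h1 := h y hy
    have h2 := hbZ y hy
    calc a * y = a * b * y * b⁻¹ := by rw [mul_assoc a b y, h2]; group
      _ = y * (a * b) * b⁻¹ := by rw [h1]
      _ = y * a := by group
  have hpab : p ∣ cs (a * b) := ps_cF p P hN (a * b) habP habnc
  have hCa := hC a haP hpa
  have hCab := hC (a * b) habP hpab
  obtain ⟨B, hBmem, hBZ, hconj⟩ := ps_cG1 p P a haP hZ2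
  have hG2 := ps_cG2 p P hN a b haP hb hbZ hCa hCab B hBmem hBZ
  -- A = Z(P) as a subgroup of G
  let A : Subgroup G := (P : Subgroup G) ⊓ Subgroup.centralizer ((P : Subgroup G) : Set G)
  have hAmem : ∀ z : G, z ∈ A ↔ z ∈ P ∧ ∀ u ∈ P, z * u = u * z := by
    intro z
    simp only [A, Subgroup.mem_inf, Subgroup.mem_centralizer_iff]
    constructor
    · rintro ⟨h1, h2⟩
      exact ⟨h1, fun u hu => (h2 u hu).symm⟩
    · rintro ⟨h1, h2⟩
      exact ⟨h1, fun u hu => (h2 u hu).symm⟩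
  have hBA : B ≤ A := fun z hz => (hAmem z).mpr (hBZ z hz)
  have hAcomm : ∀ x ∈ A, ∀ y ∈ A, x * y = y * x :=
    fun x hx y hy => ((hAmem x).mp hx).2 y ((hAmem y).mp hy).1
  have hbA : b ∈ A := (hAmem b).mpr ⟨hb, hbZ⟩
  have hAZ : ∀ c ∈ A, (∀ g : G, g * c = c * g) → c = 1 := by
    intro c hc hcen
    by_contra hc1
    obtain ⟨hcp, -⟩ := ps_sylow_elt p P c ((hAmem c).mp hc).1
    have h1 : 1 < cs c := ps_noncentral p hZ c hc1 hcp
    have h2 : cs c = 1 := by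
      have : Subgroup.centralizer ({c} : Set G) = ⊤ := by
        rw [Subgroup.eq_top_iff']
        intro g
        rw [Subgroup.mem_centralizer_singleton_iff]
        exact hcen g
      simp [cs, this]
    omega
  have hcop : (cs b).Coprime (orderOf b) := by
    obtain ⟨n, hn⟩ := hbp
    rw [hn]
    exact Nat.Coprime.pow_right n ((Nat.Prime.coprime_iff_not_dvd hpp).mpr hpb).symm
  have hbB : b ∈ B := ps_cH A B hBA hAcomm b hbA hG2 hAZ hcop
  obtain ⟨x, hxP, hxab⟩ := (hBmem b).mp hbB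
  have hxnc : ¬ ∀ y ∈ P, x * y = y * x := by
    intro h
    apply hb1
    rw [hxab, h a haP]
    group
  have hpx : p ∣ cs x := ps_cF p P hN x hxP hxnc
  have hcopa := hstar a (hsing a haP hpa) hpa
  have hcopx := hstar x (hsing x hxP hpx) hpx
  have ht : (cs b).minFac.Prime := Nat.minFac_prime (by omega)
  have : Fact (cs b).minFac.Prime := ⟨ht⟩
  have htb : (cs b).minFac ∣ cs b := Nat.minFac_dvd _
  have hta : ¬ (cs b).minFac ∣ cs a := fun h =>
    ht.one_lt.ne' (Nat.Coprime.eq_one_of_dvd (Nat.Coprime.coprime_dvd_left h hcopa) htb)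
  have htx : ¬ (cs b).minFac ∣ cs x := fun h =>
    ht.one_lt.ne' (Nat.Coprime.eq_one_of_dvd (Nat.Coprime.coprime_dvd_left h hcopx) htb)
  exact ps_cJ p P a x b haP hxP hconj hxab.symm hCa (cs b).minFac hta htx htb

theorem ps41_half {G : Type u} [Group G] [Finite G] (p : ℕ) [Fact p.Prime]
    (hZ : ¬ p ∣ Nat.card ↥(Subgroup.center G)) (r s : ℕ) (hr : r.Prime) (hs : s.Prime)
    (hrs : r ≠ s) (a e : G) (ha : p ∣ orderOf a) (he : p ∣ orderOf e) (hra : r ∣ cs a)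
    (hse : s ∣ cs e) (hcop : (cs a).Coprime (cs e)) (hpe : ¬ p ∣ cs e) : Goal G p r s := by
  have hpp : (p : ℕ).Prime := Fact.out
  obtain ⟨P, ε, φ, hεP, hε1, hεZ, hφZ, hφp, hφe, hεe, hφ1⟩ := ps_red_e p e he hpe
  obtain ⟨α, hαP, hα1, hαa, hcsα⟩ := ps_red_a p hZ P a ha
  obtain ⟨hαp, -⟩ := ps_sylow_elt p P α hαP
  have hne : ∀ u v : ℕ, u.Prime → u ∣ cs a → v ∣ cs e → u ≠ v := by
    intro u v hu hua hve huv
    subst huv
    exact hu.one_lt.ne' (Nat.Coprime.eq_one_of_dvd (Nat.Coprime.coprime_dvd_left hua hcop) hve)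
  by_cases hφc : cs φ = 1
  · -- z := ε
    have hεcs : cs ε = cs e := hφ1 hφc
    have hsε : s ∣ cs ε := hεcs ▸ hse
    have hεsing : p ∣ orderOf ε := (ps_sylow_elt p P ε hεP).2 hε1
    have hpε : ¬ p ∣ cs ε := hεcs ▸ hpe
    by_cases hpα : p ∣ cs α
    · obtain ⟨x, hx, hpx, hnc⟩ := ps41_crux p hZ P ε α hεP hε1 hεZ hαP hpα
      obtain ⟨t', ht', htx, htε⟩ := Nat.Prime.not_coprime_iff_dvd.mp hnc
      have hpt : p ≠ t' := by
        rintro rfl
        exact hpε htε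
      exact ps_chain p r s p t' a x ε ha hx hεsing hr hs hpp ht' hra (dvd_trans hpα hαa) hpx htx
        htε hsε hpt hrs
    · have hcop' : (cs α).Coprime (cs ε) := by
        rw [hεcs]
        exact Nat.Coprime.coprime_dvd_left hαa hcop
      have h1ε : 1 < cs ε := by
        have := Nat.le_of_dvd (Nat.pos_of_ne_zero (by
          intro h0
          rw [h0] at hsε
          exact hpε (by rw [h0]; exact dvd_zero p))) hsε
        exact lt_of_lt_of_le hs.one_lt this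
      obtain ⟨t, t', ht, ht', htα, htε, htx, ht'x, hsing⟩ :=
        ps41_case4 p P α ε hαP hεP (hεZ α hαP).symm hpα hpε hcop' hcsα h1ε
      have htt' : t ≠ t' := hne t t' ht (dvd_trans htα hαa) (hεcs ▸ htε)
      exact ps_chain p r s t t' a (α * ε) ε ha hsing hεsing hr hs ht ht' hra (dvd_trans htα hαa)
        htx ht'x htε hsε htt' hrs
  · -- cs φ > 1
    have hcomm : α * φ = φ * α := (hφZ α hαP).symm
    obtain ⟨hsing, h1, h2⟩ := ps_mix p α φ hcomm hα1 hαp hφp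
    have hr' : (cs α).minFac.Prime := Nat.minFac_prime (by omega)
    have hs' : (cs φ).minFac.Prime := Nat.minFac_prime hφc
    have hr'α : (cs α).minFac ∣ cs α := Nat.minFac_dvd _
    have hs'φ : (cs φ).minFac ∣ cs φ := Nat.minFac_dvd _
    have hne' : (cs α).minFac ≠ (cs φ).minFac :=
      hne _ _ hr' (dvd_trans hr'α hαa) (dvd_trans hs'φ hφe)
    exact ps_chain p r s (cs α).minFac (cs φ).minFac a (α * φ) e ha hsing he hr hs hr' hs' hra
      (dvd_trans hr'α hαa) (dvd_trans hr'α h1) (dvd_trans hs'φ h2) (dvd_trans hs'φ hφe) hse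
      hne' hrs

theorem ps41_main {G : Type u} [Group G] [Finite G] (p : ℕ) [Fact p.Prime]
    (hZ : ¬ p ∣ Nat.card ↥(Subgroup.center G)) (r s : ℕ) (hr : PV G p r) (hs : PV G p s)
    (hrs : r ≠ s) : Goal G p r s := by
  obtain ⟨hrp, a, ha, hra⟩ := hr
  obtain ⟨hsp, e, he, hse⟩ := hs
  by_cases hcop : (cs a).Coprime (cs e)
  · by_cases hpe : p ∣ cs e
    · have hpa : ¬ p ∣ cs a := by
        intro hpa
        have := Nat.Coprime.eq_one_of_dvd (Nat.Coprime.coprime_dvd_left hpa hcop) hpe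
        exact (Fact.out : p.Prime).one_lt.ne' this
      exact ps_symm p s r
        (ps41_half p hZ s r hsp hrp hrs.symm e a he ha hse hra hcop.symm hpa)
    · exact ps41_half p hZ r s hrp hsp hrs a e ha he hra hse hcop hpe
  · obtain ⟨t, ht, hta, hte⟩ := Nat.Prime.not_coprime_iff_dvd.mp hcop
    exact ps_common p r s t a e ha he hrp hsp ht hra hta hte hse hrs

end Cfsg.Agent.Lib.Helper41.Ps
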