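import Mathlib
import Cfsg.Agent.Lib.Helper41.SL3Frame
import Cfsg.Agent.Lib.Helper53.SL2Invol

set_option autoImplicit false

/-! The semidihedral `2`-subgroup of `GL₂(F)` (`-1` a non-square in `F`): the `2`-part of the
non-split torus `C = {[[x,-y],[y,x]]}` extended by `diag(1,-1)`, and properties (A), (I) of its
image in `SL₃(F)`. -/

namespace Cfsg.Agent.Lib.Helper41.SL3

open Matrix Cfsg.Agent.Lib.Helper95.Fusion Cfsg.Agent.Lib.Helper41.FusionInner

variable {F : Type*} [Field F]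

/-- the matrix of multiplication by `x + y i` -/
def cmat (x y : F) : Matrix (Fin 2) (Fin 2) F := !![x, -y; y, x]

theorem cmat_mul (x y x' y' : F) :
    cmat x y * cmat x' y' = cmat (x * x' - y * y') (x * y' + y * x') := by
  ext i j
  fin_cases i <;> fin_cases j <;> simp [cmat, Matrix.mul_apply, Fin.sum_univ_two] <;> ring

theorem cmat_det (x y : F) : (cmat x y).det = x * x + y * y := by
  rw [cmat, Matrix.det_fin_two]
  simp

theorem cmat_injective {x y x' y' : F} (h : cmat x y = cmat x' y') : x = x' ∧ y = y' := by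
  constructor
  · simpa [cmat] using congrFun (congrFun h 0) 0
  · simpa [cmat] using congrFun (congrFun h 1) 0

theorem one_eq_cmat : (1 : Matrix (Fin 2) (Fin 2) F) = cmat 1 0 := by
  ext i j
  fin_cases i <;> fin_cases j <;> simp [cmat]

theorem neg_one_eq_cmat : (-1 : Matrix (Fin 2) (Fin 2) F) = cmat (-1) 0 := by
  ext i j
  fin_cases i <;> fin_cases j <;> simp [cmat]

/-- the element `i` of the torus -/
def JJ : GL (Fin 2) F where
  val := cmat 0 1
  inv := cmat 0 (-1)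
  val_inv := by
    rw [cmat_mul, one_eq_cmat]
    congr 1 <;> ring
  inv_val := by
    rw [cmat_mul, one_eq_cmat]
    congr 1 <;> ring

theorem JJ_val : ((JJ : GL (Fin 2) F) : Matrix (Fin 2) (Fin 2) F) = cmat 0 1 := rfl

theorem JJ_inv_val : ((JJ⁻¹ : GL (Fin 2) F) : Matrix (Fin 2) (Fin 2) F) = cmat 0 (-1) := rfl

theorem neg_one_GL_val : ((-1 : GL (Fin 2) F) : Matrix (Fin 2) (Fin 2) F) = -1 := by
  rw [Units.val_neg, Units.val_one]

theorem JJ_mul_JJ : (JJ : GL (Fin 2) F) * JJ = -1 := by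
  apply Units.ext
  rw [Units.val_mul, JJ_val, cmat_mul, neg_one_GL_val, neg_one_eq_cmat]
  congr 1 <;> ring

/-- the reflection `diag(1,-1)` -/
def sg : GL (Fin 2) F := dgl 1 (-1)

theorem sg_def : (sg : GL (Fin 2) F) = dgl 1 (-1) := rfl

theorem sg_val : ((sg : GL (Fin 2) F) : Matrix (Fin 2) (Fin 2) F) = !![1, 0; 0, -1] := by
  rw [sg, dgl_val]
  simp

theorem sg_mul_sg : (sg : GL (Fin 2) F) * sg = 1 := by
  rw [sg, dgl_mul]
  simp [dgl_one]

theorem sg_inv : (sg : GL (Fin 2) F)⁻¹ = sg := inv_eq_of_mul_eq_one_left sg_mul_sg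

/-- the non-split torus: the centraliser of `JJ` -/
def CC : Subgroup (GL (Fin 2) F) where
  carrier := {A | A * JJ = JJ * A}
  one_mem' := by simp
  mul_mem' := by
    intro a b ha hb
    show a * b * JJ = JJ * (a * b)
    have ha' : a * JJ = JJ * a := ha
    have hb' : b * JJ = JJ * b := hb
    rw [mul_assoc, hb', ← mul_assoc, ha', mul_assoc]
  inv_mem' := by
    intro a ha
    show a⁻¹ * JJ = JJ * a⁻¹
    have ha' : a * JJ = JJ * a := ha
    have e : a⁻¹ * JJ = a⁻¹ * (JJ * a) * a⁻¹ := by group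
    rw [e, ← ha']
    group

theorem mem_CC {A : GL (Fin 2) F} : A ∈ CC ↔ A * JJ = JJ * A := Iff.rfl

theorem CC_val {A : GL (Fin 2) F} (hA : A ∈ CC) :
    (A : Matrix (Fin 2) (Fin 2) F) =
      cmat ((A : Matrix (Fin 2) (Fin 2) F) 0 0) ((A : Matrix (Fin 2) (Fin 2) F) 1 0) := by
  have h1 : (A : Matrix (Fin 2) (Fin 2) F) * cmat 0 1 = cmat 0 1 * (A : Matrix (Fin 2) (Fin 2) F) := by
    have := congrArg Units.val (mem_CC.mp hA)
    rwa [Units.val_mul, Units.val_mul, JJ_val] at this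
  have e00 := congrFun (congrFun h1 0) 0
  have e01 := congrFun (congrFun h1 0) 1
  simp [cmat, Matrix.mul_apply, Fin.sum_univ_two] at e00 e01
  ext i j
  fin_cases i <;> fin_cases j <;> simp [cmat, e00, e01]

theorem CC_val' {A : GL (Fin 2) F} (hA : A ∈ CC) :
    ∃ x y : F, (A : Matrix (Fin 2) (Fin 2) F) = cmat x y := ⟨_, _, CC_val hA⟩

theorem mem_CC_of_val {A : GL (Fin 2) F} {x y : F}
    (h : (A : Matrix (Fin 2) (Fin 2) F) = cmat x y) : A ∈ CC := by
  rw [mem_CC]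
  apply Units.ext
  rw [Units.val_mul, Units.val_mul, h, JJ_val, cmat_mul, cmat_mul]
  congr 1 <;> ring

theorem JJ_mem_CC : (JJ : GL (Fin 2) F) ∈ CC := mem_CC_of_val JJ_val

theorem CC_comm {A B : GL (Fin 2) F} (hA : A ∈ CC) (hB : B ∈ CC) : A * B = B * A := by
  obtain ⟨x, y, hx⟩ := CC_val' hA
  obtain ⟨x', y', hx'⟩ := CC_val' hB
  apply Units.ext
  rw [Units.val_mul, Units.val_mul, hx, hx', cmat_mul, cmat_mul]
  congr 1 <;> ring

/-- elements of the torus from their coordinates -/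
noncomputable def cgl (x y : F) (h : x * x + y * y ≠ 0) : GL (Fin 2) F :=
  Matrix.GeneralLinearGroup.mkOfDetNeZero (cmat x y) (by rw [cmat_det]; exact h)

theorem cgl_val (x y : F) (h : x * x + y * y ≠ 0) :
    ((cgl x y h : GL (Fin 2) F) : Matrix (Fin 2) (Fin 2) F) = cmat x y := rfl

theorem cgl_mem (x y : F) (h : x * x + y * y ≠ 0) : cgl x y h ∈ CC :=
  mem_CC_of_val (cgl_val x y h)

theorem sg_conj_val {A : GL (Fin 2) F} {x y : F}
    (h : (A : Matrix (Fin 2) (Fin 2) F) = cmat x y) :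
    ((sg * A * sg⁻¹ : GL (Fin 2) F) : Matrix (Fin 2) (Fin 2) F) = cmat x (-y) := by
  rw [sg_inv, Units.val_mul, Units.val_mul, h, sg_val]
  ext i j
  fin_cases i <;> fin_cases j <;> simp [cmat, Matrix.mul_apply, Fin.sum_univ_two]

theorem sg_conj_mem_CC {A : GL (Fin 2) F} (hA : A ∈ CC) : sg * A * sg⁻¹ ∈ CC := by
  obtain ⟨x, y, h⟩ := CC_val' hA
  exact mem_CC_of_val (sg_conj_val h)

/-- the norm -/
noncomputable abbrev Nd (A : GL (Fin 2) F) : Fˣ := Matrix.GeneralLinearGroup.det A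

theorem Nd_val {A : GL (Fin 2) F} {x y : F} (h : (A : Matrix (Fin 2) (Fin 2) F) = cmat x y) :
    ((Nd A : Fˣ) : F) = x * x + y * y := by
  rw [Matrix.GeneralLinearGroup.val_det_apply, h, cmat_det]

theorem CC_mul_conj {A : GL (Fin 2) F} (hA : A ∈ CC) :
    A * (sg * A * sg⁻¹) = dgl (Nd A) (Nd A) := by
  obtain ⟨x, y, h⟩ := CC_val' hA
  apply Units.ext
  rw [Units.val_mul, sg_conj_val h, h, cmat_mul, dgl_val, Nd_val h]
  ext i j
  fin_cases i <;> fin_cases j <;> simp [cmat] <;> ring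

theorem CC_scalar_of_conj_eq (h2 : (2 : F) ≠ 0) {A : GL (Fin 2) F} (hA : A ∈ CC)
    (h : sg * A * sg⁻¹ = A) : ∃ t : Fˣ, A = dgl t t := by
  obtain ⟨x, y, hv⟩ := CC_val' hA
  have h1 := sg_conj_val hv
  rw [h, hv] at h1
  have hy : y = 0 := by
    have h3 : y = -y := (cmat_injective h1).2
    have h4 : (2 : F) * y = 0 := by linear_combination h3
    exact (mul_eq_zero.mp h4).resolve_left h2
  subst hy
  have hdet : (A : Matrix (Fin 2) (Fin 2) F).det ≠ 0 := det_ne_zero_of_GL A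
  rw [hv, cmat_det] at hdet
  have hx : x ≠ 0 := by
    rintro rfl
    apply hdet
    ring
  refine ⟨Units.mk0 x hx, ?_⟩
  apply Units.ext
  rw [hv, dgl_val]
  ext i j
  fin_cases i <;> fin_cases j <;> simp [cmat]

section NonSquare

variable (hns : ∀ x y : F, x * x + y * y = 0 → x = 0 ∧ y = 0)

include hns in
theorem one_ne_zero_of_hns_aux {x : F} (h : x * x + 1 * 1 = 0) : False := by
  have := (hns x 1 h).2
  exact one_ne_zero this

include hns in
theorem CC_sq_val (h2 : (2 : F) ≠ 0) {A : GL (Fin 2) F} {x y e : F}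
    (hv : (A : Matrix (Fin 2) (Fin 2) F) = cmat x y)
    (h : (A : Matrix (Fin 2) (Fin 2) F) * (A : Matrix (Fin 2) (Fin 2) F) = cmat e 0) :
    (y = 0 ∧ x * x = e) ∨ (x = 0 ∧ y * y = -e) := by
  rw [hv, cmat_mul] at h
  obtain ⟨h3, h4⟩ := cmat_injective h
  have h5 : (2 : F) * (x * y) = 0 := by linear_combination h4
  rcases mul_eq_zero.mp ((mul_eq_zero.mp h5).resolve_left h2) with hx | hy
  · right
    subst hx
    refine ⟨rfl, ?_⟩
    linear_combination -h3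
  · left
    subst hy
    refine ⟨rfl, ?_⟩
    linear_combination h3

include hns in
theorem CC_sq_one (h2 : (2 : F) ≠ 0) {A : GL (Fin 2) F} (hA : A ∈ CC) (h : A * A = 1) :
    A = 1 ∨ A = -1 := by
  obtain ⟨x, y, hv⟩ := CC_val' hA
  have h1 : (A : Matrix (Fin 2) (Fin 2) F) * (A : Matrix (Fin 2) (Fin 2) F) = cmat 1 0 := by
    rw [← Units.val_mul, h, Units.val_one, one_eq_cmat]
  rcases CC_sq_val hns h2 hv h1 with ⟨hy, hx⟩ | ⟨hx, hy⟩
  · subst hy
    rcases mul_self_eq_one_iff.mp hx with rfl | rfl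
    · left
      apply Units.ext
      rw [hv, Units.val_one, one_eq_cmat]
    · right
      apply Units.ext
      rw [hv, neg_one_GL_val, neg_one_eq_cmat]
  · exfalso
    apply one_ne_zero_of_hns_aux hns (x := y)
    linear_combination hy

include hns in
theorem CC_sq_neg_one (h2 : (2 : F) ≠ 0) {A : GL (Fin 2) F} (hA : A ∈ CC) (h : A * A = -1) :
    A = JJ ∨ A = JJ⁻¹ := by
  obtain ⟨x, y, hv⟩ := CC_val' hA
  have h1 : (A : Matrix (Fin 2) (Fin 2) F) * (A : Matrix (Fin 2) (Fin 2) F) = cmat (-1) 0 := by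
    rw [← Units.val_mul, h, neg_one_GL_val, neg_one_eq_cmat]
  rcases CC_sq_val hns h2 hv h1 with ⟨hy, hx⟩ | ⟨hx, hy⟩
  · exfalso
    apply one_ne_zero_of_hns_aux hns (x := x)
    linear_combination hx
  · subst hx
    rw [neg_neg] at hy
    rcases mul_self_eq_one_iff.mp hy with rfl | rfl
    · left
      apply Units.ext
      rw [hv, JJ_val]
    · right
      apply Units.ext
      rw [hv, JJ_inv_val]

theorem sg_not_mem_CC (h2 : (2 : F) ≠ 0) : (sg : GL (Fin 2) F) ∉ CC := by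
  intro h
  have h1 := CC_val h
  rw [sg_val] at h1
  have h3 := congrFun (congrFun h1 1) 1
  simp [cmat] at h3
  apply h2
  linear_combination -h3

theorem sg_mul_JJ : (sg : GL (Fin 2) F) * JJ = JJ⁻¹ * sg := by
  apply Units.ext
  rw [Units.val_mul, Units.val_mul, sg_val, JJ_val, JJ_inv_val]
  ext i j
  fin_cases i <;> fin_cases j <;> simp [cmat, Matrix.mul_apply, Fin.sum_univ_two]

include hns in
/-- Hilbert 90 for the torus, in the form needed -/
theorem hilbert90 {A : GL (Fin 2) F} (hA : A ∈ CC) (hdet : Nd A = 1) :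
    ∃ d : GL (Fin 2) F, (A * sg) * d = d * sg := by
  obtain ⟨x, y, hv⟩ := CC_val' hA
  have hN : x * x + y * y = 1 := by
    rw [← Nd_val hv, hdet, Units.val_one]
  by_cases h : (1 + x) * (1 + x) + y * y = 0
  · obtain ⟨hx, hy⟩ := hns _ _ h
    subst hy
    have hx' : x = -1 := by linear_combination hx
    subst hx'
    refine ⟨JJ, ?_⟩
    apply Units.ext
    rw [Units.val_mul, Units.val_mul, Units.val_mul, hv, sg_val, JJ_val]
    ext i j
    fin_cases i <;> fin_cases j <;> simp [cmat, Matrix.mul_apply, Fin.sum_univ_two]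
  · refine ⟨cgl (1 + x) y h, ?_⟩
    apply Units.ext
    rw [Units.val_mul, Units.val_mul, Units.val_mul, hv, sg_val, cgl_val]
    ext i j
    fin_cases i <;> fin_cases j <;> simp [cmat, Matrix.mul_apply, Fin.sum_univ_two] <;>
      first
        | ring1
        | linear_combination hN
        | linear_combination -hN
        | linear_combination (2 : F) * hN
        | linear_combination (-2 : F) * hN

include hns in
/-- an element of square `-1` is conjugate to `JJ` -/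
theorem conj_JJ (X : GL (Fin 2) F) (hXX : X * X = -1) : ∃ h : GL (Fin 2) F, X * h = h * JJ := by
  have h1 : (X : Matrix (Fin 2) (Fin 2) F) * (X : Matrix (Fin 2) (Fin 2) F) = -1 := by
    rw [← Units.val_mul, hXX, neg_one_GL_val]
  have e00 := congrFun (congrFun h1 0) 0
  have e10 := congrFun (congrFun h1 1) 0
  simp [Matrix.mul_apply, Fin.sum_univ_two] at e00 e10
  have h10 : (X : Matrix (Fin 2) (Fin 2) F) 1 0 ≠ 0 := by
    intro h
    rw [h] at e00
    apply one_ne_zero_of_hns_aux hns (x := (X : Matrix (Fin 2) (Fin 2) F) 0 0)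
    linear_combination e00
  have hdet : (!![1, (X : Matrix (Fin 2) (Fin 2) F) 0 0; 0, (X : Matrix (Fin 2) (Fin 2) F) 1 0] :
      Matrix (Fin 2) (Fin 2) F).det ≠ 0 := by
    rw [Matrix.det_fin_two]
    simpa using h10
  refine ⟨Matrix.GeneralLinearGroup.mkOfDetNeZero _ hdet, ?_⟩
  apply Units.ext
  rw [Units.val_mul, Units.val_mul, JJ_val]
  show (X : Matrix (Fin 2) (Fin 2) F) *
      !![1, (X : Matrix (Fin 2) (Fin 2) F) 0 0; 0, (X : Matrix (Fin 2) (Fin 2) F) 1 0] =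
    !![1, (X : Matrix (Fin 2) (Fin 2) F) 0 0; 0, (X : Matrix (Fin 2) (Fin 2) F) 1 0] * cmat 0 1
  ext i j
  fin_cases i <;> fin_cases j <;> simp [cmat, Matrix.mul_apply, Fin.sum_univ_two]
  · linear_combination e00
  · linear_combination e10

end NonSquare

/-- the `N`-torsion of the torus -/
def tors (N : ℕ) : Subgroup (GL (Fin 2) F) where
  carrier := {A | A ∈ CC ∧ A ^ N = 1}
  one_mem' := ⟨CC.one_mem, one_pow N⟩
  mul_mem' := by
    rintro a b ⟨ha, ha'⟩ ⟨hb, hb'⟩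
    refine ⟨CC.mul_mem ha hb, ?_⟩
    have hc : Commute a b := CC_comm ha hb
    rw [hc.mul_pow, ha', hb', one_mul]
  inv_mem' := by
    rintro a ⟨ha, ha'⟩
    exact ⟨CC.inv_mem ha, by rw [inv_pow, ha', inv_one]⟩

theorem mem_tors {N : ℕ} {A : GL (Fin 2) F} : A ∈ tors N ↔ A ∈ CC ∧ A ^ N = 1 := Iff.rfl

theorem sg_conj_mem_tors (N : ℕ) : ∀ d ∈ tors (F := F) N, sg * d * sg⁻¹ ∈ tors N := by
  intro d hd
  refine ⟨sg_conj_mem_CC hd.1, ?_⟩
  rw [conj_pow, hd.2, mul_one, mul_inv_cancel]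

/-- the semidihedral group -/
def SD (N : ℕ) : Subgroup (GL (Fin 2) F) := ext2 (tors N) sg sg_mul_sg (sg_conj_mem_tors N)

theorem mem_SD {N : ℕ} {A : GL (Fin 2) F} : A ∈ SD N ↔ A ∈ tors N ∨ A * sg ∈ tors N := Iff.rfl

theorem sg_mem_SD (N : ℕ) : (sg : GL (Fin 2) F) ∈ SD N := by
  rw [mem_SD]
  right
  rw [sg_mul_sg]
  exact (tors N).one_mem

theorem mul_sg_mem_SD {N : ℕ} {c : GL (Fin 2) F} (hc : c ∈ tors N) : c * sg ∈ SD N := by
  rw [mem_SD]
  right
  rw [mul_assoc, sg_mul_sg, mul_one]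
  exact hc

theorem card_SD [Fintype F] (h2 : (2 : F) ≠ 0) (N : ℕ) :
    Nat.card (SD (F := F) N) = 2 * Nat.card (tors (F := F) N) := by
  rw [SD, card_ext2]
  intro h
  exact sg_not_mem_CC h2 h.1

theorem JJ_pow (k : ℕ) (hk : 2 ≤ k) : (JJ : GL (Fin 2) F) ^ (2 ^ k) = 1 := by
  obtain ⟨j, rfl⟩ : ∃ j, k = 2 + j := ⟨k - 2, by omega⟩
  have h4 : (JJ : GL (Fin 2) F) ^ (2 ^ 2) = 1 := by
    have : (2 ^ 2 : ℕ) = 2 * 2 := by norm_num
    rw [this, pow_mul, pow_two JJ, JJ_mul_JJ]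
    simp
  rw [pow_add, pow_mul, h4, one_pow]

theorem JJ_mem_tors (k : ℕ) (hk : 2 ≤ k) : (JJ : GL (Fin 2) F) ∈ tors (2 ^ k) :=
  ⟨JJ_mem_CC, JJ_pow k hk⟩

theorem JJ_det : Nd (JJ : GL (Fin 2) F) = 1 := by
  apply Units.ext
  rw [Nd_val JJ_val, Units.val_one]
  ring

theorem card_ne_zero_subtype (α : Type*) [Finite α] [Zero α] :
    Nat.card {a : α // a ≠ 0} = Nat.card α - 1 := by
  classical
  rw [eq_comm, ← Nat.card_congr (Equiv.sumCompl (· = (0 : α))), Nat.card_sum, Nat.card_unique,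
    add_tsub_cancel_left]

section Card

variable [Fintype F] (hns : ∀ x y : F, x * x + y * y = 0 → x = 0 ∧ y = 0)

include hns in
theorem card_CC : Nat.card (CC (F := F)) = Fintype.card F ^ 2 - 1 := by
  have e : CC (F := F) ≃ {p : F × F // p ≠ 0} :=
    { toFun := fun A => ⟨((A.1 : Matrix (Fin 2) (Fin 2) F) 0 0, (A.1 : Matrix (Fin 2) (Fin 2) F) 1 0), by
        intro h
        have h0 : (A.1 : Matrix (Fin 2) (Fin 2) F) 0 0 = 0 := congrArg Prod.fst h
        have h1 : (A.1 : Matrix (Fin 2) (Fin 2) F) 1 0 = 0 := congrArg Prod.snd h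
        have hdet : (A.1 : Matrix (Fin 2) (Fin 2) F).det ≠ 0 := det_ne_zero_of_GL A.1
        rw [CC_val A.2, h0, h1, cmat_det] at hdet
        apply hdet
        ring⟩
      invFun := fun p => ⟨cgl p.1.1 p.1.2 (by
        intro h
        apply p.2
        obtain ⟨h0, h1⟩ := hns _ _ h
        exact Prod.ext h0 h1), cgl_mem _ _ _⟩
      left_inv := by
        intro A
        apply Subtype.ext
        apply Units.ext
        rw [cgl_val]
        exact (CC_val A.2).symm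
      right_inv := by
        intro p
        apply Subtype.ext
        apply Prod.ext
        · simp [cgl_val, cmat]
        · simp [cgl_val, cmat] }
  rw [Nat.card_congr e, card_ne_zero_subtype, Nat.card_prod, Nat.card_eq_fintype_card]
  ring_nf

theorem card_tors (k m : ℕ) (hm : Odd m) (hC : Nat.card (CC (F := F)) = 2 ^ k * m) :
    Nat.card (tors (F := F) (2 ^ k)) = 2 ^ k := by
  have : Fact (Nat.Prime 2) := ⟨Nat.prime_two⟩
  obtain ⟨K, hK⟩ := Sylow.exists_subgroup_card_pow_prime (G := CC (F := F)) 2 (n := k)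
    (by rw [hC]; exact dvd_mul_right _ _)
  have hKle : K.map (CC (F := F)).subtype ≤ tors (2 ^ k) := by
    rintro _ ⟨x, hx, rfl⟩
    refine ⟨x.2, ?_⟩
    have h1 := pow_card_eq_one' (G := K) (x := ⟨x, hx⟩)
    rw [hK] at h1
    have h3 : x ^ (2 ^ k) = 1 := congrArg Subtype.val h1
    have h4 := congrArg Subtype.val h3
    rwa [Subgroup.coe_pow] at h4
  have hKcard : Nat.card (K.map (CC (F := F)).subtype) = 2 ^ k := by
    rw [Subgroup.card_map_of_injective (Subgroup.subtype_injective _), hK]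
  have h1 : 2 ^ k ∣ Nat.card (tors (F := F) (2 ^ k)) := by
    have h0 := Subgroup.card_dvd_of_le hKle
    rwa [hKcard] at h0
  have hp : IsPGroup 2 (tors (F := F) (2 ^ k)) := by
    intro x
    refine ⟨k, Subtype.ext ?_⟩
    rw [Subgroup.coe_pow]
    exact x.2.2
  obtain ⟨j, hj⟩ := (IsPGroup.iff_card).mp hp
  have h3 : Nat.card (tors (F := F) (2 ^ k)) ∣ Nat.card (CC (F := F)) :=
    Subgroup.card_dvd_of_le (fun x hx => hx.1)
  rw [hj, hC] at h3
  have h4 : 2 ^ j ∣ 2 ^ k :=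
    (Nat.Coprime.pow_left j (Nat.coprime_two_left.mpr hm)).dvd_of_dvd_mul_right h3
  rw [hj] at h1 ⊢
  exact Nat.dvd_antisymm h4 h1

theorem det_tors (k r : ℕ) (hr : Odd r) (hq : Fintype.card F - 1 = 2 * r) {A : GL (Fin 2) F}
    (hA : A ∈ tors (2 ^ k)) : Nd A = 1 ∨ Nd A = -1 := by
  apply units_mul_self_eq_one
  have h1 : (Nd A) ^ (2 ^ k) = 1 := by
    rw [← map_pow, hA.2, map_one]
  have h3 : (Nd A) ^ (2 * r) = 1 := by
    rw [← hq, ← Nat.card_eq_fintype_card, ← Nat.card_units]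
    exact pow_card_eq_one'
  have ho : orderOf (Nd A) ∣ 2 ^ k := orderOf_dvd_of_pow_eq_one h1
  obtain ⟨j, _, hj⟩ := (Nat.dvd_prime_pow Nat.prime_two).mp ho
  have h2r : orderOf (Nd A) ∣ 2 * r := orderOf_dvd_of_pow_eq_one h3
  rw [hj] at h2r
  have hj1 : j ≤ 1 := by
    by_contra hcon
    have h4 : 2 ^ 2 ∣ 2 ^ j := pow_dvd_pow 2 (by omega)
    have h5 : 4 ∣ 2 * r := dvd_trans h4 h2r
    obtain ⟨t, ht⟩ := hr
    omega
  have h6 : orderOf (Nd A) ∣ 2 := by
    rw [hj]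
    exact pow_dvd_pow 2 hj1
  rw [← pow_two]
  exact orderOf_dvd_iff_pow_eq_one.mp h6

end Card

section Main

variable [Fintype F] (h2 : (2 : F) ≠ 0) (hns : ∀ x y : F, x * x + y * y = 0 → x = 0 ∧ y = 0)

include h2 hns in
theorem hinv2 (N : ℕ) :
    ∀ A ∈ SD (F := F) N, A * A = 1 → A ≠ 1 →
      ∃ g : SpecialLinearGroup (Fin 3) F, g * iota A * g⁻¹ = zz := by
  intro A hA hAA hA1
  rcases mem_SD.mp hA with h | h
  · rcases CC_sq_one hns h2 h.1 hAA with rfl | rfl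
    · exact absurd rfl hA1
    · refine ⟨1, ?_⟩
      rw [one_mul, inv_one, mul_one]
      rfl
  · have hc := h.1
    have h3 : (A * sg) * (sg * (A * sg) * sg⁻¹) = 1 := by
      have e : (A * sg) * (sg * (A * sg) * sg⁻¹) = A * (sg * sg) * A * (sg * sg⁻¹) := by group
      rw [e, sg_mul_sg, mul_one, hAA, mul_inv_cancel, mul_one]
    rw [CC_mul_conj hc, ← dgl_one] at h3
    have hdet : Nd (A * sg) = 1 := (dgl_injective h3).1
    obtain ⟨d, hd⟩ := hilbert90 hns hc hdet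
    rw [mul_assoc A sg sg, sg_mul_sg, mul_one] at hd
    exact conj_zz_of_mul_eq A d hd

include h2 hns in
theorem hgen2 (k r : ℕ) (hk : 2 ≤ k) (hr : Odd r) (hq : Fintype.card F - 1 = 2 * r)
    (c0 : GL (Fin 2) F) (hc0 : c0 ∈ tors (2 ^ k)) (hc0d : Nd c0 = -1) :
    ∀ T : Subgroup (SpecialLinearGroup (Fin 3) F), T ≤ (SD (F := F) (2 ^ k)).map iota →
      (∀ x ∈ T, ∀ g : SpecialLinearGroup (Fin 3) F,
        g * x * g⁻¹ ∈ (SD (F := F) (2 ^ k)).map iota → g * x * g⁻¹ ∈ T) →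
      (∀ A ∈ SD (F := F) (2 ^ k), A * A = 1 → iota A ∈ T) →
      (SD (F := F) (2 ^ k)).map iota ≤ T := by
  intro T hT hsc hinvT
  have hsg : iota sg ∈ T := hinvT sg (sg_mem_SD _) sg_mul_sg
  have h1 : ∀ c ∈ tors (F := F) (2 ^ k), Nd c = 1 → iota c ∈ T := by
    intro c hc hd
    have hsq : c * sg * (c * sg) = 1 := by
      have e : c * sg * (c * sg) = c * (sg * c * sg⁻¹) * (sg * sg) := by group
      rw [e, CC_mul_conj hc.1, hd, dgl_one, one_mul, sg_mul_sg]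
    have h3 := T.mul_mem (hinvT _ (mul_sg_mem_SD hc) hsq) hsg
    rwa [← map_mul, mul_assoc, sg_mul_sg, mul_one] at h3
  have hJT : iota JJ ∈ T := h1 JJ (JJ_mem_tors k hk) JJ_det
  have hXX : c0 * sg * (c0 * sg) = -1 := by
    have e : c0 * sg * (c0 * sg) = c0 * (sg * c0 * sg⁻¹) * (sg * sg) := by group
    rw [e, CC_mul_conj hc0.1, hc0d, ← neg_one_eq_dgl, sg_mul_sg, mul_one]
  obtain ⟨h, hh⟩ := conj_JJ hns (c0 * sg) hXX
  have hXT : iota (c0 * sg) ∈ T := by
    have e : iota h * iota JJ * (iota h)⁻¹ = iota (c0 * sg) := by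
      rw [← map_mul, ← hh, map_mul]
      group
    have h3 := hsc _ hJT (iota h) (by
      rw [e]
      exact Subgroup.mem_map_of_mem iota (mul_sg_mem_SD hc0))
    rwa [e] at h3
  have hc0T : iota c0 ∈ T := by
    have h3 := T.mul_mem hXT hsg
    rwa [← map_mul, mul_assoc, sg_mul_sg, mul_one] at h3
  have h5 : ∀ c ∈ tors (F := F) (2 ^ k), iota c ∈ T := by
    intro c hc
    rcases det_tors k r hr hq hc with hd | hd
    · exact h1 c hc hd
    · have hcc : c * c0⁻¹ ∈ tors (F := F) (2 ^ k) :=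
        (tors _).mul_mem hc ((tors _).inv_mem hc0)
      have hdd : Nd (c * c0⁻¹) = 1 := by
        show Matrix.GeneralLinearGroup.det (c * c0⁻¹) = 1
        rw [map_mul, map_inv]
        show Nd c * (Nd c0)⁻¹ = 1
        rw [hd, hc0d]
        simp
      have h3 := T.mul_mem (h1 _ hcc hdd) hc0T
      rwa [← map_mul, inv_mul_cancel_right] at h3
  intro s hs
  obtain ⟨A, hA, rfl⟩ := Subgroup.mem_map.mp hs
  rcases mem_SD.mp hA with h | h
  · exact h5 A h
  · have h3 := T.mul_mem (h5 _ h) hsg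
    rwa [← map_mul, mul_assoc, sg_mul_sg, mul_one] at h3

include h2 hns in
theorem hcen2 (k : ℕ) (hk : 2 ≤ k) :
    ∀ A ∈ SD (F := F) (2 ^ k), A * A = 1 → A ≠ 1 →
      (∀ B ∈ SD (F := F) (2 ^ k), A * B = B * A) → A = -1 := by
  intro A hA hAA hA1 hc
  have hJ : JJ ∈ SD (F := F) (2 ^ k) := mem_SD.mpr (Or.inl (JJ_mem_tors k hk))
  have hACC : A ∈ CC := hc JJ hJ
  rcases CC_sq_one hns h2 hACC hAA with h | h
  · exact absurd h hA1
  · exact h

include h2 hns in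
theorem hnorm2 (k m : ℕ) (hm : Odd m) (hC : Nat.card (CC (F := F)) = 2 ^ k * m)
    (c1 : GL (Fin 2) F) (hc1 : c1 ∈ tors (2 ^ k)) (hc1J : c1 * c1 = JJ) :
    ∀ A0 : GL (Fin 2) F, (∀ x ∈ SD (F := F) (2 ^ k), A0 * x * A0⁻¹ ∈ SD (F := F) (2 ^ k)) →
      ∃ t : Fˣ, ∃ m0 ∈ SD (F := F) (2 ^ k), A0 = dgl t t * m0 := by
  intro A0 hN
  have hm1 := hN c1 (mem_SD.mpr (Or.inl hc1))
  have hmm : (A0 * c1 * A0⁻¹) * (A0 * c1 * A0⁻¹) = A0 * JJ * A0⁻¹ := by
    rw [← hc1J]
    group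
  have hJ'sq : (A0 * JJ * A0⁻¹) * (A0 * JJ * A0⁻¹) = -1 := by
    calc (A0 * JJ * A0⁻¹) * (A0 * JJ * A0⁻¹) = A0 * (JJ * JJ) * A0⁻¹ := by group
      _ = -1 := by
        rw [JJ_mul_JJ]
        simp
  have hnsc : ∀ s : Fˣ, A0 * JJ * A0⁻¹ ≠ dgl s s := by
    intro s hs
    have h3 : JJ = dgl s s := by
      have h4 : JJ = A0⁻¹ * (A0 * JJ * A0⁻¹) * A0 := by group
      rw [h4, hs, mul_assoc, dgl_scalar_comm s A0, ← mul_assoc, inv_mul_cancel, one_mul]
    have h4 := congrArg Units.val h3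
    rw [JJ_val, dgl_val] at h4
    have h5 := congrFun (congrFun h4 1) 0
    simp [cmat] at h5
  have hJ'CC : A0 * JJ * A0⁻¹ ∈ CC := by
    rcases mem_SD.mp hm1 with h | h
    · rw [← hmm]
      exact CC.mul_mem h.1 h.1
    · exfalso
      have e : (A0 * c1 * A0⁻¹) * (A0 * c1 * A0⁻¹) =
          (A0 * c1 * A0⁻¹ * sg) * (sg * (A0 * c1 * A0⁻¹ * sg) * sg⁻¹) := by
        have e2 : (A0 * c1 * A0⁻¹ * sg) * (sg * (A0 * c1 * A0⁻¹ * sg) * sg⁻¹) =
            (A0 * c1 * A0⁻¹) * (sg * sg) * (A0 * c1 * A0⁻¹) * (sg * sg⁻¹) := by group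
        rw [e2, sg_mul_sg, mul_one, mul_inv_cancel, mul_one]
      rw [e, CC_mul_conj h.1] at hmm
      exact hnsc _ hmm.symm
  have key : ∃ c ∈ CC (F := F), A0 = c ∨ A0 = c * sg := by
    rcases CC_sq_neg_one hns h2 hJ'CC hJ'sq with h | h
    · refine ⟨A0, ?_, Or.inl rfl⟩
      rw [mem_CC]
      calc A0 * JJ = (A0 * JJ * A0⁻¹) * A0 := by group
        _ = JJ * A0 := by rw [h]
    · refine ⟨A0 * sg, ?_, Or.inr ?_⟩
      · rw [mem_CC]
        have h6 : A0 * JJ⁻¹ = JJ * A0 := by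
          have e : A0 * JJ⁻¹ = (A0 * JJ * A0⁻¹)⁻¹ * A0 := by group
          rw [e, h, inv_inv]
        rw [mul_assoc, sg_mul_JJ, ← mul_assoc, h6, mul_assoc]
      · rw [mul_assoc, sg_mul_sg, mul_one]
  obtain ⟨c, hcCC, hA0⟩ := key
  have hN' : c * sg * c⁻¹ ∈ SD (F := F) (2 ^ k) := by
    rcases hA0 with h | h
    · rw [← h]
      exact hN sg (sg_mem_SD _)
    · have h3 := hN sg (sg_mem_SD _)
      have e : A0 * sg * A0⁻¹ = c * sg * c⁻¹ := by
        rw [h, _root_.mul_inv_rev, sg_inv, mul_assoc c sg sg, sg_mul_sg, mul_one, ← mul_assoc]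
      rwa [e] at h3
  have hee : c * sg * c⁻¹ = c * (sg * c * sg⁻¹)⁻¹ * sg := by group
  have heCC : c * (sg * c * sg⁻¹)⁻¹ ∈ CC (F := F) :=
    CC.mul_mem hcCC (CC.inv_mem (sg_conj_mem_CC hcCC))
  have hetors : c * (sg * c * sg⁻¹)⁻¹ ∈ tors (F := F) (2 ^ k) := by
    rw [hee] at hN'
    rcases mem_SD.mp hN' with h | h
    · exfalso
      apply sg_not_mem_CC h2
      have e : (sg : GL (Fin 2) F) =
          (c * (sg * c * sg⁻¹)⁻¹)⁻¹ * (c * (sg * c * sg⁻¹)⁻¹ * sg) := by group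
      rw [e]
      exact CC.mul_mem (CC.inv_mem heCC) h.1
    · rwa [mul_assoc, sg_mul_sg, mul_one] at h
  have hcop : IsCoprime ((2 ^ k : ℕ) : ℤ) (m : ℤ) := by
    rw [Nat.isCoprime_iff_coprime]
    exact Nat.Coprime.pow_left k (Nat.coprime_two_left.mpr hm)
  obtain ⟨u, v, huv⟩ := hcop
  have hcpow : c ^ (2 ^ k * m) = 1 := by
    have h3 := pow_card_eq_one' (G := CC (F := F)) (x := ⟨c, hcCC⟩)
    rw [hC] at h3
    have h4 := congrArg Subtype.val h3
    rwa [Subgroup.coe_pow] at h4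
  have hd : c ^ (v * (m : ℤ)) ∈ tors (F := F) (2 ^ k) := by
    refine ⟨CC.zpow_mem hcCC _, ?_⟩
    rw [← _root_.zpow_natCast, ← _root_.zpow_mul]
    have e : v * (m : ℤ) * ((2 ^ k : ℕ) : ℤ) = ((2 ^ k * m : ℕ) : ℤ) * v := by
      push_cast
      ring
    rw [e, _root_.zpow_mul, _root_.zpow_natCast, hcpow, _root_.one_zpow]
  have hc'CC : c ^ (u * ((2 ^ k : ℕ) : ℤ)) ∈ CC (F := F) := CC.zpow_mem hcCC _
  have hfix : sg * c ^ (u * ((2 ^ k : ℕ) : ℤ)) * sg⁻¹ = c ^ (u * ((2 ^ k : ℕ) : ℤ)) := by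
    rw [← conj_zpow]
    have h7 : sg * c * sg⁻¹ = (c * (sg * c * sg⁻¹)⁻¹)⁻¹ * c := by group
    have hcomm : Commute (c * (sg * c * sg⁻¹)⁻¹)⁻¹ c := CC_comm (CC.inv_mem heCC) hcCC
    rw [h7, hcomm.mul_zpow]
    have h8 : ((c * (sg * c * sg⁻¹)⁻¹)⁻¹) ^ (u * ((2 ^ k : ℕ) : ℤ)) = 1 := by
      rw [_root_.inv_zpow, mul_comm, _root_.zpow_mul, _root_.zpow_natCast, hetors.2,
        _root_.one_zpow, inv_one]
    rw [h8, one_mul]
  obtain ⟨t, ht⟩ := CC_scalar_of_conj_eq h2 hc'CC hfix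
  have hcsplit : c = dgl t t * c ^ (v * (m : ℤ)) := by
    rw [← ht, ← _root_.zpow_add, huv, _root_.zpow_one]
  rcases hA0 with h | h
  · exact ⟨t, c ^ (v * (m : ℤ)), mem_SD.mpr (Or.inl hd), h.trans hcsplit⟩
  · refine ⟨t, c ^ (v * (m : ℤ)) * sg, mul_sg_mem_SD hd, ?_⟩
    rw [h, ← mul_assoc, ← hcsplit]

include hns in
theorem exists_c0 (hF : Odd (Fintype.card F)) (k m : ℕ)
    (hC : Nat.card (CC (F := F)) = 2 ^ k * m) (hm : Odd m) :
    ∃ c0 ∈ tors (F := F) (2 ^ k), Nd c0 = -1 := by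
  obtain ⟨a, b, hab⟩ := Cfsg.Agent.Lib.Helper53.exists_sq_add_sq_of_odd_card hF (-1 : F)
  have hab' : a * a + b * b = -1 := by linear_combination hab
  have hne : a * a + b * b ≠ 0 := by
    rw [hab']
    exact neg_ne_zero.mpr one_ne_zero
  have hdet : Nd (cgl a b hne) = -1 := by
    apply Units.ext
    rw [Nd_val (cgl_val a b hne), Units.val_neg, Units.val_one]
    exact hab'
  refine ⟨(cgl a b hne) ^ m, ⟨CC.pow_mem (cgl_mem _ _ _) _, ?_⟩, ?_⟩
  · rw [← pow_mul, mul_comm]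
    have h3 := pow_card_eq_one' (G := CC (F := F)) (x := ⟨cgl a b hne, cgl_mem _ _ _⟩)
    rw [hC] at h3
    have h4 := congrArg Subtype.val h3
    rwa [Subgroup.coe_pow] at h4
  · show Matrix.GeneralLinearGroup.det ((cgl a b hne) ^ m) = -1
    rw [map_pow]
    show (Nd (cgl a b hne)) ^ m = -1
    rw [hdet, Odd.neg_one_pow hm]

include h2 hns in
theorem exists_c1 (h3 : Fintype.card F % 4 = 3) (k : ℕ) (hk : 3 ≤ k) :
    ∃ c1 ∈ tors (F := F) (2 ^ k), c1 * c1 = JJ := by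
  have hxy : ∃ x y : F, x * x - y * y = 0 ∧ x * y + y * x = 1 := by
    have h8 : Fintype.card F % 8 = 3 ∨ Fintype.card F % 8 = 7 := by omega
    rcases h8 with h8 | h8
    · have hsq : IsSquare (-2 : F) := by
        rw [FiniteField.isSquare_neg_two_iff]
        omega
      obtain ⟨w, hw⟩ := hsq
      have hw0 : w ≠ 0 := by
        rintro rfl
        apply h2
        linear_combination -hw
      refine ⟨w⁻¹, -w⁻¹, by ring, ?_⟩
      have e : w⁻¹ * -w⁻¹ + -w⁻¹ * w⁻¹ = (-2) * (w⁻¹ * w⁻¹) := by ring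
      rw [e, hw]
      field_simp
    · have hsq : IsSquare (2 : F) := by
        rw [FiniteField.isSquare_two_iff]
        omega
      obtain ⟨w, hw⟩ := hsq
      have hw0 : w ≠ 0 := by
        rintro rfl
        apply h2
        linear_combination hw
      refine ⟨w⁻¹, w⁻¹, by ring, ?_⟩
      have e : w⁻¹ * w⁻¹ + w⁻¹ * w⁻¹ = 2 * (w⁻¹ * w⁻¹) := by ring
      rw [e, hw]
      field_simp
  obtain ⟨x, y, h1, h1'⟩ := hxy
  have hne : x * x + y * y ≠ 0 := by
    intro h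
    obtain ⟨rfl, rfl⟩ := hns _ _ h
    simp at h1'
  have hc1J : cgl x y hne * cgl x y hne = JJ := by
    apply Units.ext
    rw [Units.val_mul, cgl_val, cmat_mul, JJ_val, h1, h1']
  refine ⟨cgl x y hne, ⟨cgl_mem _ _ _, ?_⟩, hc1J⟩
  obtain ⟨j, rfl⟩ : ∃ j, k = j + 1 := ⟨k - 1, by omega⟩
  rw [pow_succ' 2 j, pow_mul, pow_two, hc1J]
  exact JJ_pow j (by omega)

theorem neg_one_mem_SD (k : ℕ) (hk : 2 ≤ k) : (-1 : GL (Fin 2) F) ∈ SD (F := F) (2 ^ k) := by
  rw [mem_SD]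
  left
  rw [← JJ_mul_JJ]
  exact (tors _).mul_mem (JJ_mem_tors k hk) (JJ_mem_tors k hk)

include h2 in
theorem card_SD_eq (k m : ℕ) (hm : Odd m) (hC : Nat.card (CC (F := F)) = 2 ^ k * m) :
    Nat.card (SD (F := F) (2 ^ k)) = 2 ^ (k + 1) := by
  rw [card_SD h2, card_tors k m hm hC]
  ring

include h2 in
theorem card_map_SD (k m : ℕ) (hm : Odd m) (hC : Nat.card (CC (F := F)) = 2 ^ k * m) :
    Nat.card ((SD (F := F) (2 ^ k)).map iota) = 2 ^ (k + 1) := by
  rw [Subgroup.card_map_of_injective iota_injective, card_SD_eq h2 k m hm hC]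

include h2 hns in
/-- (A) for the image of the semidihedral group -/
theorem propA_case2 (hF : Odd (Fintype.card F)) (k r m : ℕ) (hk : 2 ≤ k) (hr : Odd r)
    (hq : Fintype.card F - 1 = 2 * r) (hm : Odd m)
    (hC : Nat.card (CC (F := F)) = 2 ^ k * m) :
    PropA ((SD (F := F) (2 ^ k)).map iota) := by
  obtain ⟨c0, hc0, hc0d⟩ := exists_c0 hns hF k m hC hm
  apply propA_of (SD (2 ^ k)) (k + 1)
  · exact card_SD_eq h2 k m hm hC
  · exact neg_one_mem_SD k hk
  · exact hinv2 h2 hns _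
  · exact hgen2 h2 hns k r hk hr hq c0 hc0 hc0d

include h2 hns in
/-- (I) for the image of the semidihedral group -/
theorem propI_case2 (h3 : Fintype.card F % 4 = 3) (k m : ℕ) (hk : 3 ≤ k) (hm : Odd m)
    (hC : Nat.card (CC (F := F)) = 2 ^ k * m) :
    PropI ((SD (F := F) (2 ^ k)).map iota) := by
  obtain ⟨c1, hc1, hc1J⟩ := exists_c1 h2 hns h3 k hk
  apply propI_of h2 (SD (2 ^ k))
  · exact neg_one_mem_SD k (by omega)
  · exact hcen2 h2 hns k (by omega)
  · exact hnorm2 h2 hns k m hm hC c1 hc1 hc1J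

end Main

theorem hns_of_card [Fintype F] (h : Fintype.card F % 4 = 3) :
    ∀ x y : F, x * x + y * y = 0 → x = 0 ∧ y = 0 := by
  intro x y hxy
  have hnsq : ¬ IsSquare (-1 : F) := by
    rw [FiniteField.isSquare_neg_one_iff]
    omega
  by_cases hy : y = 0
  · subst hy
    simp at hxy
    exact ⟨hxy, rfl⟩
  · exfalso
    apply hnsq
    refine ⟨x / y, ?_⟩
    field_simp
    linear_combination -hxy

end Cfsg.Agent.Lib.Helper41.SL3
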