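import Mathlib
import Cfsg.Agent.Lib.Helper41.SU3Base

set_option autoImplicit false

/-! `SU₃(q)`, `q ≡ 3 mod 4`: the monomial (wreathed) Sylow `2`-subgroup. -/

namespace Cfsg.Agent.Lib.Helper41.SU3

open Matrix Cfsg.Agent.Lib.Helper95.Fusion Cfsg.Agent.Lib.Helper41.FusionInner
  Cfsg.Agent.Lib.Helper41.FusionRel Cfsg.Agent.Lib.Helper41.SL3

variable {F : Type*} [Field F]

/-- `hgen1`, relative to a subgroup containing the two signed permutation matrices -/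
theorem hgen1G (μ : Subgroup Fˣ) (G : Subgroup (SpecialLinearGroup (Fin 3) F))
    (h13 : w13 ∈ G) (h23 : w23 ∈ G) :
    ∀ T : Subgroup (SpecialLinearGroup (Fin 3) F), T ≤ (M2 μ).map iota →
      (∀ x ∈ T, ∀ g ∈ G, g * x * g⁻¹ ∈ (M2 μ).map iota → g * x * g⁻¹ ∈ T) →
      (∀ A ∈ M2 μ, A * A = 1 → iota A ∈ T) → (M2 μ).map iota ≤ T := by
  intro T hT hsc hinvT
  have hsw : iota sw ∈ T := hinvT sw (sw_mem_M2 μ) sw_mul_sw
  have h1 : ∀ x ∈ μ, iota (dgl x x⁻¹) ∈ T := by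
    intro x hx
    have hm : dgl x x⁻¹ * sw ∈ M2 μ := dgl_sw_mem_M2.mpr ⟨hx, μ.inv_mem hx⟩
    have hsq : dgl x x⁻¹ * sw * (dgl x x⁻¹ * sw) = 1 := by
      rw [dgl_sw_sq, mul_inv_cancel, dgl_one]
    have h3 := T.mul_mem (hinvT _ hm hsq) hsw
    rw [← map_mul, mul_assoc, sw_mul_sw, mul_one] at h3
    exact h3
  have h2 : ∀ x ∈ μ, iota (dgl x 1) ∈ T := by
    intro x hx
    have e : w23 * iota (dgl x x⁻¹) * w23⁻¹ = iota (dgl x 1) := by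
      rw [w23_conj, mul_inv_cancel, inv_one, mul_inv_cancel_right]
    have h3 := hsc _ (h1 x hx) w23 h23 (by
      rw [e]
      exact Subgroup.mem_map_of_mem iota (dgl_mem_M2.mpr ⟨hx, μ.one_mem⟩))
    rwa [e] at h3
  have h3 : ∀ y ∈ μ, iota (dgl 1 y) ∈ T := by
    intro y hy
    have e : w13 * iota (dgl y⁻¹ y⁻¹⁻¹) * w13⁻¹ = iota (dgl 1 y) := by
      rw [w13_conj, mul_inv_cancel, inv_one, inv_inv, mul_inv_cancel_right]
    have h4 := hsc _ (h1 y⁻¹ (μ.inv_mem hy)) w13 h13 (by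
      rw [e]
      exact Subgroup.mem_map_of_mem iota (dgl_mem_M2.mpr ⟨μ.one_mem, hy⟩))
    rwa [e] at h4
  have h4 : ∀ x ∈ μ, ∀ y ∈ μ, iota (dgl x y) ∈ T := by
    intro x hx y hy
    have h5 := T.mul_mem (h2 x hx) (h3 y hy)
    rwa [← map_mul, dgl_mul, mul_one, one_mul] at h5
  intro s hs
  obtain ⟨A, hA, rfl⟩ := Subgroup.mem_map.mp hs
  rcases mem_M2.mp hA with ⟨x, hx, y, hy, rfl⟩ | ⟨x, hx, y, hy, rfl⟩
  · exact h4 x hx y hy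
  · rw [map_mul]
    exact T.mul_mem (h4 x hx y hy) hsw

variable [Fintype F] {q : ℕ}

theorem map_M2_le_SU3 (hF : Fintype.card F = q ^ 2) (μ : Subgroup Fˣ)
    (hμ : ∀ x ∈ μ, x ^ (q + 1) = 1) : (M2 μ).map iota ≤ Cfsg.SU 3 F q := by
  rintro _ ⟨A, hA, rfl⟩
  rw [iota_mem_SU3_iff hF]
  rcases mem_M2.mp hA with ⟨x, hx, y, hy, rfl⟩ | ⟨x, hx, y, hy, rfl⟩
  · exact dgl_mem_GU2 hF x y (hμ x hx) (hμ y hy)
  · exact (Cfsg.GU 2 F q).mul_mem (dgl_mem_GU2 hF x y (hμ x hx) (hμ y hy)) (sw_mem_GU2 hF)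

theorem propAIn_caseA (hF : Fintype.card F = q ^ 2) (hq : Odd q) (h2 : (2 : F) ≠ 0)
    (μ : Subgroup Fˣ) (a : ℕ) (hcard : Nat.card μ = 2 ^ a) (hμ : ∀ x ∈ μ, x ^ (q + 1) = 1) :
    PropAIn (Cfsg.SU 3 F q) ((M2 μ).map iota) := by
  apply propAIn_of (Cfsg.SU 3 F q)
    (fun t x ht hx ht1 ht2 hx1 hx2 => involutions_conj_SU3 hF h2 t x ht hx ht1 ht2 hx1 hx2)
    (M2 μ) (2 * a + 1)
  · rw [card_M2, hcard]
    ring
  · exact map_M2_le_SU3 hF μ hμ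
  · exact hgen1G μ _ (w13_mem hF hq) (w23_mem hF hq)

theorem propIIn_caseA (h2 : (2 : F) ≠ 0) (μ : Subgroup Fˣ) (hneg1 : (-1 : Fˣ) ∈ μ) (i : Fˣ)
    (hi : i ∈ μ) (hii : i * i = -1) :
    PropIIn (Cfsg.SU 3 F q) ((M2 μ).map iota) :=
  propIIn_of_propI (propI_case1 h2 μ hneg1 i hi hii) _

end Cfsg.Agent.Lib.Helper41.SU3
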