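import Mathlib
import Cfsg.Agent.Lib.Helper41.SU3Base
import Cfsg.Agent.Lib.Helper20.GU2Sylow
import Cfsg.Agent.Lib.Helper5.HermCount

set_option autoImplicit false

/-! `SU₃(q)`, `q ≡ 1 mod 4`: the semidihedral Sylow `2`-subgroup, in hyperbolic coordinates. -/

namespace Cfsg.Agent.Lib.Helper41.SU3

open Matrix Cfsg.Agent.Lib.Helper95.Fusion Cfsg.Agent.Lib.Helper41.FusionInner
  Cfsg.Agent.Lib.Helper41.FusionRel Cfsg.Agent.Lib.Helper41.SL3

variable {F : Type*} [Field F]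

/-- the torus `λ ↦ diag(λ, λ^{-q})` -/
def tauHom (q : ℕ) : Fˣ →* GL (Fin 2) F where
  toFun l := dgl l (l ^ q)⁻¹
  map_one' := by rw [one_pow, inv_one, dgl_one]
  map_mul' a b := by rw [dgl_mul, mul_pow, mul_inv]

theorem tauHom_apply (q : ℕ) (l : Fˣ) : tauHom (F := F) q l = dgl l (l ^ q)⁻¹ := rfl

theorem tauHom_injective (q : ℕ) : Function.Injective (tauHom (F := F) q) := by
  intro a b h
  rw [tauHom_apply, tauHom_apply] at h
  exact (dgl_injective h).1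

variable [Fintype F] {q : ℕ}

theorem units_pow_card_sq (hF : Fintype.card F = q ^ 2) (l : Fˣ) : (l ^ q) ^ q = l := by
  apply Units.ext
  rw [← pow_mul, ← pow_two, Units.val_pow_eq_pow_val, ← hF, FiniteField.pow_card]

/-- the torus part -/
def DB (q : ℕ) (μ : Subgroup Fˣ) : Subgroup (GL (Fin 2) F) := μ.map (tauHom q)

theorem mem_DB {μ : Subgroup Fˣ} {A : GL (Fin 2) F} :
    A ∈ DB q μ ↔ ∃ l ∈ μ, A = dgl l (l ^ q)⁻¹ := by
  constructor
  · rintro ⟨l, hl, rfl⟩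
    exact ⟨l, hl, rfl⟩
  · rintro ⟨l, hl, rfl⟩
    exact ⟨l, hl, rfl⟩

theorem sw_conj_mem_DB (hF : Fintype.card F = q ^ 2) (μ : Subgroup Fˣ) :
    ∀ d ∈ DB q μ, sw * d * sw⁻¹ ∈ DB q μ := by
  intro d hd
  obtain ⟨l, hl, rfl⟩ := mem_DB.mp hd
  rw [sw_conj_dgl]
  refine mem_DB.mpr ⟨(l ^ q)⁻¹, μ.inv_mem (μ.pow_mem hl q), ?_⟩
  rw [inv_pow, inv_inv, units_pow_card_sq hF]

/-- the semidihedral group in hyperbolic coordinates -/
def EB (hF : Fintype.card F = q ^ 2) (μ : Subgroup Fˣ) : Subgroup (GL (Fin 2) F) :=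
  ext2 (DB q μ) sw sw_mul_sw (sw_conj_mem_DB hF μ)

theorem mem_EB {hF : Fintype.card F = q ^ 2} {μ : Subgroup Fˣ} {A : GL (Fin 2) F} :
    A ∈ EB hF μ ↔ (∃ l ∈ μ, A = dgl l (l ^ q)⁻¹) ∨ (∃ l ∈ μ, A = dgl l (l ^ q)⁻¹ * sw) := by
  rw [EB, mem_ext2, mem_DB, mem_DB]
  constructor
  · rintro (h | ⟨l, hl, h⟩)
    · exact Or.inl h
    · right
      refine ⟨l, hl, ?_⟩
      rw [← h, mul_assoc, sw_mul_sw, mul_one]
  · rintro (h | ⟨l, hl, h⟩)
    · exact Or.inl h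
    · right
      refine ⟨l, hl, ?_⟩
      rw [h, mul_assoc, sw_mul_sw, mul_one]

theorem dgl_mem_EB {hF : Fintype.card F = q ^ 2} {μ : Subgroup Fˣ} {x y : Fˣ} :
    dgl x y ∈ EB hF μ ↔ x ∈ μ ∧ y = (x ^ q)⁻¹ := by
  constructor
  · intro h
    rcases mem_EB.mp h with ⟨l, hl, h⟩ | ⟨l, hl, h⟩
    · obtain ⟨rfl, rfl⟩ := dgl_injective h
      exact ⟨hl, rfl⟩
    · exact absurd h (dgl_ne_dgl_mul_sw _ _ _ _)
  · rintro ⟨hx, rfl⟩
    exact mem_EB.mpr (Or.inl ⟨x, hx, rfl⟩)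

theorem dgl_sw_mem_EB {hF : Fintype.card F = q ^ 2} {μ : Subgroup Fˣ} {x y : Fˣ} :
    dgl x y * sw ∈ EB hF μ ↔ x ∈ μ ∧ y = (x ^ q)⁻¹ := by
  constructor
  · intro h
    rcases mem_EB.mp h with ⟨l, hl, h⟩ | ⟨l, hl, h⟩
    · exact absurd h.symm (dgl_ne_dgl_mul_sw _ _ _ _)
    · obtain ⟨rfl, rfl⟩ := dgl_injective (mul_right_cancel h)
      exact ⟨hl, rfl⟩
  · rintro ⟨hx, rfl⟩
    exact mem_EB.mpr (Or.inr ⟨x, hx, rfl⟩)

theorem sw_mem_EB (hF : Fintype.card F = q ^ 2) (μ : Subgroup Fˣ) :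
    (sw : GL (Fin 2) F) ∈ EB hF μ := by
  have h : dgl (1 : Fˣ) 1 * sw ∈ EB hF μ :=
    dgl_sw_mem_EB.mpr ⟨μ.one_mem, by rw [one_pow, inv_one]⟩
  rwa [dgl_one, one_mul] at h

theorem card_EB (hF : Fintype.card F = q ^ 2) (μ : Subgroup Fˣ) :
    Nat.card (EB hF μ) = 2 * Nat.card μ := by
  rw [EB, card_ext2]
  · congr 1
    rw [DB, Subgroup.card_map_of_injective (tauHom_injective q)]
  · intro h
    obtain ⟨l, hl, h⟩ := mem_DB.mp h
    exact dgl_ne_dgl_mul_sw l _ 1 1 (by rw [dgl_one, one_mul]; exact h.symm)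

/-! ### the hyperbolic change of basis -/

section Hyp

variable (hF : Fintype.card F = q ^ 2) (h2 : (2 : F) ≠ 0) (i : Fˣ) (hii : i * i = -1)
  (hiq : i ^ q = i)

/-- the form in hyperbolic coordinates -/
def fh (q : ℕ) (a b : Fin 2 → F) : F := 2 * (a 0 * b 1 ^ q + a 1 * b 0 ^ q)

include h2 in
theorem Mh_det : (!![1, 1; (i : F), -(i : F)] : Matrix (Fin 2) (Fin 2) F).det ≠ 0 := by
  rw [Matrix.det_fin_two_of]
  intro h
  have h3 : (2 : F) * (i : F) = 0 := by linear_combination -h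
  rcases mul_eq_zero.mp h3 with h' | h'
  · exact h2 h'
  · exact i.ne_zero h'

/-- the change of basis to a hyperbolic pair -/
noncomputable def Mh : GL (Fin 2) F :=
  Matrix.GeneralLinearGroup.mkOfDetNeZero _ (Mh_det h2 i)

theorem Mh_val : ((Mh h2 i : GL (Fin 2) F) : Matrix (Fin 2) (Fin 2) F) =
    !![1, 1; (i : F), -(i : F)] := rfl

include hF hii hiq in
theorem Mh_form (a b : Fin 2 → F) :
    Cfsg.hermForm 2 F q ((Mh h2 i).val *ᵥ a) ((Mh h2 i).val *ᵥ b) = fh q a b := by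
  have hi1 : (i : F) * (i : F) = -1 := by
    rw [← Units.val_mul, hii]
    simp
  have hi2 : (i : F) ^ q = i := by
    rw [← Units.val_pow_eq_pow_val, hiq]
  rw [Mh_val, Cfsg.Agent.Lib.Helper20.mulVec_two, Cfsg.Agent.Lib.Helper20.mulVec_two,
    Cfsg.Agent.Lib.Helper20.hermForm_two]
  simp only [Matrix.of_apply, Matrix.cons_val', Matrix.cons_val_zero, Matrix.cons_val_one,
    Matrix.cons_val_fin_one, one_mul, fh]
  have e1 : (b 0 + b 1) ^ q = b 0 ^ q + b 1 ^ q := Cfsg.Agent.Lib.Helper5.frob_add hF _ _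
  have e2 : ((i : F) * b 0 + -(i : F) * b 1) ^ q = (i : F) * b 0 ^ q - (i : F) * b 1 ^ q := by
    have : (i : F) * b 0 + -(i : F) * b 1 = (i : F) * b 0 - (i : F) * b 1 := by ring
    rw [this, Cfsg.Agent.Lib.Helper5.frob_sub hF, mul_pow, mul_pow, hi2]
  rw [e1, e2]
  linear_combination ((a 0 - a 1) * (b 0 ^ q - b 1 ^ q)) * hi1

/-- the unitary group in hyperbolic coordinates -/
noncomputable def GUh (q : ℕ) : Subgroup (GL (Fin 2) F) :=
  (Cfsg.GU 2 F q).comap (MulAut.conj (Mh h2 i)).toMonoidHom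

theorem mem_GUh {A : GL (Fin 2) F} :
    A ∈ GUh h2 i q ↔ Mh h2 i * A * (Mh h2 i)⁻¹ ∈ Cfsg.GU 2 F q := Iff.rfl

include hF hii hiq in
theorem mem_GUh_of {A : GL (Fin 2) F}
    (hA : ∀ a b, fh q (A.val *ᵥ a) (A.val *ᵥ b) = fh q a b) : A ∈ GUh h2 i q :=
  (mem_GUh h2 i).mpr
    (Cfsg.Agent.Lib.Helper20.conj_mem_GU (Mh h2 i) A (fh q) (Mh_form hF h2 i hii hiq) hA)

include hF hii hiq in
theorem fh_of_mem_GUh {A : GL (Fin 2) F} (hA : A ∈ GUh h2 i q) (a b : Fin 2 → F) :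
    fh q (A.val *ᵥ a) (A.val *ᵥ b) = fh q a b := by
  have h0 : Mh h2 i * A * (Mh h2 i)⁻¹ ∈ Cfsg.GU 2 F q := (mem_GUh h2 i).mp hA
  have h1 := (Cfsg.Agent.Lib.Helper20.mem_GU_two_iff _).mp h0
    ((Mh h2 i).val *ᵥ a) ((Mh h2 i).val *ᵥ b)
  have e : ∀ w : Fin 2 → F, (Mh h2 i * A * (Mh h2 i)⁻¹ : GL (Fin 2) F).val *ᵥ
      ((Mh h2 i).val *ᵥ w) = (Mh h2 i).val *ᵥ (A.val *ᵥ w) := by
    intro w
    rw [Matrix.mulVec_mulVec, Matrix.mulVec_mulVec]
    congr 1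
    rw [← Units.val_mul, ← Units.val_mul, inv_mul_cancel_right]
  rw [e a, e b] at h1
  rw [Mh_form hF h2 i hii hiq, Mh_form hF h2 i hii hiq] at h1
  exact h1

/-- the conjugate of `SU₃` in hyperbolic coordinates -/
noncomputable def Gh (q : ℕ) : Subgroup (SpecialLinearGroup (Fin 3) F) :=
  (Cfsg.SU 3 F q).comap (MulAut.conj (iota (Mh h2 i))).toMonoidHom

theorem mem_Gh {g : SpecialLinearGroup (Fin 3) F} :
    g ∈ Gh h2 i q ↔ iota (Mh h2 i) * g * (iota (Mh h2 i))⁻¹ ∈ Cfsg.SU 3 F q := Iff.rfl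

theorem Gh_map : (Gh h2 i q).map (MulAut.conj (iota (Mh h2 i))).toMonoidHom = Cfsg.SU 3 F q := by
  ext x
  rw [mem_map_conj, mem_Gh]
  have e : iota (Mh h2 i) * ((iota (Mh h2 i))⁻¹ * x * iota (Mh h2 i)) * (iota (Mh h2 i))⁻¹ = x := by
    group
  rw [e]

include hF in
theorem iota_mem_Gh_iff {A : GL (Fin 2) F} : iota A ∈ Gh h2 i q ↔ A ∈ GUh h2 i q := by
  rw [mem_Gh, mem_GUh, ← map_inv, ← map_mul, ← map_mul, iota_mem_SU3_iff hF]

include hF in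
theorem involutions_conj_Gh (t x : SpecialLinearGroup (Fin 3) F) (ht : t ∈ Gh h2 i q)
    (hx : x ∈ Gh h2 i q) (ht1 : t ≠ 1) (ht2 : t * t = 1) (hx1 : x ≠ 1) (hx2 : x * x = 1) :
    ∃ g ∈ Gh h2 i q, g * t * g⁻¹ = x := by
  set p := iota (Mh h2 i) with hp
  have ht' : p * t * p⁻¹ ≠ 1 := by
    intro h
    apply ht1
    have e : t = p⁻¹ * (p * t * p⁻¹) * p := by group
    rw [e, h]
    group
  have hx' : p * x * p⁻¹ ≠ 1 := by
    intro h
    apply hx1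
    have e : x = p⁻¹ * (p * x * p⁻¹) * p := by group
    rw [e, h]
    group
  have ht2' : (p * t * p⁻¹) * (p * t * p⁻¹) = 1 := by
    have e : (p * t * p⁻¹) * (p * t * p⁻¹) = p * (t * t) * p⁻¹ := by group
    rw [e, ht2]
    group
  have hx2' : (p * x * p⁻¹) * (p * x * p⁻¹) = 1 := by
    have e : (p * x * p⁻¹) * (p * x * p⁻¹) = p * (x * x) * p⁻¹ := by group
    rw [e, hx2]
    group
  obtain ⟨g, hg, hgt⟩ := involutions_conj_SU3 hF h2 _ _ ((mem_Gh h2 i).mp ht)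
    ((mem_Gh h2 i).mp hx) ht' ht2' hx' hx2'
  rw [← hp] at hgt
  refine ⟨p⁻¹ * g * p, ?_, ?_⟩
  · rw [mem_Gh]
    have e : p * (p⁻¹ * g * p) * p⁻¹ = g := by group
    rw [e]
    exact hg
  · have e : p⁻¹ * g * p * t * (p⁻¹ * g * p)⁻¹ = p⁻¹ * (g * (p * t * p⁻¹) * g⁻¹) * p := by group
    rw [e, hgt]
    group

include hF hii hiq in
theorem dgl_mem_GUh (x y : Fˣ) (h1 : x * y ^ q = 1) (h3 : y * x ^ q = 1) :
    dgl x y ∈ GUh h2 i q := by
  apply mem_GUh_of hF h2 i hii hiq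
  intro a b
  have h1' : (x : F) * (y : F) ^ q = 1 := by
    rw [← Units.val_pow_eq_pow_val, ← Units.val_mul, h1, Units.val_one]
  have h3' : (y : F) * (x : F) ^ q = 1 := by
    rw [← Units.val_pow_eq_pow_val, ← Units.val_mul, h3, Units.val_one]
  rw [dgl_val, Cfsg.Agent.Lib.Helper20.mulVec_two, Cfsg.Agent.Lib.Helper20.mulVec_two]
  simp only [fh, Matrix.of_apply, Matrix.cons_val', Matrix.cons_val_zero, Matrix.cons_val_one,
    Matrix.cons_val_fin_one, zero_mul, add_zero, zero_add, mul_pow]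
  linear_combination (2 * a 0 * b 1 ^ q) * h1' + (2 * a 1 * b 0 ^ q) * h3'

include hF hii hiq in
theorem sw_mem_GUh : (sw : GL (Fin 2) F) ∈ GUh h2 i q := by
  apply mem_GUh_of hF h2 i hii hiq
  intro a b
  rw [sw_val, Cfsg.Agent.Lib.Helper20.mulVec_two, Cfsg.Agent.Lib.Helper20.mulVec_two]
  simp only [fh, Matrix.of_apply, Matrix.cons_val', Matrix.cons_val_zero, Matrix.cons_val_one,
    Matrix.cons_val_fin_one, zero_mul, one_mul, add_zero, zero_add]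
  ring

include hF hii hiq in
theorem tau_mem_GUh (l : Fˣ) : dgl l (l ^ q)⁻¹ ∈ GUh h2 i q := by
  apply dgl_mem_GUh hF h2 i hii hiq
  · rw [inv_pow, units_pow_card_sq hF, mul_inv_cancel]
  · exact inv_mul_cancel _

include hF hii hiq in
theorem EB_map_le_Gh (μ : Subgroup Fˣ) : (EB hF μ).map iota ≤ Gh h2 i q := by
  rintro _ ⟨A, hA, rfl⟩
  rw [iota_mem_Gh_iff hF]
  rcases mem_EB.mp hA with ⟨l, hl, rfl⟩ | ⟨l, hl, rfl⟩
  · exact tau_mem_GUh hF h2 i hii hiq l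
  · exact (GUh h2 i q).mul_mem (tau_mem_GUh hF h2 i hii hiq l) (sw_mem_GUh hF h2 i hii hiq)

include hF hii hiq in
/-- the element of order four `diag(i,-i)` is conjugate to an element outside the torus -/
theorem exists_conj_JX (hq : Odd q) (l0 : Fˣ) (hl0 : l0 ^ q = -l0) :
    ∃ M' : GL (Fin 2) F, M' ∈ GUh h2 i q ∧
      M' * dgl i (i ^ q)⁻¹ = (dgl l0 (l0 ^ q)⁻¹ * sw) * M' := by
  have hi1 : (i : F) * (i : F) = -1 := by
    rw [← Units.val_mul, hii]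
    simp
  have hi2 : (i : F) ^ q = i := by
    rw [← Units.val_pow_eq_pow_val, hiq]
  have hl : (l0 : F) ^ q = -(l0 : F) := by
    rw [← Units.val_pow_eq_pow_val, hl0]
    simp
  have hlinv : ((l0 : F)⁻¹) ^ q = -(l0 : F)⁻¹ := by
    rw [inv_pow, hl, inv_neg]
  have hll : (l0 : F) * (l0 : F)⁻¹ = 1 := mul_inv_cancel₀ l0.ne_zero
  have h2q : (2 : F) ^ q = 2 := by
    have e : (2 : F) = 1 + 1 := by norm_num
    rw [e, Cfsg.Agent.Lib.Helper5.frob_add hF, one_pow]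
  obtain ⟨h, hhdef⟩ : ∃ h : F, h = (2 : F)⁻¹ := ⟨_, rfl⟩
  have hh : h ^ q = h := by rw [hhdef, inv_pow, h2q]
  have e5 : (2 : F) * h = 1 := by rw [hhdef]; exact mul_inv_cancel₀ h2
  obtain ⟨al, haldef⟩ : ∃ al : F, al = (l0 : F) * h * (-(i : F)) := ⟨_, rfl⟩
  obtain ⟨de, hdedef⟩ : ∃ de : F, de = -(i : F) * (l0 : F)⁻¹ := ⟨_, rfl⟩
  have e4 : al * de = -h := by
    rw [haldef, hdedef]
    linear_combination (h * (i : F) * (i : F)) * hll + h * hi1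
  have halq : al ^ q = -al := by
    rw [haldef, mul_pow, mul_pow, hl, hh, Odd.neg_pow hq, hi2]
    ring
  have hdeq : de ^ q = -de := by
    rw [hdedef, mul_pow, hlinv, Odd.neg_pow hq, hi2]
    ring
  have hdet : (!![al, 1; h, de] : Matrix (Fin 2) (Fin 2) F).det ≠ 0 := by
    rw [Matrix.det_fin_two_of]
    have e : al * de - 1 * h = -1 := by linear_combination e4 - e5
    rw [e]
    exact neg_ne_zero.mpr one_ne_zero
  refine ⟨Matrix.GeneralLinearGroup.mkOfDetNeZero _ hdet, ?_, ?_⟩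
  · apply mem_GUh_of hF h2 i hii hiq
    intro a b
    show fh q ((!![al, 1; h, de] : Matrix (Fin 2) (Fin 2) F) *ᵥ a)
      ((!![al, 1; h, de] : Matrix (Fin 2) (Fin 2) F) *ᵥ b) = fh q a b
    rw [Cfsg.Agent.Lib.Helper20.mulVec_two, Cfsg.Agent.Lib.Helper20.mulVec_two]
    simp only [fh, Matrix.of_apply, Matrix.cons_val', Matrix.cons_val_zero, Matrix.cons_val_one,
      Matrix.cons_val_fin_one, one_mul]
    rw [Cfsg.Agent.Lib.Helper5.frob_add hF, Cfsg.Agent.Lib.Helper5.frob_add hF, mul_pow, mul_pow,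
      mul_pow, halq, hdeq, hh]
    linear_combination (-2 * (a 0 * b 1 ^ q + a 1 * b 0 ^ q)) * e4 +
      (2 * (a 0 * b 1 ^ q + a 1 * b 0 ^ q)) * e5
  · have hiinv : ((i ^ q)⁻¹ : Fˣ) = -i := by
      rw [hiq]
      apply inv_eq_of_mul_eq_one_right
      rw [mul_neg, hii, neg_neg]
    have hl0inv : ((l0 ^ q)⁻¹ : Fˣ) = -l0⁻¹ := by
      rw [hl0, inv_neg]
    rw [hiinv, hl0inv]
    apply Units.ext
    rw [Units.val_mul, Units.val_mul, Units.val_mul, dgl_val, dgl_val, sw_val]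
    show (!![al, 1; h, de] : Matrix (Fin 2) (Fin 2) F) * _ = _ * (!![al, 1; h, de] : Matrix (Fin 2) (Fin 2) F)
    have e00 : al * (i : F) = (l0 : F) * h := by
      rw [haldef]
      linear_combination (-(l0 : F) * h) * hi1
    have e01 : -(i : F) = (l0 : F) * de := by
      rw [hdedef]
      linear_combination ((i : F)) * hll
    have e10 : h * (i : F) = -(l0 : F)⁻¹ * al := by
      rw [haldef]
      linear_combination (-h * (i : F)) * hll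
    have e11 : de * -(i : F) = -(l0 : F)⁻¹ := by
      rw [hdedef]
      linear_combination (l0 : F)⁻¹ * hi1
    ext r c
    fin_cases r <;> fin_cases c <;>
      simp [Matrix.mul_apply, Fin.sum_univ_two]
    · first | linear_combination e00 | linear_combination -e00
    · first | linear_combination e01 | linear_combination -e01
    · first | linear_combination e10 | linear_combination -e10
    · first | linear_combination e11 | linear_combination -e11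

end Hyp

section Main

variable (hF : Fintype.card F = q ^ 2) (hq : Odd q) (h2 : (2 : F) ≠ 0) (i : Fˣ) (hii : i * i = -1)
  (hiq : i ^ q = i) (μ : Subgroup Fˣ) (hiμ : i ∈ μ)

include hii hiμ in
theorem neg_one_mem_mu : (-1 : Fˣ) ∈ μ := by
  rw [← hii]
  exact μ.mul_mem hiμ hiμ

include hq in
theorem neg_one_mem_EB (hneg : (-1 : Fˣ) ∈ μ) : (-1 : GL (Fin 2) F) ∈ EB hF μ := by
  rw [neg_one_eq_dgl]
  exact dgl_mem_EB.mpr ⟨hneg, by rw [hq.neg_one_pow, inv_neg_one]⟩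

include hq hii hiq hiμ in
theorem hgenB (hμ2 : ∀ l ∈ μ, l ^ q = l ∨ l ^ q = -l) (l0 : Fˣ) (hl0μ : l0 ∈ μ)
    (hl0 : l0 ^ q = -l0) :
    ∀ T : Subgroup (SpecialLinearGroup (Fin 3) F), T ≤ (EB hF μ).map iota →
      (∀ x ∈ T, ∀ g ∈ Gh h2 i q, g * x * g⁻¹ ∈ (EB hF μ).map iota → g * x * g⁻¹ ∈ T) →
      (∀ A ∈ EB hF μ, A * A = 1 → iota A ∈ T) → (EB hF μ).map iota ≤ T := by
  intro T hT hsc hinvT
  have hsw : iota sw ∈ T := hinvT sw (sw_mem_EB hF μ) sw_mul_sw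
  have h1 : ∀ l ∈ μ, l ^ q = l → iota (dgl l (l ^ q)⁻¹) ∈ T := by
    intro l hl hlq
    have hm : dgl l (l ^ q)⁻¹ * sw ∈ EB hF μ := dgl_sw_mem_EB.mpr ⟨hl, rfl⟩
    have hsq : dgl l (l ^ q)⁻¹ * sw * (dgl l (l ^ q)⁻¹ * sw) = 1 := by
      rw [dgl_sw_sq, hlq, mul_inv_cancel, dgl_one]
    have h3 := T.mul_mem (hinvT _ hm hsq) hsw
    rwa [← map_mul, mul_assoc, sw_mul_sw, mul_one] at h3
  have hJ : iota (dgl i (i ^ q)⁻¹) ∈ T := h1 i hiμ hiq
  obtain ⟨M', hM'G, hM'⟩ := exists_conj_JX hF h2 i hii hiq hq l0 hl0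
  have hX : iota (dgl l0 (l0 ^ q)⁻¹ * sw) ∈ T := by
    have e : iota M' * iota (dgl i (i ^ q)⁻¹) * (iota M')⁻¹ = iota (dgl l0 (l0 ^ q)⁻¹ * sw) := by
      rw [← map_mul, hM', map_mul]
      group
    have h3 := hsc _ hJ (iota M') ((iota_mem_Gh_iff hF h2 i).mpr hM'G) (by
      rw [e]
      exact Subgroup.mem_map_of_mem iota (dgl_sw_mem_EB.mpr ⟨hl0μ, rfl⟩))
    rwa [e] at h3
  have hl0T : iota (dgl l0 (l0 ^ q)⁻¹) ∈ T := by
    have h3 := T.mul_mem hX hsw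
    rwa [← map_mul, mul_assoc, sw_mul_sw, mul_one] at h3
  have h5 : ∀ l ∈ μ, iota (dgl l (l ^ q)⁻¹) ∈ T := by
    intro l hl
    rcases hμ2 l hl with hlq | hlq
    · exact h1 l hl hlq
    · have hll : (l * l0⁻¹) ^ q = l * l0⁻¹ := by
        rw [mul_pow, inv_pow, hlq, hl0, inv_neg, neg_mul_neg]
      have h3 := T.mul_mem (h1 _ (μ.mul_mem hl (μ.inv_mem hl0μ)) hll) hl0T
      rw [← map_mul, ← tauHom_apply, ← tauHom_apply, ← map_mul, inv_mul_cancel_right,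
        tauHom_apply] at h3
      exact h3
  intro s hs
  obtain ⟨A, hA, rfl⟩ := Subgroup.mem_map.mp hs
  rcases mem_EB.mp hA with ⟨l, hl, rfl⟩ | ⟨l, hl, rfl⟩
  · exact h5 l hl
  · rw [map_mul]
    exact T.mul_mem (h5 l hl) hsw

include h2 hii hiq hiμ in
theorem hcenB : ∀ A ∈ EB hF μ, A * A = 1 → A ≠ 1 →
    (∀ B ∈ EB hF μ, A * B = B * A) → A = -1 := by
  intro A hA hAA hA1 hc
  have hne : (-1 : Fˣ) ≠ 1 := neg_one_ne_one_units h2
  rcases mem_EB.mp hA with ⟨l, hl, rfl⟩ | ⟨l, hl, rfl⟩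
  · have h1 := hc sw (sw_mem_EB hF μ)
    rw [sw_mul_dgl] at h1
    obtain ⟨hxy, _⟩ := dgl_injective (mul_right_cancel h1)
    rw [← hxy, dgl_mul, ← dgl_one] at hAA
    rcases units_mul_self_eq_one (dgl_injective hAA).1 with h | h
    · exfalso
      apply hA1
      rw [← hxy, h, dgl_one]
    · rw [← hxy, h]
      exact neg_one_eq_dgl.symm
  · exfalso
    have hB : dgl i (i ^ q)⁻¹ ∈ EB hF μ := dgl_mem_EB.mpr ⟨hiμ, rfl⟩
    have h1 := hc _ hB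
    rw [mul_assoc, sw_mul_dgl, ← mul_assoc, ← mul_assoc, dgl_mul, dgl_mul] at h1
    obtain ⟨hx1, _⟩ := dgl_injective (mul_right_cancel h1)
    rw [hiq] at hx1
    have h3 : i⁻¹ = i := by
      have h4 : l * i⁻¹ = l * i := by rw [hx1, mul_comm]
      exact mul_left_cancel h4
    apply hne
    rw [← hii]
    nth_rewrite 1 [← h3]
    exact inv_mul_cancel i

omit [Fintype F] in
theorem units_sq_eq_sq {u v : Fˣ} (h : u * u = v * v) : u = v ∨ u = -v := by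
  have h1 : (u : F) * u = (v : F) * v := by rw [← Units.val_mul, h, Units.val_mul]
  rcases mul_self_eq_mul_self_iff.mp h1 with h3 | h3
  · left
    exact Units.ext h3
  · right
    apply Units.ext
    rw [h3]
    simp

include h2 hii hiq hiμ in
theorem hnormB (l1 : Fˣ) (hl1μ : l1 ∈ μ) (hl1 : l1 * l1 = i)
    (hμ6 : ∀ ν ∈ μ, ν ^ q = ν → ∃ l ∈ μ, l * l ^ q = ν) :
    ∀ A0 : GL (Fin 2) F, (∀ m ∈ EB hF μ, A0 * m * A0⁻¹ ∈ EB hF μ) →
      ∃ t : Fˣ, ∃ m0 ∈ EB hF μ, A0 = dgl t t * m0 := by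
  intro A0 hN
  have hne : (-1 : Fˣ) ≠ 1 := neg_one_ne_one_units h2
  have hiinv : i⁻¹ = -i := by
    apply inv_eq_of_mul_eq_one_right
    rw [mul_neg, hii, neg_neg]
  have hine : i ≠ -i := by
    intro h
    apply hne
    have h3 : i * i = i * -i := by rw [← h]
    rw [hii, mul_neg, hii, neg_neg] at h3
    exact h3
  have hJdef : dgl i (i ^ q)⁻¹ = dgl i (-i) := by rw [hiq, hiinv]
  have hd : dgl l1 (l1 ^ q)⁻¹ ∈ EB hF μ := dgl_mem_EB.mpr ⟨hl1μ, rfl⟩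
  have hdd : dgl l1 (l1 ^ q)⁻¹ * dgl l1 (l1 ^ q)⁻¹ = dgl i (-i) := by
    rw [← tauHom_apply, ← map_mul, hl1, tauHom_apply, hJdef]
  have hm := hN _ hd
  have hmm : (A0 * dgl l1 (l1 ^ q)⁻¹ * A0⁻¹) * (A0 * dgl l1 (l1 ^ q)⁻¹ * A0⁻¹) =
      A0 * dgl i (-i) * A0⁻¹ := by
    rw [← hdd]
    group
  have hJJ : dgl i (-i) * dgl i (-i) = -1 := by
    rw [dgl_mul, neg_mul_neg, hii, neg_one_eq_dgl]
  have hKK : (A0 * dgl i (-i) * A0⁻¹) * (A0 * dgl i (-i) * A0⁻¹) = -1 := by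
    calc (A0 * dgl i (-i) * A0⁻¹) * (A0 * dgl i (-i) * A0⁻¹)
        = A0 * (dgl i (-i) * dgl i (-i)) * A0⁻¹ := by group
      _ = -1 := by
        rw [hJJ]
        simp
  have hnsc : ∀ s : Fˣ, A0 * dgl i (-i) * A0⁻¹ ≠ dgl s s := by
    intro s hs
    have h3 : dgl i (-i) = dgl s s := by
      have h4 : dgl i (-i) = A0⁻¹ * (A0 * dgl i (-i) * A0⁻¹) * A0 := by group
      rw [h4, hs, mul_assoc, dgl_scalar_comm s A0, ← mul_assoc, inv_mul_cancel, one_mul]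
    obtain ⟨h4, h5⟩ := dgl_injective h3
    exact hine (h4.trans h5.symm)
  have key : ∃ c d : Fˣ, A0 = dgl c d ∨ A0 = dgl c d * sw := by
    rcases mem_EB.mp hm with ⟨x, hx, hxy⟩ | ⟨x, hx, hxy⟩
    · rw [hxy, dgl_mul] at hmm
      have hsq : dgl (x * x) ((x ^ q)⁻¹ * (x ^ q)⁻¹) * dgl (x * x) ((x ^ q)⁻¹ * (x ^ q)⁻¹) = -1 := by
        rw [hmm]
        exact hKK
      rw [dgl_mul, neg_one_eq_dgl, ← hii] at hsq
      obtain ⟨hu, hv⟩ := dgl_injective hsq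
      rcases units_sq_eq_sq hu with hu | hu <;> rcases units_sq_eq_sq hv with hv | hv
      · exfalso
        rw [hu, hv] at hmm
        exact hnsc i hmm.symm
      · rw [hu, hv] at hmm
        have h6 : A0 * dgl i (-i) = dgl i (-i) * A0 := by
          calc A0 * dgl i (-i) = (A0 * dgl i (-i) * A0⁻¹) * A0 := by group
            _ = dgl i (-i) * A0 := by rw [← hmm]
        obtain ⟨c, d, hcd⟩ := diag_of_comm hine A0 h6
        exact ⟨c, d, Or.inl hcd⟩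
      · rw [hu, hv] at hmm
        have h6 : A0 * dgl i (-i) = dgl (-i) i * A0 := by
          calc A0 * dgl i (-i) = (A0 * dgl i (-i) * A0⁻¹) * A0 := by group
            _ = dgl (-i) i * A0 := by rw [← hmm]
        have h5 : (A0 * sw) * dgl (-i) i = dgl (-i) i * (A0 * sw) := by
          rw [mul_assoc, sw_mul_dgl, ← mul_assoc, h6, mul_assoc]
        obtain ⟨c, d, hcd⟩ := diag_of_comm hine.symm (A0 * sw) h5
        refine ⟨c, d, Or.inr ?_⟩
        rw [← hcd, mul_assoc, sw_mul_sw, mul_one]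
      · exfalso
        rw [hu, hv] at hmm
        exact hnsc (-i) hmm.symm
    · exfalso
      rw [hxy, dgl_sw_sq] at hmm
      exact hnsc _ hmm.symm
  obtain ⟨c, d, hA0⟩ := key
  have hN' : dgl c d * sw * (dgl c d)⁻¹ ∈ EB hF μ := by
    rcases hA0 with h | h
    · rw [← h]
      exact hN sw (sw_mem_EB hF μ)
    · have h3 := hN sw (sw_mem_EB hF μ)
      have e : A0 * sw * A0⁻¹ = dgl c d * sw * (dgl c d)⁻¹ := by
        rw [h, _root_.mul_inv_rev, sw_inv, mul_assoc (dgl c d) sw sw, sw_mul_sw, mul_one, ← mul_assoc]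
      rwa [e] at h3
  have e2 : dgl c d * sw * (dgl c d)⁻¹ = dgl (c * d⁻¹) (d * c⁻¹) * sw := by
    rw [dgl_inv, mul_assoc, sw_mul_dgl, ← mul_assoc, dgl_mul]
  rw [e2] at hN'
  obtain ⟨hν, hν2⟩ := dgl_sw_mem_EB.mp hN'
  have hνq : (c * d⁻¹) ^ q = c * d⁻¹ := by
    have h3 : (c * d⁻¹)⁻¹ = ((c * d⁻¹) ^ q)⁻¹ := by
      rw [← hν2, mul_inv, inv_inv, mul_comm]
    exact (inv_injective h3).symm
  obtain ⟨l, hl, hlν⟩ := hμ6 _ hν hνq
  have e3 : dgl c d = dgl (c * l⁻¹) (c * l⁻¹) * dgl l (l ^ q)⁻¹ := by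
    rw [dgl_mul, inv_mul_cancel_right]
    congr 1
    rw [mul_assoc, ← mul_inv, hlν, mul_inv, inv_inv, ← mul_assoc, mul_inv_cancel, one_mul]
  rcases hA0 with h | h
  · exact ⟨c * l⁻¹, dgl l (l ^ q)⁻¹, dgl_mem_EB.mpr ⟨hl, rfl⟩, h.trans e3⟩
  · refine ⟨c * l⁻¹, dgl l (l ^ q)⁻¹ * sw, dgl_sw_mem_EB.mpr ⟨hl, rfl⟩, ?_⟩
    rw [h, e3, mul_assoc]

/-- the Sylow `2`-subgroup of `SU₃(q)`, `q ≡ 1 mod 4` -/
noncomputable def SB : Subgroup (SpecialLinearGroup (Fin 3) F) :=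
  ((EB hF μ).map iota).map (MulAut.conj (iota (Mh h2 i))).toMonoidHom

theorem card_SB (k : ℕ) (hcard : Nat.card μ = 2 ^ k) : Nat.card (SB hF h2 i μ) = 2 ^ (k + 1) := by
  rw [SB, Subgroup.card_map_of_injective (MulEquiv.injective _),
    Subgroup.card_map_of_injective iota_injective, card_EB, hcard]
  ring

include hii hiq in
theorem SB_le : SB hF h2 i μ ≤ Cfsg.SU 3 F q := by
  have h1 := Subgroup.map_mono (f := (MulAut.conj (iota (Mh h2 i))).toMonoidHom)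
    (EB_map_le_Gh hF h2 i hii hiq μ)
  rw [Gh_map] at h1
  exact h1

include hq hii hiq hiμ in
theorem propAIn_caseB (k : ℕ) (hcard : Nat.card μ = 2 ^ k)
    (hμ2 : ∀ l ∈ μ, l ^ q = l ∨ l ^ q = -l) (l0 : Fˣ) (hl0μ : l0 ∈ μ) (hl0 : l0 ^ q = -l0) :
    PropAIn (Cfsg.SU 3 F q) (SB hF h2 i μ) := by
  have h1 : PropAIn (Gh h2 i q) ((EB hF μ).map iota) := by
    apply propAIn_of (Gh h2 i q) (involutions_conj_Gh hF h2 i) (EB hF μ) (k + 1)
    · rw [card_EB, hcard]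
      ring
    · exact EB_map_le_Gh hF h2 i hii hiq μ
    · exact hgenB hF hq h2 i hii hiq μ hiμ hμ2 l0 hl0μ hl0
  have h3 := propAIn_map_conj (iota (Mh h2 i)) h1
  rw [Gh_map] at h3
  exact h3

include hq hii hiq hiμ in
theorem propIIn_caseB (l1 : Fˣ) (hl1μ : l1 ∈ μ) (hl1 : l1 * l1 = i)
    (hμ6 : ∀ ν ∈ μ, ν ^ q = ν → ∃ l ∈ μ, l * l ^ q = ν) :
    PropIIn (Cfsg.SU 3 F q) (SB hF h2 i μ) := by
  have h1 : PropIIn (Gh h2 i q) ((EB hF μ).map iota) := by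
    apply propIIn_of_propI
    apply propI_of h2 (EB hF μ)
    · exact neg_one_mem_EB hF hq μ (neg_one_mem_mu i hii μ hiμ)
    · exact hcenB hF h2 i hii hiq μ hiμ
    · exact hnormB hF h2 i hii hiq μ hiμ l1 hl1μ hl1 hμ6
  have h3 := propIIn_map_conj (iota (Mh h2 i)) h1
  rw [Gh_map] at h3
  exact h3

end Main

end Cfsg.Agent.Lib.Helper41.SU3
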