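import Mathlib

set_option autoImplicit false

namespace Cfsg.Agent.Lib.Helper41

/-- The semidirect product `V ⋊ G` of an additive group by a group acting on it, written with
pairs `(v, g)` acting as `x ↦ g • x + v`. -/
@[ext] structure SemiAff (G V : Type*) [Group G] [AddCommGroup V] [DistribMulAction G V] where
  v : V
  g : G

namespace SemiAff

variable {G V : Type*} [Group G] [AddCommGroup V] [DistribMulAction G V]

instance : Mul (SemiAff G V) := ⟨fun x y => ⟨x.v + x.g • y.v, x.g * y.g⟩⟩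
instance : One (SemiAff G V) := ⟨⟨0, 1⟩⟩
instance : Inv (SemiAff G V) := ⟨fun x => ⟨-(x.g⁻¹ • x.v), x.g⁻¹⟩⟩

@[simp] theorem mul_v (x y : SemiAff G V) : (x * y).v = x.v + x.g • y.v := rfl
@[simp] theorem mul_g (x y : SemiAff G V) : (x * y).g = x.g * y.g := rfl
@[simp] theorem one_v : (1 : SemiAff G V).v = 0 := rfl
@[simp] theorem one_g : (1 : SemiAff G V).g = 1 := rfl
@[simp] theorem inv_v (x : SemiAff G V) : (x⁻¹).v = -(x.g⁻¹ • x.v) := rfl
@[simp] theorem inv_g (x : SemiAff G V) : (x⁻¹).g = x.g⁻¹ := rfl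

instance : Group (SemiAff G V) where
  mul_assoc x y z := by
    ext
    · simp [smul_add, mul_smul, add_assoc]
    · simp [mul_assoc]
  one_mul x := by ext <;> simp
  mul_one x := by ext <;> simp
  inv_mul_cancel x := by
    ext
    · simp
    · simp

theorem pow_g (x : SemiAff G V) (n : ℕ) : (x ^ n).g = x.g ^ n := by
  induction n with
  | zero => simp
  | succ n ih => rw [pow_succ, mul_g, ih, pow_succ]

theorem pow_v (x : SemiAff G V) (n : ℕ) :
    (x ^ n).v = ∑ i ∈ Finset.range n, (x.g ^ i) • x.v := by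
  induction n with
  | zero => simp
  | succ n ih => rw [pow_succ, mul_v, ih, pow_g, Finset.sum_range_succ]

theorem eq_one_iff (x : SemiAff G V) : x = 1 ↔ x.v = 0 ∧ x.g = 1 := by
  constructor
  · rintro rfl; exact ⟨rfl, rfl⟩
  · rintro ⟨h1, h2⟩; ext
    · rw [h1]; rfl
    · rw [h2]; rfl

/-- If `g ^ n = 1` and `g` has no non-zero fixed vectors then `(v, g) ^ n = 1`. -/
theorem pow_eq_one_of_fpf (x : SemiAff G V) (n : ℕ) (hg : x.g ^ n = 1)
    (hfpf : ∀ w : V, x.g • w = w → w = 0) : x ^ n = 1 := by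
  rw [eq_one_iff, pow_g, pow_v]
  refine ⟨?_, hg⟩
  apply hfpf
  rw [Finset.smul_sum]
  have h1 : ∀ i ∈ Finset.range n, x.g • (x.g ^ i) • x.v = (x.g ^ (i + 1)) • x.v := by
    intro i _
    rw [← mul_smul, ← pow_succ']
  rw [Finset.sum_congr rfl h1]
  have h2 := Finset.sum_range_succ' (fun i => (x.g ^ i) • x.v) n
  have h3 := Finset.sum_range_succ (fun i => (x.g ^ i) • x.v) n
  simp only [pow_zero, one_smul] at h2
  rw [hg, one_smul] at h3
  rw [h3] at h2
  exact (add_right_cancel h2).symm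

/-- In characteristic two, if `g ^ 2 = 1` then `(v, g) ^ 4 = 1`. -/
theorem pow_four_eq_one (x : SemiAff G V) (hg : x.g ^ 2 = 1) (h2 : ∀ w : V, w + w = 0) :
    x ^ 4 = 1 := by
  have e : x ^ 4 = (x ^ 2) ^ 2 := by rw [← pow_mul]
  rw [e, eq_one_iff, pow_g, pow_v, pow_g, hg, one_pow]
  refine ⟨?_, rfl⟩
  simp only [Finset.sum_range_succ, Finset.sum_range_zero, pow_zero, pow_one, one_smul, zero_add]
  exact h2 _

/-- The underlying equivalence with the product. -/
def equivProd : SemiAff G V ≃ V × G where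
  toFun x := (x.v, x.g)
  invFun p := ⟨p.1, p.2⟩
  left_inv _ := rfl
  right_inv _ := rfl

theorem card_eq : Nat.card (SemiAff G V) = Nat.card V * Nat.card G := by
  rw [Nat.card_congr equivProd, Nat.card_prod]

instance [Finite G] [Finite V] : Finite (SemiAff G V) := Finite.of_equiv _ equivProd.symm

end SemiAff

end Cfsg.Agent.Lib.Helper41
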