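import Mathlib
import Cfsg.Agent.Lib.Helper41.SL2Conj
import Cfsg.Agent.Lib.Helper41.SL2Torus

set_option autoImplicit false

/-! `Sp₄(F)` as `2 × 2` block matrices over `M₂(F)` with respect to the orthogonal decomposition
`V = V₁ ⊥ V₂` into hyperbolic planes: the embedding `iota` of `SL₂ × SL₂`, the swap `tt`, and the
block form of elements stabilising `V₁`. -/

namespace Cfsg.Agent.Lib.Helper41.Sp4

open Matrix

variable {F : Type*} [Field F]

local notation "SL₂(" F ")" => Matrix.SpecialLinearGroup (Fin 2) F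
local notation "M₂(" F ")" => Matrix (Fin 2) (Fin 2) F
local notation "M₄(" F ")" => Matrix (Fin 2 ⊕ Fin 2) (Fin 2 ⊕ Fin 2) F

/-- the hyperbolic plane index of a coordinate -/
def ix : Fin 2 ⊕ Fin 2 → Fin 2 := Sum.elim id id
/-- the position of a coordinate inside its hyperbolic plane -/
def sg : Fin 2 ⊕ Fin 2 → Fin 2 := Sum.elim (fun _ => 0) (fun _ => 1)

/-- the `4 × 4` matrix with given `2 × 2` blocks with respect to `V₁ ⊕ V₂` -/
def bm (B : Matrix (Fin 2) (Fin 2) M₂(F)) : M₄(F) :=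
  Matrix.of fun r c => B (ix r) (ix c) (sg r) (sg c)

theorem bm_apply (B : Matrix (Fin 2) (Fin 2) M₂(F)) (r c : Fin 2 ⊕ Fin 2) :
    bm B r c = B (ix r) (ix c) (sg r) (sg c) := rfl

theorem bm_mul (B C : Matrix (Fin 2) (Fin 2) M₂(F)) : bm (B * C) = bm B * bm C := by
  ext r c
  simp only [bm_apply, Matrix.mul_apply, Fintype.sum_sum_type, Fin.sum_univ_two, Matrix.add_apply,
    ix, sg, Sum.elim_inl, Sum.elim_inr, id]
  ring

theorem bm_one : bm (1 : Matrix (Fin 2) (Fin 2) M₂(F)) = 1 := by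
  ext r c
  rcases r with r | r <;> rcases c with c | c <;> fin_cases r <;> fin_cases c <;>
    simp [bm_apply, ix, sg, Matrix.one_apply]

/-- the blocks of a `4 × 4` matrix -/
def blk (M : M₄(F)) : Matrix (Fin 2) (Fin 2) M₂(F) :=
  Matrix.of fun i j => Matrix.of fun ε δ =>
    M (if ε = 0 then Sum.inl i else Sum.inr i) (if δ = 0 then Sum.inl j else Sum.inr j)

theorem bm_blk (M : M₄(F)) : bm (blk M) = M := by
  ext r c
  rcases r with r | r <;> rcases c with c | c <;> simp [bm_apply, blk, ix, sg]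

theorem bm_injective : Function.Injective (bm : Matrix (Fin 2) (Fin 2) M₂(F) → M₄(F)) := by
  intro B C h
  ext i j ε δ
  have h1 := congrFun (congrFun h (if ε = 0 then Sum.inl i else Sum.inr i))
    (if δ = 0 then Sum.inl j else Sum.inr j)
  fin_cases ε <;> fin_cases δ <;> simpa [bm_apply, ix, sg] using h1

theorem exists_blocks (M : M₄(F)) : ∃ X Y Z W : M₂(F), M = bm !![X, Y; Z, W] := by
  refine ⟨blk M 0 0, blk M 0 1, blk M 1 0, blk M 1 1, ?_⟩
  conv_lhs => rw [← bm_blk M]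
  congr 1
  ext i j
  fin_cases i <;> fin_cases j <;> rfl

/-- the standard alternating `2 × 2` matrix -/
def J2 : M₂(F) := !![0, -1; 1, 0]

theorem J_eq_bm : Matrix.J (Fin 2) F = bm !![J2, 0; 0, J2] := by
  ext r c
  rcases r with r | r <;> rcases c with c | c <;> fin_cases r <;> fin_cases c <;>
    simp [bm_apply, ix, sg, Matrix.J, J2, Matrix.one_apply]

theorem bm_transpose (X Y Z W : M₂(F)) : (bm !![X, Y; Z, W])ᵀ = bm !![Xᵀ, Zᵀ; Yᵀ, Wᵀ] := by
  ext r c
  rcases r with r | r <;> rcases c with c | c <;> fin_cases r <;> fin_cases c <;>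
    simp [bm_apply, ix, sg, Matrix.transpose_apply]

theorem bm_mem_iff (X Y Z W : M₂(F)) :
    bm !![X, Y; Z, W] ∈ Matrix.symplecticGroup (Fin 2) F ↔
      X * J2 * Xᵀ + Y * J2 * Yᵀ = J2 ∧ X * J2 * Zᵀ + Y * J2 * Wᵀ = 0 ∧
      Z * J2 * Xᵀ + W * J2 * Yᵀ = 0 ∧ Z * J2 * Zᵀ + W * J2 * Wᵀ = J2 := by
  rw [SymplecticGroup.mem_iff, J_eq_bm, bm_transpose, ← bm_mul, ← bm_mul, bm_injective.eq_iff,
    Matrix.mul_fin_two, Matrix.mul_fin_two]
  simp only [mul_zero, zero_mul, add_zero, zero_add]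
  constructor
  · intro h
    have h00 := congrFun (congrFun h 0) 0
    have h01 := congrFun (congrFun h 0) 1
    have h10 := congrFun (congrFun h 1) 0
    have h11 := congrFun (congrFun h 1) 1
    simp at h00 h01 h10 h11
    exact ⟨h00, h01, h10, h11⟩
  · rintro ⟨h00, h01, h10, h11⟩
    rw [h00, h01, h10, h11]

theorem mul_J2_transpose (X : M₂(F)) : X * J2 * Xᵀ = X.det • J2 := by
  ext i j
  fin_cases i <;> fin_cases j <;>
    simp [J2, Matrix.mul_apply, Fin.sum_univ_two, Matrix.det_fin_two] <;> ring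

theorem eq_zero_of_mul_J2_transpose {Y W : M₂(F)} (h : Y * J2 * Wᵀ = 0) (hW : W.det = 1) :
    Y = 0 := by
  have h00 := congrFun (congrFun h 0) 0
  have h01 := congrFun (congrFun h 0) 1
  have h10 := congrFun (congrFun h 1) 0
  have h11 := congrFun (congrFun h 1) 1
  simp [J2, Matrix.mul_apply, Fin.sum_univ_two] at h00 h01 h10 h11
  rw [Matrix.det_fin_two] at hW
  ext i j
  fin_cases i <;> fin_cases j <;> simp
  · linear_combination (-(Y 0 0)) * hW + (W 1 0) * h00 - (W 0 0) * h01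
  · linear_combination (-(Y 0 1)) * hW + (W 1 1) * h00 - (W 0 1) * h01
  · linear_combination (-(Y 1 0)) * hW + (W 1 0) * h10 - (W 0 0) * h11
  · linear_combination (-(Y 1 1)) * hW + (W 1 1) * h10 - (W 0 1) * h11

/-- an element of `Sp₄` stabilising `V₁` is block diagonal with blocks of determinant one -/
theorem blockDiag_of_zero {X Y W : M₂(F)}
    (h : bm !![X, Y; 0, W] ∈ Matrix.symplecticGroup (Fin 2) F) :
    Y = 0 ∧ X.det = 1 ∧ W.det = 1 := by
  rw [bm_mem_iff] at h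
  obtain ⟨h1, h2, -, h4⟩ := h
  simp only [Matrix.transpose_zero, mul_zero, zero_mul, zero_add] at h2 h4
  have hW : W.det = 1 := by
    rw [mul_J2_transpose] at h4
    have := congrFun (congrFun h4 1) 0
    simpa [J2] using this
  have hY : Y = 0 := eq_zero_of_mul_J2_transpose h2 hW
  refine ⟨hY, ?_, hW⟩
  rw [hY] at h1
  simp only [zero_mul, add_zero] at h1
  rw [mul_J2_transpose] at h1
  have := congrFun (congrFun h1 1) 0
  simpa [J2] using this

theorem bm_diag_mem {A B : M₂(F)} (hA : A.det = 1) (hB : B.det = 1) :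
    bm !![A, 0; 0, B] ∈ Matrix.symplecticGroup (Fin 2) F := by
  rw [bm_mem_iff]
  simp only [Matrix.transpose_zero, mul_zero, zero_mul, add_zero, zero_add, mul_J2_transpose, hA,
    hB, one_smul, and_self]

/-- the embedding of `SL₂ × SL₂` -/
def iota : SL₂(F) × SL₂(F) →* ↥(Matrix.symplecticGroup (Fin 2) F) where
  toFun p := ⟨bm !![(p.1 : M₂(F)), 0; 0, (p.2 : M₂(F))], bm_diag_mem p.1.2 p.2.2⟩
  map_one' := by
    apply Subtype.ext
    show bm !![((1 : SL₂(F)) : M₂(F)), 0; 0, ((1 : SL₂(F)) : M₂(F))] = 1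
    rw [← bm_one]
    congr 1
    ext i j
    fin_cases i <;> fin_cases j <;> simp [Matrix.one_apply]
  map_mul' p q := by
    apply Subtype.ext
    show bm !![((p.1 * q.1 : SL₂(F)) : M₂(F)), 0; 0, ((p.2 * q.2 : SL₂(F)) : M₂(F))] =
      bm !![(p.1 : M₂(F)), 0; 0, (p.2 : M₂(F))] * bm !![(q.1 : M₂(F)), 0; 0, (q.2 : M₂(F))]
    rw [← bm_mul, Matrix.mul_fin_two]
    simp

theorem iota_coe (A B : SL₂(F)) :
    ((iota (A, B) : ↥(Matrix.symplecticGroup (Fin 2) F)) : M₄(F)) =
      bm !![(A : M₂(F)), 0; 0, (B : M₂(F))] := rfl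

theorem iota_injective : Function.Injective (iota : SL₂(F) × SL₂(F) → _) := by
  intro p q h
  have h1 := congrArg Subtype.val h
  rw [iota_coe, iota_coe, bm_injective.eq_iff] at h1
  have h00 := congrFun (congrFun h1 0) 0
  have h11 := congrFun (congrFun h1 1) 1
  simp at h00 h11
  exact Prod.ext (Subtype.ext h00) (Subtype.ext h11)

/-- the swap of the two hyperbolic planes -/
def tt : ↥(Matrix.symplecticGroup (Fin 2) F) :=
  ⟨bm !![0, 1; 1, 0], by
    rw [bm_mem_iff]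
    simp⟩

theorem tt_coe : ((tt : ↥(Matrix.symplecticGroup (Fin 2) F)) : M₄(F)) = bm !![0, 1; 1, 0] := rfl

theorem tt_mul_tt : (tt : ↥(Matrix.symplecticGroup (Fin 2) F)) * tt = 1 := by
  apply Subtype.ext
  show bm !![0, 1; 1, 0] * bm !![0, 1; 1, 0] = 1
  rw [← bm_mul, Matrix.mul_fin_two, ← bm_one]
  congr 1
  ext i j
  fin_cases i <;> fin_cases j <;> simp [Matrix.one_apply]

theorem tt_inv : (tt : ↥(Matrix.symplecticGroup (Fin 2) F))⁻¹ = tt :=
  inv_eq_of_mul_eq_one_right tt_mul_tt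

theorem tt_mul_iota (A B : SL₂(F)) : tt * iota (A, B) = iota (B, A) * tt := by
  apply Subtype.ext
  show bm !![0, 1; 1, 0] * bm !![(A : M₂(F)), 0; 0, (B : M₂(F))] =
    bm !![(B : M₂(F)), 0; 0, (A : M₂(F))] * bm !![0, 1; 1, 0]
  rw [← bm_mul, ← bm_mul, Matrix.mul_fin_two, Matrix.mul_fin_two]
  simp

theorem tt_conj_iota (A B : SL₂(F)) : tt * iota (A, B) * tt⁻¹ = iota (B, A) := by
  rw [tt_mul_iota, mul_assoc, mul_inv_cancel, mul_one]

/-- every element of `Sp₄` in block form -/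
theorem exists_blocks_sp (g : ↥(Matrix.symplecticGroup (Fin 2) F)) :
    ∃ X Y Z W : M₂(F), (g : M₄(F)) = bm !![X, Y; Z, W] := exists_blocks _

/-- an element of `Sp₄` with vanishing lower left block lies in the image of `iota` -/
theorem exists_iota_of_zero (g : ↥(Matrix.symplecticGroup (Fin 2) F)) {X Y W : M₂(F)}
    (h : (g : M₄(F)) = bm !![X, Y; 0, W]) : ∃ A B : SL₂(F), g = iota (A, B) := by
  have hg := g.2
  rw [h] at hg
  obtain ⟨hY, hX, hW⟩ := blockDiag_of_zero hg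
  refine ⟨⟨X, hX⟩, ⟨W, hW⟩, ?_⟩
  apply Subtype.ext
  rw [h, hY]
  rfl

end Cfsg.Agent.Lib.Helper41.Sp4
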