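import Mathlib
import Cfsg.Agent.Lib.Helper41.Sp4Base
import Cfsg.Agent.Lib.Helper13.SpWitt

set_option autoImplicit false

/-! Conjugacy in `Sp₄(F)`, odd characteristic: an element stabilising a non-degenerate plane is
conjugate into `SL₂ × SL₂`; non-central involutions are conjugate to `diag(-1,-1,1,1)`; elements of
square `-1` are conjugate into `SL₂ × SL₂`. -/

namespace Cfsg.Agent.Lib.Helper41.Sp4

open Matrix Cfsg.Agent.Lib.Helper13 Cfsg.Agent.Lib.Helper41.Torus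

variable {F : Type*} [Field F]

local notation "SL₂(" F ")" => Matrix.SpecialLinearGroup (Fin 2) F
local notation "M₂(" F ")" => Matrix (Fin 2) (Fin 2) F
local notation "M₄(" F ")" => Matrix (Fin 2 ⊕ Fin 2) (Fin 2 ⊕ Fin 2) F
set_option quotPrecheck false in
local notation "Sp₄(" F ")" => ↥(Matrix.symplecticGroup (Fin 2) F)

theorem exists_form_ne_zero {w : Fin 2 ⊕ Fin 2 → F} (hw : w ≠ 0) :
    ∃ u, Cfsg.sympForm 2 F w u ≠ 0 := by
  by_contra hcon
  apply hw
  have h : ∀ u, Cfsg.sympForm 2 F w u = 0 := by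
    intro u
    by_contra h
    exact hcon ⟨u, h⟩
  funext s
  rcases s with i | i
  · have := h (Pi.single (Sum.inr i) 1)
    rw [sympForm_expand, Fin.sum_univ_two] at this
    fin_cases i <;> simpa [Pi.single_apply] using this
  · have := h (Pi.single (Sum.inl i) 1)
    rw [sympForm_expand, Fin.sum_univ_two] at this
    fin_cases i <;> simpa [Pi.single_apply] using this

theorem mem_stdW21 (v : Fin 2 ⊕ Fin 2 → F) :
    v ∈ stdW F 2 1 (by norm_num) ↔ v (Sum.inl 1) = 0 ∧ v (Sum.inr 1) = 0 := by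
  rw [mem_stdW]
  constructor
  · intro h
    exact ⟨h (Sum.inl ⟨0, by norm_num⟩), h (Sum.inr ⟨0, by norm_num⟩)⟩
  · rintro ⟨h1, h2⟩ t
    rcases t with ⟨t, ht⟩ | ⟨t, ht⟩
    · have ht0 : t = 0 := by omega
      subst ht0
      exact h1
    · have ht0 : t = 0 := by omega
      subst ht0
      exact h2

theorem coe_mul_sp (a b : Sp₄(F)) : ((a * b : Sp₄(F)) : M₄(F)) = (a : M₄(F)) * (b : M₄(F)) := rfl

theorem coe_one_sp : ((1 : Sp₄(F)) : M₄(F)) = 1 := rfl

/-- an element of `Sp₄` stabilising a non-degenerate plane is conjugate into `SL₂ × SL₂` -/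
theorem exists_conj_iota (y : Sp₄(F)) (v v' : Fin 2 ⊕ Fin 2 → F)
    (hvv' : Cfsg.sympForm 2 F v v' ≠ 0)
    (hyv : ∃ a b : F, (y : M₄(F)) *ᵥ v = a • v + b • v')
    (hyv' : ∃ a b : F, (y : M₄(F)) *ᵥ v' = a • v + b • v') :
    ∃ (Q : Sp₄(F)) (A B : SL₂(F)), Q⁻¹ * y * Q = iota (A, B) := by
  classical
  obtain ⟨a, b, hab⟩ := hyv
  obtain ⟨a', b', hab'⟩ := hyv'
  let W : Submodule F (Fin 2 ⊕ Fin 2 → F) := Submodule.span F {v, v'}
  have hWmem : ∀ u, u ∈ W ↔ ∃ c d : F, c • v + d • v' = u := fun u => Submodule.mem_span_pair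
  have hyW : ∀ u ∈ W, (y : M₄(F)) *ᵥ u ∈ W := by
    intro u hu
    obtain ⟨c, d, rfl⟩ := (hWmem u).mp hu
    rw [hWmem]
    refine ⟨c * a + d * a', c * b + d * b', ?_⟩
    rw [Matrix.mulVec_add, Matrix.mulVec_smul, Matrix.mulVec_smul, hab, hab']
    module
  have hvv : Cfsg.sympForm 2 F v v = 0 := sympForm_self 2 v
  have hv'v' : Cfsg.sympForm 2 F v' v' = 0 := sympForm_self 2 v'
  have hv'v : Cfsg.sympForm 2 F v' v = - Cfsg.sympForm 2 F v v' := sympForm_swap 2 v' v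
  have hli : LinearIndependent F ![v, v'] := by
    rw [LinearIndependent.pair_iff]
    intro s t hst
    have h1 := congrArg (fun u => Cfsg.sympForm 2 F u v') hst
    have h2 := congrArg (fun u => Cfsg.sympForm 2 F u v) hst
    simp only [sympForm_add_left, sympForm_smul_left, sympForm_zero_left, hvv, hv'v', hv'v] at h1 h2
    constructor
    · have : s * Cfsg.sympForm 2 F v v' = 0 := by linear_combination h1
      exact (mul_eq_zero.mp this).resolve_right hvv'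
    · have : t * Cfsg.sympForm 2 F v v' = 0 := by linear_combination -h2
      exact (mul_eq_zero.mp this).resolve_right hvv'
  have hfin : Module.finrank F W = 2 * 1 := by
    have h1 := finrank_span_eq_card hli
    have h2 : Set.range ![v, v'] = {v, v'} := by
      ext u
      simp [Matrix.range_cons, eq_comm, or_comm]
    rw [h2] at h1
    rw [h1]
    simp
  have hnd : ∀ u ∈ W, (∀ x ∈ W, Cfsg.sympForm 2 F u x = 0) → u = 0 := by
    intro u hu hx
    obtain ⟨c, d, rfl⟩ := (hWmem u).mp hu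
    have h1 := hx v' ((hWmem v').mpr ⟨0, 1, by simp⟩)
    have h2 := hx v ((hWmem v).mpr ⟨1, 0, by simp⟩)
    simp only [sympForm_add_left, sympForm_smul_left, hvv, hv'v', hv'v] at h1 h2
    have hc : c = 0 := by
      have : c * Cfsg.sympForm 2 F v v' = 0 := by linear_combination h1
      exact (mul_eq_zero.mp this).resolve_right hvv'
    have hd : d = 0 := by
      have : d * Cfsg.sympForm 2 F v v' = 0 := by linear_combination -h2
      exact (mul_eq_zero.mp this).resolve_right hvv'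
    rw [hc, hd]; simp
  obtain ⟨Q, hQ⟩ := exists_sp_map_stdW 2 1 (by norm_num) W hfin hnd
  have hMstd : ∀ x, x ∈ stdW F 2 1 (by norm_num) →
      ((Q⁻¹ * y * Q : Sp₄(F)) : M₄(F)) *ᵥ x ∈ stdW F 2 1 (by norm_num) := by
    intro x hx
    rw [hQ]
    have h1 : (Q : M₄(F)) *ᵥ (((Q⁻¹ * y * Q : Sp₄(F)) : M₄(F)) *ᵥ x) =
        (y : M₄(F)) *ᵥ ((Q : M₄(F)) *ᵥ x) := by
      rw [Matrix.mulVec_mulVec, Matrix.mulVec_mulVec, ← coe_mul_sp, ← coe_mul_sp]
      congr 2
      group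
    rw [h1]
    exact hyW _ ((hQ x).mp hx)
  obtain ⟨X, Y, Z, W', hblocks⟩ := exists_blocks_sp (Q⁻¹ * y * Q)
  have hZ : Z = 0 := by
    have e0 : (Pi.single (Sum.inl 0) 1 : Fin 2 ⊕ Fin 2 → F) ∈ stdW F 2 1 (by norm_num) := by
      rw [mem_stdW21]; simp
    have e1 : (Pi.single (Sum.inr 0) 1 : Fin 2 ⊕ Fin 2 → F) ∈ stdW F 2 1 (by norm_num) := by
      rw [mem_stdW21]; simp
    have f0 := (mem_stdW21 _).mp (hMstd _ e0)
    have f1 := (mem_stdW21 _).mp (hMstd _ e1)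
    rw [Matrix.mulVec_single_one, hblocks] at f0 f1
    simp only [Matrix.col_apply, bm_apply, ix, sg, Sum.elim_inl, Sum.elim_inr, id] at f0 f1
    ext i j
    fin_cases i <;> fin_cases j
    · simpa using f0.1
    · simpa using f1.1
    · simpa using f0.2
    · simpa using f1.2
  rw [hZ] at hblocks
  obtain ⟨A, B, hAB⟩ := exists_iota_of_zero _ hblocks
  exact ⟨Q, A, B, hAB⟩


theorem neg4_coe : ((iota (negOne, negOne) : Sp₄(F)) : M₄(F)) = -1 := by
  rw [iota_coe, negOne_coe]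
  ext r c
  rcases r with r | r <;> rcases c with c | c <;> fin_cases r <;> fin_cases c <;>
    simp [bm_apply, ix, sg, Matrix.one_apply]

theorem neg4_central (g : Sp₄(F)) : g * iota (negOne, negOne) = iota (negOne, negOne) * g := by
  apply Subtype.ext
  rw [coe_mul_sp, coe_mul_sp, neg4_coe]
  simp

theorem iota_one : (iota ((1 : SL₂(F)), (1 : SL₂(F))) : Sp₄(F)) = 1 := map_one iota

theorem iota_mul_iota (A B C D : SL₂(F)) : iota (A, B) * iota (C, D) = iota (A * C, B * D) :=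
  (map_mul iota (A, B) (C, D)).symm

theorem iota_inv (A B : SL₂(F)) : (iota (A, B))⁻¹ = iota (A⁻¹, B⁻¹) :=
  (map_inv iota (A, B)).symm

theorem iota_eq_iff (A B C D : SL₂(F)) : iota (A, B) = iota (C, D) ↔ A = C ∧ B = D := by
  constructor
  · intro h
    have := iota_injective h
    exact ⟨congrArg Prod.fst this, congrArg Prod.snd this⟩
  · rintro ⟨rfl, rfl⟩; rfl

/-- a non-central involution of `Sp₄` is conjugate to `diag(-1, -1, 1, 1)` -/
theorem exists_conj_z1 (h2 : (2 : F) ≠ 0) (y : Sp₄(F)) (hy : y * y = 1) (hy1 : y ≠ 1)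
    (hyn : y ≠ iota (negOne, negOne)) : ∃ Q : Sp₄(F), Q⁻¹ * y * Q = iota (negOne, 1) := by
  have hyy : ∀ u, (y : M₄(F)) *ᵥ ((y : M₄(F)) *ᵥ u) = u := by
    intro u
    rw [Matrix.mulVec_mulVec, ← coe_mul_sp, hy, coe_one_sp, Matrix.one_mulVec]
  have hex : ∃ s, (y : M₄(F)) *ᵥ Pi.single s 1 ≠ Pi.single s 1 := by
    by_contra hcon
    apply hy1
    apply Subtype.ext
    ext i s
    have h0 : (y : M₄(F)) *ᵥ Pi.single s 1 = Pi.single s 1 := by
      by_contra h
      exact hcon ⟨s, h⟩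
    have h1 := congrFun h0 i
    rw [Matrix.mulVec_single_one] at h1
    simp only [Matrix.col_apply] at h1
    rw [h1, coe_one_sp, Matrix.one_apply, Pi.single_apply]
  obtain ⟨s, hs⟩ := hex
  obtain ⟨w, hw⟩ : ∃ w, w = Pi.single s 1 - (y : M₄(F)) *ᵥ Pi.single s 1 := ⟨_, rfl⟩
  have hw0 : w ≠ 0 := by
    rw [hw]
    exact sub_ne_zero.mpr (Ne.symm hs)
  have hyw : (y : M₄(F)) *ᵥ w = -w := by
    rw [hw, Matrix.mulVec_sub, hyy]
    abel
  obtain ⟨u, hu⟩ := exists_form_ne_zero hw0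
  obtain ⟨w', hw'⟩ : ∃ w', w' = u - (y : M₄(F)) *ᵥ u := ⟨_, rfl⟩
  have hyw' : (y : M₄(F)) *ᵥ w' = -w' := by
    rw [hw', Matrix.mulVec_sub, hyy]
    abel
  have hform : Cfsg.sympForm 2 F w w' = 2 * Cfsg.sympForm 2 F w u := by
    have h1 := preserves_of_mem_symplectic 2 (y : M₄(F)) y.2 w ((y : M₄(F)) *ᵥ u)
    rw [hyw, hyy] at h1
    have h3 : Cfsg.sympForm 2 F (-w) u = - Cfsg.sympForm 2 F w u := by
      have := sympForm_smul_left 2 (-1 : F) w u
      simpa using this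
    rw [hw', sympForm_sub_right, ← h1, h3]
    ring
  have hne : Cfsg.sympForm 2 F w w' ≠ 0 := by
    rw [hform]
    exact mul_ne_zero h2 hu
  obtain ⟨Q, A, B, hQ⟩ := exists_conj_iota y w w' hne
    ⟨-1, 0, by rw [hyw]; module⟩ ⟨0, -1, by rw [hyw']; module⟩
  have hsq : iota (A * A, B * B) = (iota (1, 1) : Sp₄(F)) := by
    rw [← iota_mul_iota, ← hQ, iota_one]
    have : (Q⁻¹ * y * Q) * (Q⁻¹ * y * Q) = Q⁻¹ * (y * y) * Q := by group
    rw [this, hy]
    group
  rw [iota_eq_iff] at hsq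
  have hyQ : y = Q * iota (A, B) * Q⁻¹ := by
    rw [← hQ]; group
  rcases eq_one_or_negOne_of_mul_self h2 hsq.1 with hA | hA <;>
    rcases eq_one_or_negOne_of_mul_self h2 hsq.2 with hB | hB
  · exfalso
    apply hy1
    rw [hyQ, hA, hB, iota_one]
    group
  · refine ⟨Q * tt, ?_⟩
    have : (Q * tt)⁻¹ * y * (Q * tt) = tt⁻¹ * (Q⁻¹ * y * Q) * tt := by group
    rw [this, hQ, hA, hB]
    have h5 := tt_conj_iota (1 : SL₂(F)) (negOne : SL₂(F))
    rw [tt_inv] at h5 ⊢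
    rw [← h5]
  · exact ⟨Q, by rw [hQ, hA, hB]⟩
  · exfalso
    apply hyn
    rw [hyQ, hA, hB, neg4_central]
    group

/-- an element of `Sp₄` of square `-1` is conjugate into `SL₂ × SL₂` -/
theorem exists_conj_sq_neg (h2 : (2 : F) ≠ 0) (y : Sp₄(F)) (hy : y * y = iota (negOne, negOne)) :
    ∃ (Q : Sp₄(F)) (A B : SL₂(F)), Q⁻¹ * y * Q = iota (A, B) ∧ A * A = negOne ∧ B * B = negOne := by
  have hyy : ∀ u, (y : M₄(F)) *ᵥ ((y : M₄(F)) *ᵥ u) = -u := by
    intro u
    rw [Matrix.mulVec_mulVec, ← coe_mul_sp, hy, neg4_coe, Matrix.neg_mulVec, Matrix.one_mulVec]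
  have hneg : ∀ a b : Fin 2 ⊕ Fin 2 → F, Cfsg.sympForm 2 F a (-b) = - Cfsg.sympForm 2 F a b := by
    intro a b
    have := sympForm_smul_right 2 (-1 : F) a b
    simpa using this
  have hex : ∃ v, Cfsg.sympForm 2 F v ((y : M₄(F)) *ᵥ v) ≠ 0 := by
    by_contra hcon
    have h : ∀ v, Cfsg.sympForm 2 F v ((y : M₄(F)) *ᵥ v) = 0 := by
      intro v
      by_contra h
      exact hcon ⟨v, h⟩
    have hsym : ∀ u u', Cfsg.sympForm 2 F u' ((y : M₄(F)) *ᵥ u) =
        Cfsg.sympForm 2 F u ((y : M₄(F)) *ᵥ u') := by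
      intro u u'
      have h1 := preserves_of_mem_symplectic 2 (y : M₄(F)) y.2 u' ((y : M₄(F)) *ᵥ u)
      rw [hyy, hneg] at h1
      rw [← h1, sympForm_swap 2 u]
    have hpol : ∀ u u', Cfsg.sympForm 2 F u ((y : M₄(F)) *ᵥ u') = 0 := by
      intro u u'
      have h1 := h (u + u')
      rw [Matrix.mulVec_add, sympForm_add_left, sympForm_add_right, sympForm_add_right, h u, h u',
        hsym u u'] at h1
      have h3 : 2 * Cfsg.sympForm 2 F u ((y : M₄(F)) *ᵥ u') = 0 := by linear_combination h1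
      exact (mul_eq_zero.mp h3).resolve_left h2
    have hye : (y : M₄(F)) *ᵥ (Pi.single (Sum.inl 0) 1 : Fin 2 ⊕ Fin 2 → F) = 0 := by
      by_contra hne
      obtain ⟨u, hu⟩ := exists_form_ne_zero hne
      apply hu
      rw [sympForm_swap, hpol, neg_zero]
    have h4 := hyy (Pi.single (Sum.inl 0) 1 : Fin 2 ⊕ Fin 2 → F)
    rw [hye, Matrix.mulVec_zero] at h4
    have h5 := congrFun h4 (Sum.inl 0)
    simp at h5
  obtain ⟨v, hv⟩ := hex
  obtain ⟨Q, A, B, hQ⟩ := exists_conj_iota y v ((y : M₄(F)) *ᵥ v) hv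
    ⟨0, 1, by simp⟩ ⟨-1, 0, by rw [hyy]; simp⟩
  refine ⟨Q, A, B, hQ, ?_⟩
  have hsq : iota (A * A, B * B) = (iota (negOne, negOne) : Sp₄(F)) := by
    rw [← iota_mul_iota, ← hQ]
    have : (Q⁻¹ * y * Q) * (Q⁻¹ * y * Q) = Q⁻¹ * (y * y) * Q := by group
    rw [this, hy, mul_assoc, ← neg4_central]
    group
  rw [iota_eq_iff] at hsq
  exact hsq

end Cfsg.Agent.Lib.Helper41.Sp4
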