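import Mathlib
import Cfsg.Agent.Lib.Helper41.Sp4Conj
import Cfsg.Agent.Lib.Helper41.SL3Frame

set_option autoImplicit false

/-! The subgroup `(Q × Q) ⟨t⟩` of `Sp₄(F)` for a subgroup `Q` of `SL₂(F)`: order, absence of proper
strongly closed subgroups modulo the centre, and the reduction of its normaliser to that of `Q`. -/

namespace Cfsg.Agent.Lib.Helper41.Sp4

open Matrix Cfsg.Agent.Lib.Helper41.Torus Cfsg.Agent.Lib.Helper41.SL3

variable {F : Type*} [Field F]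

local notation "SL₂(" F ")" => Matrix.SpecialLinearGroup (Fin 2) F
local notation "M₂(" F ")" => Matrix (Fin 2) (Fin 2) F
local notation "M₄(" F ")" => Matrix (Fin 2 ⊕ Fin 2) (Fin 2 ⊕ Fin 2) F
set_option quotPrecheck false in
local notation "Sp₄(" F ")" => ↥(Matrix.symplecticGroup (Fin 2) F)

section SL2Facts

theorem negOne_mul_negOne : (negOne : SL₂(F)) * negOne = 1 := by
  apply Subtype.ext
  rw [Matrix.SpecialLinearGroup.coe_mul, negOne_coe]
  simp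

theorem negOne_inv : (negOne : SL₂(F))⁻¹ = negOne :=
  inv_eq_of_mul_eq_one_right negOne_mul_negOne

theorem negOne_comm (A : SL₂(F)) : A * negOne = negOne * A := by
  apply Subtype.ext
  rw [Matrix.SpecialLinearGroup.coe_mul, Matrix.SpecialLinearGroup.coe_mul, negOne_coe]
  simp

theorem tr2_eq_zero_of_sq {A : SL₂(F)} (hA : A * A = negOne) : tr2 A = 0 := by
  have h1 := congrArg Subtype.val hA
  rw [Matrix.SpecialLinearGroup.coe_mul, negOne_coe] at h1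
  have h00 := congrFun (congrFun h1 0) 0
  have h11 := congrFun (congrFun h1 1) 1
  simp [Matrix.mul_apply, Fin.sum_univ_two] at h00 h11
  have hd := sl2_det A
  have hsq : (tr2 A) ^ 2 = 0 := by
    unfold tr2
    linear_combination h00 + h11 + 2 * hd
  exact pow_eq_zero_iff (two_ne_zero) |>.mp hsq

theorem not_central_of_sq (h2 : (2 : F) ≠ 0) {A : SL₂(F)} (hA : A * A = negOne) :
    A ∉ Subgroup.center (SL₂(F)) := by
  intro hc
  rcases eq_one_or_negOne_of_mem_center hc with h | h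
  · rw [h, one_mul] at hA
    exact negOne_ne_one h2 hA.symm
  · rw [h, negOne_mul_negOne] at hA
    exact negOne_ne_one h2 hA.symm

theorem conj_of_sq_neg [Fintype F] (hodd : Fintype.card F % 2 = 1) {A X : SL₂(F)}
    (hA : A * A = negOne) (hX : X * X = negOne) : ∃ W : SL₂(F), W * A * W⁻¹ = X := by
  have h2 : (2 : F) ≠ 0 := two_ne_zero_of_odd hodd
  apply conj_of_tr2_eq (not_central_of_sq h2 hA) (not_central_of_sq h2 hX)
  · rw [tr2_eq_zero_of_sq hA, tr2_eq_zero_of_sq hX]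
  · rw [tr2_eq_zero_of_sq hA]
    apply normUniversal_of_odd hodd
    intro h
    have : (4 : F) = 2 * 2 := by norm_num
    rw [this] at h
    have h4 : (2 : F) * 2 = 0 := by rw [← h]; ring
    rcases mul_eq_zero.mp h4 with h | h <;> exact h2 h

end SL2Facts

/-- the image of `Q × Q` -/
def DD (Q : Subgroup SL₂(F)) : Subgroup Sp₄(F) := (Q.prod Q).map iota

theorem mem_DD {Q : Subgroup SL₂(F)} {x : Sp₄(F)} :
    x ∈ DD Q ↔ ∃ A ∈ Q, ∃ B ∈ Q, x = iota (A, B) := by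
  constructor
  · rintro ⟨⟨A, B⟩, ⟨hA, hB⟩, rfl⟩
    exact ⟨A, hA, B, hB, rfl⟩
  · rintro ⟨A, hA, B, hB, rfl⟩
    exact ⟨(A, B), ⟨hA, hB⟩, rfl⟩

theorem iota_mem_DD {Q : Subgroup SL₂(F)} {A B : SL₂(F)} : iota (A, B) ∈ DD Q ↔ A ∈ Q ∧ B ∈ Q := by
  rw [mem_DD]
  constructor
  · rintro ⟨A', hA', B', hB', h⟩
    rw [iota_eq_iff] at h
    rw [h.1, h.2]
    exact ⟨hA', hB'⟩
  · rintro ⟨hA, hB⟩
    exact ⟨A, hA, B, hB, rfl⟩

theorem tt_normalizes_DD (Q : Subgroup SL₂(F)) : ∀ d ∈ DD Q, tt * d * tt⁻¹ ∈ DD Q := by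
  intro d hd
  obtain ⟨A, hA, B, hB, rfl⟩ := mem_DD.mp hd
  rw [tt_conj_iota]
  exact iota_mem_DD.mpr ⟨hB, hA⟩

/-- `(Q × Q) ⟨t⟩` -/
def SS (Q : Subgroup SL₂(F)) : Subgroup Sp₄(F) := ext2 (DD Q) tt tt_mul_tt (tt_normalizes_DD Q)

theorem mem_SS {Q : Subgroup SL₂(F)} {x : Sp₄(F)} : x ∈ SS Q ↔ x ∈ DD Q ∨ x * tt ∈ DD Q := Iff.rfl

theorem iota_ne_iota_mul_tt (A B C D : SL₂(F)) : iota (A, B) ≠ iota (C, D) * tt := by
  intro h
  have h1 := congrArg Subtype.val h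
  rw [coe_mul_sp, iota_coe, iota_coe, tt_coe, ← bm_mul, Matrix.mul_fin_two, bm_injective.eq_iff] at h1
  have h00 := congrFun (congrFun h1 0) 0
  simp at h00
  have hd := A.det_coe
  rw [h00] at hd
  simp at hd

theorem tt_not_mem_DD (Q : Subgroup SL₂(F)) : (tt : Sp₄(F)) ∉ DD Q := by
  intro h
  obtain ⟨A, -, B, -, h⟩ := mem_DD.mp h
  have h1 : iota (A, B) = iota (1, 1) * tt := by rw [iota_one, one_mul, h]
  exact iota_ne_iota_mul_tt _ _ _ _ h1

theorem tt_mem_SS (Q : Subgroup SL₂(F)) : (tt : Sp₄(F)) ∈ SS Q := by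
  right
  rw [tt_mul_tt]
  exact one_mem _

theorem DD_le_SS (Q : Subgroup SL₂(F)) : DD Q ≤ SS Q := fun _ h => Or.inl h

theorem iota_mem_SS {Q : Subgroup SL₂(F)} {A B : SL₂(F)} : iota (A, B) ∈ SS Q ↔ A ∈ Q ∧ B ∈ Q := by
  rw [mem_SS]
  constructor
  · rintro (h | h)
    · exact iota_mem_DD.mp h
    · exfalso
      obtain ⟨C, -, D, -, h⟩ := mem_DD.mp h
      have h1 : iota (C, D) = iota (A, B) * tt := h.symm
      exact iota_ne_iota_mul_tt _ _ _ _ h1
  · intro h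
    exact Or.inl (iota_mem_DD.mpr h)

theorem iota_mul_tt_mem_SS {Q : Subgroup SL₂(F)} {A B : SL₂(F)} :
    iota (A, B) * tt ∈ SS Q ↔ A ∈ Q ∧ B ∈ Q := by
  constructor
  · intro h
    have h1 : iota (A, B) * tt * tt⁻¹ ∈ SS Q := (SS Q).mul_mem h ((SS Q).inv_mem (tt_mem_SS Q))
    rw [mul_assoc, mul_inv_cancel, mul_one] at h1
    exact iota_mem_SS.mp h1
  · intro h
    exact (SS Q).mul_mem (iota_mem_SS.mpr h) (tt_mem_SS Q)

theorem card_DD [Fintype F] (Q : Subgroup SL₂(F)) : Nat.card (DD Q) = Nat.card Q * Nat.card Q := by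
  unfold DD
  rw [Subgroup.card_map_of_injective iota_injective]
  rw [Nat.card_congr (Subgroup.prodEquiv Q Q).toEquiv, Nat.card_prod]

theorem card_SS [Fintype F] (Q : Subgroup SL₂(F)) :
    Nat.card (SS Q) = 2 * (Nat.card Q * Nat.card Q) := by
  unfold SS
  rw [card_ext2 _ _ _ _ (tt_not_mem_DD Q), card_DD]

end Cfsg.Agent.Lib.Helper41.Sp4
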