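import Mathlib
import Cfsg.Agent.Lib.Helper41.Sp4Sylow

set_option autoImplicit false

/-! The normaliser of `(Q × Q) ⟨t⟩` in `Sp₄(F)` in terms of the normaliser of `Q` in `SL₂(F)`. -/

namespace Cfsg.Agent.Lib.Helper41.Sp4

open Matrix Cfsg.Agent.Lib.Helper41.Torus Cfsg.Agent.Lib.Helper41.SL3

variable {F : Type*} [Field F]

local notation "SL₂(" F ")" => Matrix.SpecialLinearGroup (Fin 2) F
local notation "M₂(" F ")" => Matrix (Fin 2) (Fin 2) F
local notation "M₄(" F ")" => Matrix (Fin 2 ⊕ Fin 2) (Fin 2 ⊕ Fin 2) F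
set_option quotPrecheck false in
local notation "Sp₄(" F ")" => ↥(Matrix.symplecticGroup (Fin 2) F)

theorem conj_mem_iff_of_finite {G : Type*} [Group G] (H : Subgroup G) [Finite H] (g : G)
    (hg : ∀ x ∈ H, g * x * g⁻¹ ∈ H) : ∀ x, x ∈ H ↔ g * x * g⁻¹ ∈ H := by
  intro x
  refine ⟨hg x, fun hx => ?_⟩
  let f : H → H := fun y => ⟨g * y * g⁻¹, hg y y.2⟩
  have hinj : Function.Injective f := by
    intro a b hab
    have h1 : g * (a : G) * g⁻¹ = g * (b : G) * g⁻¹ := congrArg Subtype.val hab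
    exact Subtype.ext (mul_left_cancel (mul_right_cancel h1))
  obtain ⟨y, hy⟩ := Finite.surjective_of_injective hinj ⟨g * x * g⁻¹, hx⟩
  have h1 : g * (y : G) * g⁻¹ = g * x * g⁻¹ := congrArg Subtype.val hy
  have h2 : (y : G) = x := mul_left_cancel (mul_right_cancel h1)
  rw [← h2]
  exact y.2

theorem tt_mul_iota_assoc (A B : SL₂(F)) (x : Sp₄(F)) :
    tt * (iota (A, B) * x) = iota (B, A) * (tt * x) := by
  rw [← mul_assoc, tt_mul_iota, mul_assoc]

theorem tt_mul_tt_assoc (x : Sp₄(F)) : tt * (tt * x) = x := by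
  rw [← mul_assoc, tt_mul_tt, one_mul]

theorem iota_mul_iota_assoc (A B C D : SL₂(F)) (x : Sp₄(F)) :
    iota (A, B) * (iota (C, D) * x) = iota (A * C, B * D) * x := by
  rw [← mul_assoc, iota_mul_iota]

theorem z1_coe : ((iota (negOne, 1) : Sp₄(F)) : M₄(F)) = bm !![(-1 : M₂(F)), 0; 0, 1] := by
  rw [iota_coe, negOne_coe]
  rfl

/-- an element of `Sp₄` commuting with `diag(-1,-1,1,1)` is block diagonal -/
theorem exists_iota_of_comm_z1 (h2 : (2 : F) ≠ 0) (g : Sp₄(F))
    (h : g * iota (negOne, 1) = iota (negOne, 1) * g) : ∃ A B : SL₂(F), g = iota (A, B) := by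
  obtain ⟨X, Y, Z, W, hg⟩ := exists_blocks_sp g
  have h1 := congrArg Subtype.val h
  rw [coe_mul_sp, coe_mul_sp, z1_coe, hg, ← bm_mul, ← bm_mul, Matrix.mul_fin_two,
    Matrix.mul_fin_two, bm_injective.eq_iff] at h1
  have h10 := congrFun (congrFun h1 1) 0
  simp at h10
  have hZ : Z = 0 := by
    ext i j
    have := congrFun (congrFun h10 i) j
    simp at this
    have h3 : (2 : F) * Z i j = 0 := by linear_combination -this
    simpa using (mul_eq_zero.mp h3).resolve_left h2
  rw [hZ] at hg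
  exact exists_iota_of_zero g hg

variable [Fintype F]

/-- the normaliser of `(Q × Q) ⟨t⟩` -/
theorem normalizer_SS (h2 : (2 : F) ≠ 0) (Q : Subgroup SL₂(F)) (hneg : negOne ∈ Q)
    (i₀ : SL₂(F)) (hi₀ : i₀ ∈ Q) (hi₀sq : i₀ * i₀ = negOne)
    (hcent : ∀ A : SL₂(F), (∀ X ∈ Q, A * X = X * A) → A = 1 ∨ A = negOne)
    (g : Sp₄(F)) (hg : ∀ x ∈ SS Q, g * x * g⁻¹ ∈ SS Q) :
    ∃ A B : SL₂(F), (∀ X ∈ Q, A * X * A⁻¹ ∈ Q) ∧ (∀ X ∈ Q, B * X * B⁻¹ ∈ Q) ∧ A * B⁻¹ ∈ Q ∧
      (g = iota (A, B) ∨ g = tt * iota (A, B)) := by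
  classical
  have hiff := conj_mem_iff_of_finite (SS Q) g hg
  have hnn : (negOne : SL₂(F)) ≠ 1 := negOne_ne_one h2
  -- `z₁` is central modulo the centre
  have hz1c : ∀ s ∈ SS Q, iota (negOne, 1) * s * (iota (negOne, 1))⁻¹ * s⁻¹ = 1 ∨
      iota (negOne, 1) * s * (iota (negOne, 1))⁻¹ * s⁻¹ = iota (negOne, negOne) := by
    intro s hs
    rcases mem_SS.mp hs with h | h
    · left
      obtain ⟨A, -, B, -, rfl⟩ := mem_DD.mp h
      rw [iota_inv, iota_inv, iota_mul_iota, iota_mul_iota, iota_mul_iota, ← iota_one,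
        iota_eq_iff]
      constructor
      · rw [← negOne_comm, mul_assoc, mul_assoc, mul_inv_cancel_left, mul_inv_cancel]
      · simp
    · right
      obtain ⟨A, -, B, -, hAB⟩ := mem_DD.mp h
      have hs' : s = iota (A, B) * tt := by
        rw [← hAB, mul_assoc, tt_mul_tt, mul_one]
      rw [hs', _root_.mul_inv_rev, tt_inv, iota_inv, iota_inv, negOne_inv, inv_one]
      simp only [mul_assoc, tt_mul_iota_assoc, tt_mul_iota, tt_mul_tt, iota_mul_iota_assoc,
        iota_mul_iota, mul_one]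
      rw [iota_eq_iff]
      constructor
      · rw [mul_inv_cancel, mul_one]
      · rw [one_mul, ← mul_assoc, negOne_comm, mul_assoc, mul_inv_cancel, mul_one]
  -- classification of the elements central modulo the centre
  have hclass : ∀ x ∈ SS Q, (∀ s ∈ SS Q, x * s * x⁻¹ * s⁻¹ = 1 ∨
      x * s * x⁻¹ * s⁻¹ = iota (negOne, negOne)) →
      x = 1 ∨ x = iota (negOne, negOne) ∨ x = iota (negOne, 1) ∨ x = iota (1, negOne) := by
    intro x hx hxc
    rcases mem_SS.mp hx with h | h
    · obtain ⟨A, hA, B, hB, rfl⟩ := mem_DD.mp h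
      have hA' : A = 1 ∨ A = negOne := by
        apply hcent
        intro X hX
        have h3 := hxc (iota (X, 1)) (iota_mem_SS.mpr ⟨hX, one_mem _⟩)
        rw [iota_inv, iota_inv, iota_mul_iota, iota_mul_iota, iota_mul_iota, ← iota_one,
          iota_eq_iff, iota_eq_iff] at h3
        rcases h3 with h3 | h3
        · have h4 := h3.1
          have h5 : A * X = (A * X * A⁻¹ * X⁻¹) * (X * A) := by group
          rw [h5, h4, one_mul]
        · exfalso
          have h4 := h3.2
          simp at h4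
          exact hnn h4.symm
      have hB' : B = 1 ∨ B = negOne := by
        apply hcent
        intro X hX
        have h3 := hxc (iota (1, X)) (iota_mem_SS.mpr ⟨one_mem _, hX⟩)
        rw [iota_inv, iota_inv, iota_mul_iota, iota_mul_iota, iota_mul_iota, ← iota_one,
          iota_eq_iff, iota_eq_iff] at h3
        rcases h3 with h3 | h3
        · have h4 := h3.2
          have h5 : B * X = (B * X * B⁻¹ * X⁻¹) * (X * B) := by group
          rw [h5, h4, one_mul]
        · exfalso
          have h4 := h3.1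
          simp at h4
          exact hnn h4.symm
      rcases hA' with rfl | rfl <;> rcases hB' with rfl | rfl
      · left; exact iota_one
      · right; right; right; rfl
      · right; right; left; rfl
      · right; left; rfl
    · exfalso
      obtain ⟨A, -, B, -, hAB⟩ := mem_DD.mp h
      have hx' : x = iota (A, B) * tt := by
        rw [← hAB, mul_assoc, tt_mul_tt, mul_one]
      have h3 := hxc (iota (i₀, 1)) (iota_mem_SS.mpr ⟨hi₀, one_mem _⟩)
      rw [hx', _root_.mul_inv_rev, tt_inv, iota_inv, iota_inv] at h3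
      simp only [mul_assoc, tt_mul_iota_assoc, tt_mul_iota, tt_mul_tt, tt_mul_tt_assoc,
        iota_mul_iota_assoc, iota_mul_iota, mul_one] at h3
      rw [← iota_one, iota_eq_iff, iota_eq_iff] at h3
      have h4 : i₀⁻¹ = 1 ∨ i₀⁻¹ = negOne := by
        rcases h3 with h3 | h3
        · left
          have := h3.1
          simpa using this
        · right
          have := h3.1
          simpa using this
      rcases h4 with h4 | h4
      · rw [inv_eq_one] at h4
        rw [h4, one_mul] at hi₀sq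
        exact hnn hi₀sq.symm
      · have h5 : i₀ = negOne := by
          rw [← inv_inv i₀, h4, negOne_inv]
        rw [h5, negOne_mul_negOne] at hi₀sq
        exact hnn hi₀sq.symm
  -- the conjugate of `z₁`
  have hz1S : iota (negOne, 1) ∈ SS Q := iota_mem_SS.mpr ⟨hneg, one_mem _⟩
  have hz1' : g * iota (negOne, 1) * g⁻¹ ∈ SS Q := hg _ hz1S
  have hz1'c : ∀ s ∈ SS Q, (g * iota (negOne, 1) * g⁻¹) * s * (g * iota (negOne, 1) * g⁻¹)⁻¹ * s⁻¹ = 1 ∨
      (g * iota (negOne, 1) * g⁻¹) * s * (g * iota (negOne, 1) * g⁻¹)⁻¹ * s⁻¹ =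
        iota (negOne, negOne) := by
    intro s hs
    have hs' : g⁻¹ * s * g ∈ SS Q := by
      rw [hiff]
      have : g * (g⁻¹ * s * g) * g⁻¹ = s := by group
      rw [this]
      exact hs
    have e : (g * iota (negOne, 1) * g⁻¹) * s * (g * iota (negOne, 1) * g⁻¹)⁻¹ * s⁻¹ =
        g * (iota (negOne, 1) * (g⁻¹ * s * g) * (iota (negOne, 1))⁻¹ * (g⁻¹ * s * g)⁻¹) * g⁻¹ := by
      group
    rw [e]
    rcases hz1c _ hs' with h | h
    · left
      rw [h]; group
    · right
      rw [h, neg4_central, mul_assoc, mul_inv_cancel, mul_one]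
  have hz1ne1 : (iota (negOne, 1) : Sp₄(F)) ≠ 1 := by
    rw [← iota_one]
    intro h
    exact hnn ((iota_eq_iff _ _ _ _).mp h).1
  have hz1nen : (iota (negOne, 1) : Sp₄(F)) ≠ iota (negOne, negOne) := by
    intro h
    exact hnn ((iota_eq_iff _ _ _ _).mp h).2.symm
  -- reduction to a block diagonal element normalising `SS Q`
  have hred : ∃ A B : SL₂(F), (g = iota (A, B) ∨ g = tt * iota (A, B)) ∧
      ∀ x ∈ SS Q, iota (A, B) * x * (iota (A, B))⁻¹ ∈ SS Q := by
    rcases hclass _ hz1' hz1'c with h | h | h | h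
    · exfalso
      apply hz1ne1
      have : iota (negOne, 1) = g⁻¹ * (g * iota (negOne, 1) * g⁻¹) * g := by group
      rw [this, h]; group
    · exfalso
      apply hz1nen
      have : iota (negOne, 1) = g⁻¹ * (g * iota (negOne, 1) * g⁻¹) * g := by group
      rw [this, h, mul_assoc, ← neg4_central, ← mul_assoc, inv_mul_cancel, one_mul]
    · have hcomm : g * iota (negOne, 1) = iota (negOne, 1) * g := by
        have : g * iota (negOne, 1) = (g * iota (negOne, 1) * g⁻¹) * g := by group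
        rw [this, h]
      obtain ⟨A, B, hAB⟩ := exists_iota_of_comm_z1 h2 g hcomm
      refine ⟨A, B, Or.inl hAB, ?_⟩
      rw [← hAB]
      exact hg
    · have hcomm : (tt * g) * iota (negOne, 1) = iota (negOne, 1) * (tt * g) := by
        have e1 : (tt * g) * iota (negOne, 1) = tt * (g * iota (negOne, 1) * g⁻¹) * g := by group
        rw [e1, h, tt_mul_iota, mul_assoc]
      obtain ⟨A, B, hAB⟩ := exists_iota_of_comm_z1 h2 (tt * g) hcomm
      refine ⟨A, B, Or.inr ?_, ?_⟩
      · rw [← hAB, ← mul_assoc, tt_mul_tt, one_mul]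
      · rw [← hAB]
        intro x hx
        have e1 : tt * g * x * (tt * g)⁻¹ = tt * (g * x * g⁻¹) * tt⁻¹ := by group
        rw [e1]
        exact (SS Q).mul_mem ((SS Q).mul_mem (tt_mem_SS Q) (hg x hx)) ((SS Q).inv_mem (tt_mem_SS Q))
  obtain ⟨A, B, hgAB, hn⟩ := hred
  refine ⟨A, B, ?_, ?_, ?_, hgAB⟩
  · intro X hX
    have h3 := hn (iota (X, 1)) (iota_mem_SS.mpr ⟨hX, one_mem _⟩)
    rw [iota_inv, iota_mul_iota, iota_mul_iota] at h3
    exact (iota_mem_SS.mp h3).1
  · intro X hX
    have h3 := hn (iota (1, X)) (iota_mem_SS.mpr ⟨one_mem _, hX⟩)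
    rw [iota_inv, iota_mul_iota, iota_mul_iota] at h3
    exact (iota_mem_SS.mp h3).2
  · have h3 := hn tt (tt_mem_SS Q)
    rw [iota_inv, mul_assoc, tt_mul_iota, ← mul_assoc, iota_mul_iota] at h3
    exact (iota_mul_tt_mem_SS.mp h3).1

end Cfsg.Agent.Lib.Helper41.Sp4
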