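import Mathlib
import Cfsg.Agent.Lib.Helper41.Sp4SylowN
import Cfsg.Agent.Lib.Helper95.FusionTransport
import Cfsg.Agent.Lib.Helper20.SylModelNum
import Cfsg.Agent.Lib.Helper38.SLCard

set_option autoImplicit false

/-! Passage from `Sp₄(F)` to `PSp₄(F)`: the centre, transport of strong closure and of normalisers
along the quotient map, and the order of a Sylow `2`-subgroup. -/

namespace Cfsg.Agent.Lib.Helper41.Sp4

open Matrix Cfsg.Agent.Lib.Helper41.Torus Cfsg.Agent.Lib.Helper95.Fusion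

section Quot

variable {G : Type*} [Group G] (K : Subgroup G) [K.Normal]

theorem propA_map_mk (S : Subgroup G) (hKS : K ≤ S)
    (h : ∀ T : Subgroup G, T ≤ S → (∃ x ∈ T, x ∉ K) →
      (∀ x ∈ T, ∀ g : G, g * x * g⁻¹ ∈ S → g * x * g⁻¹ ∈ T) → T = S) :
    PropA (S.map (QuotientGroup.mk' K)) := by
  intro T' hT' hne hsc
  have key : S ⊓ T'.comap (QuotientGroup.mk' K) = S := by
    apply h
    · exact inf_le_left
    · obtain ⟨⟨t, ht⟩, ht1⟩ := (Subgroup.ne_bot_iff_exists_ne_one).mp hne
      obtain ⟨s, hs, hst⟩ := Subgroup.mem_map.mp (hT' ht)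
      refine ⟨s, ⟨hs, ?_⟩, ?_⟩
      · show QuotientGroup.mk' K s ∈ T'
        rw [hst]; exact ht
      · intro hsK
        apply ht1
        apply Subtype.ext
        show t = 1
        rw [← hst]
        exact (QuotientGroup.eq_one_iff s).mpr hsK
    · intro x hx g hg
      refine ⟨hg, ?_⟩
      show QuotientGroup.mk' K (g * x * g⁻¹) ∈ T'
      rw [map_mul, map_mul, map_inv]
      apply hsc _ hx.2
      rw [← map_inv, ← map_mul, ← map_mul]
      exact Subgroup.mem_map_of_mem _ hg
  apply le_antisymm hT'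
  intro y hy
  obtain ⟨s, hs, rfl⟩ := Subgroup.mem_map.mp hy
  have : s ∈ S ⊓ T'.comap (QuotientGroup.mk' K) := by rw [key]; exact hs
  exact this.2

theorem conj_mem_of_map (S : Subgroup G) (hKS : K ≤ S) (n : G)
    (h : ∀ x' ∈ S.map (QuotientGroup.mk' K),
      QuotientGroup.mk' K n * x' * (QuotientGroup.mk' K n)⁻¹ ∈ S.map (QuotientGroup.mk' K)) :
    ∀ x ∈ S, n * x * n⁻¹ ∈ S := by
  intro x hx
  have h1 := h _ (Subgroup.mem_map_of_mem _ hx)
  rw [← map_inv, ← map_mul, ← map_mul] at h1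
  obtain ⟨s, hs, hst⟩ := Subgroup.mem_map.mp h1
  have h2 : s⁻¹ * (n * x * n⁻¹) ∈ K := by
    rw [← QuotientGroup.eq_one_iff, ← QuotientGroup.mk'_apply, map_mul, map_inv, hst, inv_mul_cancel]
  have h3 : n * x * n⁻¹ = s * (s⁻¹ * (n * x * n⁻¹)) := by group
  rw [h3]
  exact S.mul_mem hs (hKS h2)

end Quot

variable {F : Type*} [Field F]

local notation "SL₂(" F ")" => Matrix.SpecialLinearGroup (Fin 2) F
local notation "M₂(" F ")" => Matrix (Fin 2) (Fin 2) F
local notation "M₄(" F ")" => Matrix (Fin 2 ⊕ Fin 2) (Fin 2 ⊕ Fin 2) F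
set_option quotPrecheck false in
local notation "Sp₄(" F ")" => ↥(Matrix.symplecticGroup (Fin 2) F)

theorem mem_center_sp4 (h2 : (2 : F) ≠ 0) (z : Sp₄(F)) :
    z ∈ Subgroup.center Sp₄(F) ↔ z = 1 ∨ z = iota (negOne, negOne) := by
  constructor
  · intro hz
    rw [Subgroup.mem_center_iff] at hz
    obtain ⟨A, B, rfl⟩ := exists_iota_of_comm_z1 h2 z (hz _).symm
    have hA : A ∈ Subgroup.center SL₂(F) := by
      rw [Subgroup.mem_center_iff]
      intro X
      have := hz (iota (X, 1))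
      rw [iota_mul_iota, iota_mul_iota, iota_eq_iff] at this
      exact this.1
    have hB : B ∈ Subgroup.center SL₂(F) := by
      rw [Subgroup.mem_center_iff]
      intro X
      have := hz (iota (1, X))
      rw [iota_mul_iota, iota_mul_iota, iota_eq_iff] at this
      exact this.2
    have hAB : A = B := by
      have := hz tt
      rw [tt_mul_iota] at this
      have h3 := mul_right_cancel this
      rw [iota_eq_iff] at h3
      exact h3.2
    subst hAB
    rcases eq_one_or_negOne_of_mem_center hA with h | h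
    · left; rw [h]; exact iota_one
    · right; rw [h]
  · rintro (rfl | rfl)
    · exact Subgroup.one_mem _
    · rw [Subgroup.mem_center_iff]
      intro g
      exact neg4_central g

variable [Fintype F]

theorem center_le_SS (h2 : (2 : F) ≠ 0) (Q : Subgroup SL₂(F)) (hneg : negOne ∈ Q) :
    Subgroup.center Sp₄(F) ≤ SS Q := by
  intro z hz
  rcases (mem_center_sp4 h2 z).mp hz with rfl | rfl
  · exact one_mem _
  · exact iota_mem_SS.mpr ⟨hneg, hneg⟩

/-- the order of a Sylow `2`-subgroup of `SL₂(q)` -/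
theorem card_sylow_SL2 (hodd : Fintype.card F % 2 = 1) (Q : Sylow 2 SL₂(F)) :
    Nat.card Q = 2 ^ padicValNat 2 (Fintype.card F ^ 2 - 1) := by
  rw [Sylow.card_eq_multiplicity, Cfsg.Agent.Lib.Helper38.card_SL2,
    Nat.factorization_def _ Nat.prime_two]
  congr 1
  have hq0 : Fintype.card F ≠ 0 := Fintype.card_ne_zero
  have hq1 : 1 < Fintype.card F := Fintype.one_lt_card
  have hne : Fintype.card F ^ 2 - 1 ≠ 0 := by
    have : 1 < Fintype.card F ^ 2 := Nat.one_lt_pow (by norm_num) hq1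
    omega
  rw [padicValNat.mul hq0 hne]
  have : padicValNat 2 (Fintype.card F) = 0 := by
    apply padicValNat.eq_zero_of_not_dvd
    omega
  rw [this, zero_add]

/-- `(Q × Q) ⟨t⟩` has the order of a Sylow `2`-subgroup of `Sp₄(q)` -/
theorem card_SS_sylow (hodd : Fintype.card F % 2 = 1) (Q : Sylow 2 SL₂(F)) :
    Nat.card (SS (Q : Subgroup SL₂(F))) = 2 ^ (Nat.card Sp₄(F)).factorization 2 := by
  rw [card_SS, card_sylow_SL2 hodd Q,
    Cfsg.Agent.Lib.Helper20.SylModel.factorization_card_symplectic (Nat.odd_iff.mpr hodd) 2]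
  have hT : Cfsg.Agent.Lib.Helper20.SylModel.T2 2 = 1 := by
    rw [Cfsg.Agent.Lib.Helper20.SylModel.T2_succ, Cfsg.Agent.Lib.Helper20.SylModel.T2_one]
    simp
  rw [hT]
  ring

end Cfsg.Agent.Lib.Helper41.Sp4
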