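import Mathlib
import Cfsg.Agent.Lib.Helper41.Sp4Sylow

set_option autoImplicit false

/-! `(Q × Q) ⟨t⟩ ≤ Sp₄(F)` has no proper strongly closed subgroup properly containing the centre. -/

namespace Cfsg.Agent.Lib.Helper41.Sp4

open Matrix Cfsg.Agent.Lib.Helper41.Torus Cfsg.Agent.Lib.Helper41.SL3

variable {F : Type*} [Field F]

local notation "SL₂(" F ")" => Matrix.SpecialLinearGroup (Fin 2) F
local notation "M₂(" F ")" => Matrix (Fin 2) (Fin 2) F
local notation "M₄(" F ")" => Matrix (Fin 2 ⊕ Fin 2) (Fin 2 ⊕ Fin 2) F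
set_option quotPrecheck false in
local notation "Sp₄(" F ")" => ↥(Matrix.symplecticGroup (Fin 2) F)

/-- a `2`-element outside a subgroup `Z` has a power outside `Z` whose square lies in `Z` -/
theorem exists_pow_sq_mem {G : Type*} [Group G] (Z : Subgroup G) :
    ∀ (n : ℕ) (x : G), x ^ (2 ^ n) = 1 → x ∉ Z → ∃ j : ℕ, x ^ (2 ^ j) ∉ Z ∧ x ^ (2 ^ j) * x ^ (2 ^ j) ∈ Z := by
  intro n
  induction n with
  | zero =>
    intro x hx hxZ
    rw [pow_zero, pow_one] at hx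
    rw [hx] at hxZ
    exact absurd Z.one_mem hxZ
  | succ n ih =>
    intro x hx hxZ
    by_cases hsq : x * x ∈ Z
    · exact ⟨0, by simpa using hxZ, by simpa using hsq⟩
    · have h1 : (x * x) ^ (2 ^ n) = 1 := by
        rw [← pow_two, ← pow_mul, ← pow_succ']
        exact hx
      obtain ⟨j, hj1, hj2⟩ := ih (x * x) h1 hsq
      have e : (x * x) ^ (2 ^ j) = x ^ (2 ^ (j + 1)) := by
        rw [← pow_two, ← pow_mul, ← pow_succ']
      rw [e] at hj1 hj2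
      exact ⟨j + 1, hj1, hj2⟩

variable [Fintype F]

/-- elements of square `-1` in `T` spread over all pairs of elements of `Q` of square `-1` -/
theorem iota_mem_of_sq_neg (hodd : Fintype.card F % 2 = 1) (Q : Subgroup SL₂(F))
    (T : Subgroup Sp₄(F))
    (hsc : ∀ x ∈ T, ∀ g : Sp₄(F), g * x * g⁻¹ ∈ SS Q → g * x * g⁻¹ ∈ T)
    {y : Sp₄(F)} (hyT : y ∈ T) (hy : y * y = iota (negOne, negOne))
    {X X' : SL₂(F)} (hX : X ∈ Q) (hX' : X' ∈ Q) (hXsq : X * X = negOne) (hX'sq : X' * X' = negOne) :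
    iota (X, X') ∈ T := by
  have h2 : (2 : F) ≠ 0 := two_ne_zero_of_odd hodd
  obtain ⟨Q₁, A, B, hQ₁, hA, hB⟩ := exists_conj_sq_neg h2 y hy
  obtain ⟨W₁, hW₁⟩ := conj_of_sq_neg hodd hA hXsq
  obtain ⟨W₂, hW₂⟩ := conj_of_sq_neg hodd hB hX'sq
  have e : (iota (W₁, W₂) * Q₁⁻¹) * y * (iota (W₁, W₂) * Q₁⁻¹)⁻¹ = iota (X, X') := by
    have e1 : (iota (W₁, W₂) * Q₁⁻¹) * y * (iota (W₁, W₂) * Q₁⁻¹)⁻¹ =
        iota (W₁, W₂) * (Q₁⁻¹ * y * Q₁) * (iota (W₁, W₂))⁻¹ := by group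
    rw [e1, hQ₁, iota_inv, iota_mul_iota, iota_mul_iota, hW₁, hW₂]
  rw [← e]
  apply hsc y hyT
  rw [e]
  exact iota_mem_SS.mpr ⟨hX, hX'⟩

/-- no proper strongly closed subgroup properly containing the centre -/
theorem propA_SS (hodd : Fintype.card F % 2 = 1) (Q : Subgroup SL₂(F)) (k : ℕ)
    (hcard : Nat.card Q = 2 ^ k) (hneg : negOne ∈ Q)
    (i₀ : SL₂(F)) (hi₀ : i₀ ∈ Q) (hi₀sq : i₀ * i₀ = negOne)
    (hgen : Q ≤ Subgroup.closure {g : SL₂(F) | ∃ x ∈ Q, ∃ x' ∈ Q, x * x = negOne ∧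
      x' * x' = negOne ∧ g = x * x'⁻¹})
    (T : Subgroup Sp₄(F)) (hTS : T ≤ SS Q)
    (hTne : ∃ x ∈ T, x ≠ 1 ∧ x ≠ iota (negOne, negOne))
    (hsc : ∀ x ∈ T, ∀ g : Sp₄(F), g * x * g⁻¹ ∈ SS Q → g * x * g⁻¹ ∈ T) : T = SS Q := by
  classical
  have h2 : (2 : F) ≠ 0 := two_ne_zero_of_odd hodd
  have hneg4 : (iota (negOne, negOne) : Sp₄(F)) * iota (negOne, negOne) = 1 := by
    rw [iota_mul_iota, negOne_mul_negOne, iota_one]
  -- the central subgroup
  let Z : Subgroup Sp₄(F) := Subgroup.zpowers (iota (negOne, negOne))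
  have hZmem : ∀ x : Sp₄(F), x ∈ Z ↔ x = 1 ∨ x = iota (negOne, negOne) := by
    intro x
    constructor
    · rintro ⟨n, rfl⟩
      rcases Int.even_or_odd n with ⟨m, rfl⟩ | ⟨m, rfl⟩
      · left
        show iota (negOne, negOne) ^ (m + m) = (1 : Sp₄(F))
        rw [_root_.zpow_add, ← (Commute.refl (iota (negOne, negOne) : Sp₄(F))).mul_zpow, hneg4, _root_.one_zpow]
      · right
        show iota (negOne, negOne) ^ (2 * m + 1) = (iota (negOne, negOne) : Sp₄(F))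
        rw [_root_.zpow_add, _root_.zpow_one, two_mul, _root_.zpow_add, ← (Commute.refl (iota (negOne, negOne) : Sp₄(F))).mul_zpow, hneg4, _root_.one_zpow, one_mul]
    · rintro (rfl | rfl)
      · exact Z.one_mem
      · exact Subgroup.mem_zpowers _
  -- step 1: an element of `T` outside the centre with square in the centre
  obtain ⟨x, hxT, hx1, hxn⟩ := hTne
  have hxZ : x ∉ Z := by
    rw [hZmem]
    rintro (h | h)
    · exact hx1 h
    · exact hxn h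
  have hxpow : x ^ (2 ^ (k + k + 1)) = 1 := by
    have h1 := pow_card_eq_one' (G := SS Q) (x := ⟨x, hTS hxT⟩)
    rw [card_SS, hcard] at h1
    have h3 : 2 * (2 ^ k * 2 ^ k) = 2 ^ (k + k + 1) := by ring
    rw [h3] at h1
    exact congrArg Subtype.val h1
  obtain ⟨j, hj1, hj2⟩ := exists_pow_sq_mem Z _ x hxpow hxZ
  obtain ⟨y, hy⟩ : ∃ y, y = x ^ (2 ^ j) := ⟨_, rfl⟩
  rw [← hy] at hj1 hj2
  have hyT : y ∈ T := by rw [hy]; exact T.pow_mem hxT _
  have hy1 : y ≠ 1 := fun h => hj1 ((hZmem y).mpr (Or.inl h))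
  have hyn : y ≠ iota (negOne, negOne) := fun h => hj1 ((hZmem y).mpr (Or.inr h))
  -- step 2: `z₁ ∈ T`
  have hz1 : iota (negOne, 1) ∈ T := by
    rcases (hZmem _).mp hj2 with hsq | hsq
    · obtain ⟨Q₁, hQ₁⟩ := exists_conj_z1 h2 y hsq hy1 hyn
      have e : Q₁⁻¹ * y * Q₁⁻¹⁻¹ = iota (negOne, 1) := by rw [inv_inv]; exact hQ₁
      rw [← e]
      apply hsc y hyT
      rw [e]
      exact iota_mem_SS.mpr ⟨hneg, one_mem _⟩
    · have hi₀inv : i₀⁻¹ * i₀⁻¹ = negOne := by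
        rw [← _root_.mul_inv_rev, hi₀sq, negOne_inv]
      have h3 := iota_mem_of_sq_neg hodd Q T hsc hyT hsq hi₀ hi₀ hi₀sq hi₀sq
      have h4 := iota_mem_of_sq_neg hodd Q T hsc hyT hsq hi₀ (inv_mem hi₀) hi₀sq hi₀inv
      have h5 := T.mul_mem h3 h4
      rw [iota_mul_iota, hi₀sq, mul_inv_cancel] at h5
      exact h5
  -- step 3: `t ∈ T`
  have hz1ne1 : (iota (negOne, 1) : Sp₄(F)) ≠ 1 := by
    rw [← iota_one]
    intro h
    exact negOne_ne_one h2 ((iota_eq_iff _ _ _ _).mp h).1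
  have hz1nen : (iota (negOne, 1) : Sp₄(F)) ≠ iota (negOne, negOne) := by
    intro h
    exact negOne_ne_one h2 ((iota_eq_iff _ _ _ _).mp h).2.symm
  have httT : (tt : Sp₄(F)) ∈ T := by
    have htt1 : (tt : Sp₄(F)) ≠ 1 := by
      intro h
      apply tt_not_mem_DD Q
      rw [h]
      exact one_mem _
    have httn : (tt : Sp₄(F)) ≠ iota (negOne, negOne) := by
      intro h
      apply tt_not_mem_DD Q
      rw [h]
      exact iota_mem_DD.mpr ⟨hneg, hneg⟩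
    obtain ⟨Q₂, hQ₂⟩ := exists_conj_z1 h2 tt tt_mul_tt htt1 httn
    have e : Q₂ * iota (negOne, 1) * Q₂⁻¹ = tt := by
      rw [← hQ₂]; group
    rw [← e]
    apply hsc _ hz1
    rw [e]
    exact tt_mem_SS Q
  -- step 4: `(X, X⁻¹) ∈ T`
  have hXinv : ∀ X ∈ Q, iota (X, X⁻¹) ∈ T := by
    intro X hX
    have e : iota (X, 1) * tt * (iota (X, 1))⁻¹ = iota (X, X⁻¹) * tt := by
      rw [iota_inv, mul_assoc, tt_mul_iota, ← mul_assoc, iota_mul_iota, inv_one, one_mul, mul_one]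
    have h3 : iota (X, X⁻¹) * tt ∈ T := by
      rw [← e]
      apply hsc _ httT
      rw [e]
      exact iota_mul_tt_mem_SS.mpr ⟨hX, inv_mem hX⟩
    have h4 := T.mul_mem h3 (T.inv_mem httT)
    rw [mul_assoc, mul_inv_cancel, mul_one] at h4
    exact h4
  have hi₀inv : i₀⁻¹ * i₀⁻¹ = negOne := by
    rw [← _root_.mul_inv_rev, hi₀sq, negOne_inv]
  have hy₀ : iota (i₀, i₀⁻¹) ∈ T := hXinv i₀ hi₀
  have hy₀sq : (iota (i₀, i₀⁻¹) : Sp₄(F)) * iota (i₀, i₀⁻¹) = iota (negOne, negOne) := by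
    rw [iota_mul_iota, hi₀sq, hi₀inv]
  have hpairs : ∀ X ∈ Q, ∀ X' ∈ Q, X * X = negOne → X' * X' = negOne → iota (X, X') ∈ T := by
    intro X hX X' hX' hXsq hX'sq
    exact iota_mem_of_sq_neg hodd Q T hsc hy₀ hy₀sq hX hX' hXsq hX'sq
  -- step 5
  have hL : Q ≤ T.comap (iota.comp (MonoidHom.inl SL₂(F) SL₂(F))) := by
    refine hgen.trans ?_
    rw [Subgroup.closure_le]
    rintro g ⟨X, hX, X', hX', hXsq, hX'sq, rfl⟩
    show iota (X * X'⁻¹, 1) ∈ T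
    have h3 := T.mul_mem (hpairs X hX i₀ hi₀ hXsq hi₀sq) (T.inv_mem (hpairs X' hX' i₀ hi₀ hX'sq hi₀sq))
    rw [iota_inv, iota_mul_iota, mul_inv_cancel] at h3
    exact h3
  have hR : Q ≤ T.comap (iota.comp (MonoidHom.inr SL₂(F) SL₂(F))) := by
    refine hgen.trans ?_
    rw [Subgroup.closure_le]
    rintro g ⟨X, hX, X', hX', hXsq, hX'sq, rfl⟩
    show iota (1, X * X'⁻¹) ∈ T
    have h3 := T.mul_mem (hpairs i₀ hi₀ X hX hi₀sq hXsq) (T.inv_mem (hpairs i₀ hi₀ X' hX' hi₀sq hX'sq))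
    rw [iota_inv, iota_mul_iota, mul_inv_cancel] at h3
    exact h3
  apply le_antisymm hTS
  have hDD : DD Q ≤ T := by
    intro d hd
    obtain ⟨A, hA, B, hB, rfl⟩ := mem_DD.mp hd
    have hA' : iota (A, 1) ∈ T := hL hA
    have hB' : iota (1, B) ∈ T := hR hB
    have := T.mul_mem hA' hB'
    rw [iota_mul_iota, mul_one, one_mul] at this
    exact this
  intro s hs
  rcases mem_SS.mp hs with h | h
  · exact hDD h
  · have := T.mul_mem (hDD h) (T.inv_mem httT)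
    rw [mul_assoc, mul_inv_cancel, mul_one] at this
    exact this

end Cfsg.Agent.Lib.Helper41.Sp4
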