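import Mathlib
import Cfsg.Agent.Lib.Helper41.Sp4Quot
import Cfsg.Agent.Lib.Helper41.Sp4SylowA
import Cfsg.Agent.Lib.Helper41.FusionInner
import Cfsg.Agent.S2431

set_option autoImplicit false

/-! The Sylow `2`-subgroup `(Q × Q) ⟨t⟩ / ⟨-1⟩` of `PSp₄(q)`, `q` odd: it has no proper non-trivial
strongly closed subgroup, and when `Q` is self-normalising in `SL₂(q)` its normaliser induces inner
automorphisms. -/

namespace Cfsg.Agent.Lib.Helper41.Sp4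

open Matrix Cfsg.Agent.Lib.Helper41.Torus Cfsg.Agent.Lib.Helper95.Fusion
  Cfsg.Agent.Lib.Helper41.FusionInner

variable {F : Type*} [Field F] [Fintype F]

local notation "SL₂(" F ")" => Matrix.SpecialLinearGroup (Fin 2) F
local notation "M₂(" F ")" => Matrix (Fin 2) (Fin 2) F
local notation "M₄(" F ")" => Matrix (Fin 2 ⊕ Fin 2) (Fin 2 ⊕ Fin 2) F
set_option quotPrecheck false in
local notation "Sp₄(" F ")" => ↥(Matrix.symplecticGroup (Fin 2) F)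

/-- the facts on a Sylow `2`-subgroup of `SL₂(q)` used below -/
theorem quat_props (hodd : Fintype.card F % 2 = 1) (Q : Sylow 2 SL₂(F)) :
    ∃ k : ℕ, Nat.card Q = 2 ^ k ∧ negOne ∈ Q ∧ (∃ i₀ ∈ Q, i₀ * i₀ = negOne) ∧
      ((Q : Subgroup SL₂(F)) ≤ Subgroup.closure {g : SL₂(F) | ∃ x ∈ Q, ∃ x' ∈ Q,
        x * x = negOne ∧ x' * x' = negOne ∧ g = x * x'⁻¹}) ∧
      (∀ A : SL₂(F), (∀ X ∈ Q, A * X = X * A) → A = 1 ∨ A = negOne) := by
  classical
  have h2 : (2 : F) ≠ 0 := two_ne_zero_of_odd hodd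
  obtain ⟨k, a, b, l, hk1, hcard, ha, hb, hord, hba, hbb, hcover, -, -, -⟩ :=
    Cfsg.Agent.S2431.exists_data hodd Q
  have hz : a ^ 2 ^ k = negOne := by
    have h1 : a ^ 2 ^ k * a ^ 2 ^ k = 1 := by
      rw [← pow_add, ← two_mul, ← hord]
      exact pow_orderOf_eq_one a
    rcases eq_one_or_negOne_of_mul_self h2 h1 with h | h
    · exfalso
      have hlt : 2 ^ k < orderOf a := by
        rw [hord]
        have : 0 < 2 ^ k := by positivity
        omega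
      exact pow_ne_one_of_lt_orderOf (by positivity) hlt h
    · exact h
  have hnegQ : negOne ∈ Q := by
    rw [← hz]
    exact Subgroup.pow_mem _ ha _
  have hbai : ∀ i : ℕ, b * a ^ i = (a⁻¹) ^ i * b := by
    intro i
    have h1 : b * a ^ i * b⁻¹ = (a⁻¹) ^ i := by
      rw [← conj_pow, hba]
    rw [← h1]
    group
  have hsq : ∀ i : ℕ, (b * a ^ i) * (b * a ^ i) = negOne := by
    intro i
    have h1 : (b * a ^ i) * (b * a ^ i) = (a⁻¹) ^ i * (b * b) * a ^ i := by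
      nth_rewrite 1 [hbai i]
      group
    rw [h1, hbb, hz, mul_assoc, ← negOne_comm, ← mul_assoc, inv_pow, inv_mul_cancel, one_mul]
  have hi₀ : a ^ 2 ^ (k - 1) * a ^ 2 ^ (k - 1) = negOne := by
    rw [← pow_add, ← hz]
    congr 1
    obtain ⟨m, rfl⟩ : ∃ m, k = m + 1 := ⟨k - 1, by omega⟩
    rw [Nat.add_sub_cancel, pow_succ]
    ring
  have hcent := (Cfsg.Agent.S2431.result (Nat.odd_iff.mpr hodd) Q).1
  refine ⟨k + 2, ?_, hnegQ, ⟨a ^ 2 ^ (k - 1), Subgroup.pow_mem _ ha _, hi₀⟩, ?_, ?_⟩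
  · rw [hcard, pow_succ, pow_succ]
    ring
  · intro x hx
    apply Subgroup.subset_closure
    rcases hcover x hx with ⟨i, rfl⟩ | ⟨i, rfl⟩
    · refine ⟨b, hb, b * a ^ i, Subgroup.mul_mem _ hb (Subgroup.pow_mem _ ha _), ?_, hsq i, ?_⟩
      · have := hsq 0
        rwa [pow_zero, mul_one] at this
      · have h1 : b * (b * a ^ i)⁻¹ = b * (a ^ i)⁻¹ * b⁻¹ := by group
        rw [h1, ← inv_pow, ← conj_pow]
        have h3 : b * a⁻¹ * b⁻¹ = a := by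
          have : b * a⁻¹ * b⁻¹ = (b * a * b⁻¹)⁻¹ := by group
          rw [this, hba, inv_inv]
        rw [h3]
    · refine ⟨b * a ^ (i + 2 ^ (k - 1)), Subgroup.mul_mem _ hb (Subgroup.pow_mem _ ha _),
        a ^ 2 ^ (k - 1), Subgroup.pow_mem _ ha _, hsq _, hi₀, ?_⟩
      rw [pow_add]
      group
  · intro A hA
    have hAc : A ∈ Subgroup.centralizer ((Q : Subgroup SL₂(F)) : Set SL₂(F)) := by
      rw [Subgroup.mem_centralizer_iff]
      intro X hX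
      exact (hA X hX).symm
    rw [hcent] at hAc
    exact eq_one_or_negOne_of_mem_center hAc

/-- the image of `(Q × Q) ⟨t⟩` in `PSp₄(q)` as a Sylow subgroup -/
noncomputable def sylowPSp (hodd : Fintype.card F % 2 = 1) (Q : Sylow 2 SL₂(F)) :
    Sylow 2 (Cfsg.PSp 2 F) :=
  (Sylow.ofCard (SS (Q : Subgroup SL₂(F))) (card_SS_sylow hodd Q)).mapSurjective
    (QuotientGroup.mk'_surjective (Subgroup.center Sp₄(F)))

theorem coe_sylowPSp (hodd : Fintype.card F % 2 = 1) (Q : Sylow 2 SL₂(F)) :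
    (sylowPSp hodd Q : Subgroup (Cfsg.PSp 2 F)) =
      (SS (Q : Subgroup SL₂(F))).map (QuotientGroup.mk' (Subgroup.center Sp₄(F))) := rfl

theorem propA_sylowPSp (hodd : Fintype.card F % 2 = 1) (Q : Sylow 2 SL₂(F)) :
    PropA (sylowPSp hodd Q : Subgroup (Cfsg.PSp 2 F)) := by
  have h2 : (2 : F) ≠ 0 := two_ne_zero_of_odd hodd
  obtain ⟨k, hcard, hneg, ⟨i₀, hi₀, hi₀sq⟩, hgen, -⟩ := quat_props hodd Q
  rw [coe_sylowPSp]
  apply propA_map_mk _ _ (center_le_SS h2 _ hneg)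
  intro T hTS hT hsc
  apply propA_SS hodd _ k hcard hneg i₀ hi₀ hi₀sq hgen T hTS _ hsc
  obtain ⟨x, hxT, hxc⟩ := hT
  refine ⟨x, hxT, ?_, ?_⟩
  · rintro rfl
    exact hxc (Subgroup.one_mem _)
  · rintro rfl
    exact hxc ((mem_center_sp4 h2 _).mpr (Or.inr rfl))

theorem sylowPSp_ne_bot (hodd : Fintype.card F % 2 = 1) (Q : Sylow 2 SL₂(F)) :
    (sylowPSp hodd Q : Subgroup (Cfsg.PSp 2 F)) ≠ ⊥ := by
  have h2 : (2 : F) ≠ 0 := two_ne_zero_of_odd hodd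
  obtain ⟨k, hcard, hneg, -, -, -⟩ := quat_props hodd Q
  intro hbot
  have h1 : QuotientGroup.mk' (Subgroup.center Sp₄(F)) (iota (negOne, 1)) ∈
      (sylowPSp hodd Q : Subgroup (Cfsg.PSp 2 F)) := by
    rw [coe_sylowPSp]
    exact Subgroup.mem_map_of_mem _ (iota_mem_SS.mpr ⟨hneg, Subgroup.one_mem _⟩)
  rw [hbot, Subgroup.mem_bot, QuotientGroup.mk'_apply, QuotientGroup.eq_one_iff,
    mem_center_sp4 h2] at h1
  have hnn : (negOne : SL₂(F)) ≠ 1 := negOne_ne_one h2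
  rcases h1 with h | h
  · rw [← iota_one, iota_eq_iff] at h
    exact hnn h.1
  · rw [iota_eq_iff] at h
    exact hnn h.2.symm

/-- pull back an element normalising the Sylow subgroup of `PSp₄` -/
theorem exists_rep_normalizing (hodd : Fintype.card F % 2 = 1) (Q : Sylow 2 SL₂(F))
    (n : Cfsg.PSp 2 F)
    (hn : ∀ x ∈ (sylowPSp hodd Q : Subgroup (Cfsg.PSp 2 F)),
      n * x * n⁻¹ ∈ (sylowPSp hodd Q : Subgroup (Cfsg.PSp 2 F))) :
    ∃ A B : SL₂(F), (∀ X ∈ Q, A * X * A⁻¹ ∈ Q) ∧ (∀ X ∈ Q, B * X * B⁻¹ ∈ Q) ∧ A * B⁻¹ ∈ Q ∧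
      (n = QuotientGroup.mk' (Subgroup.center Sp₄(F)) (iota (A, B)) ∨
        n = QuotientGroup.mk' (Subgroup.center Sp₄(F)) (tt * iota (A, B))) := by
  have h2 : (2 : F) ≠ 0 := two_ne_zero_of_odd hodd
  obtain ⟨k, hcard, hneg, ⟨i₀, hi₀, hi₀sq⟩, -, hcent⟩ := quat_props hodd Q
  obtain ⟨ñ, rfl⟩ := QuotientGroup.mk'_surjective (Subgroup.center Sp₄(F)) n
  rw [coe_sylowPSp] at hn
  have h1 := conj_mem_of_map _ _ (center_le_SS h2 _ hneg) ñ hn
  obtain ⟨A, B, hA, hB, hAB, h | h⟩ := normalizer_SS h2 _ hneg i₀ hi₀ hi₀sq hcent ñ h1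
  · exact ⟨A, B, hA, hB, hAB, Or.inl (by rw [h])⟩
  · exact ⟨A, B, hA, hB, hAB, Or.inr (by rw [h])⟩

/-- the case of a self-normalising Sylow `2`-subgroup of `SL₂(q)` -/
theorem isSimple_of_normalizer_eq (hodd : Fintype.card F % 2 = 1) (Q : Sylow 2 SL₂(F))
    (hN : Subgroup.normalizer ((Q : Subgroup SL₂(F)) : Set SL₂(F)) = (Q : Subgroup SL₂(F)))
    (S : Sylow 2 (Cfsg.PSp 2 F)) :
    (Cfsg.groupFusionSystem (S : Subgroup (Cfsg.PSp 2 F))).IsSimple 2 := by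
  have : Fact (Nat.Prime 2) := ⟨Nat.prime_two⟩
  apply isSimple_of_one_inner (sylowPSp hodd Q) (sylowPSp_ne_bot hodd Q) (propA_sylowPSp hodd Q)
    _ S
  intro n hn
  have hmem : ∀ A : SL₂(F), (∀ X ∈ Q, A * X * A⁻¹ ∈ Q) → A ∈ Q := by
    intro A hA
    have : A ∈ Subgroup.normalizer ((Q : Subgroup SL₂(F)) : Set SL₂(F)) := by
      rw [Subgroup.mem_normalizer_iff]
      exact conj_mem_iff_of_finite _ A hA
    rw [hN] at this
    exact this
  obtain ⟨A, B, hA, hB, -, h | h⟩ := exists_rep_normalizing hodd Q n hn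
  · refine ⟨n, ?_, fun x _ => rfl⟩
    rw [h, coe_sylowPSp]
    exact Subgroup.mem_map_of_mem _ (iota_mem_SS.mpr ⟨hmem A hA, hmem B hB⟩)
  · refine ⟨n, ?_, fun x _ => rfl⟩
    rw [h, coe_sylowPSp]
    exact Subgroup.mem_map_of_mem _
      (Subgroup.mul_mem _ (tt_mem_SS _) (iota_mem_SS.mpr ⟨hmem A hA, hmem B hB⟩))

end Cfsg.Agent.Lib.Helper41.Sp4
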