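import Mathlib
import Cfsg.Agent.Lib.Helper41.Sp4Common
import Cfsg.Agent.Lib.Helper20.QuatLift

set_option autoImplicit false

/-! Explicit elements for the case `q ≡ ±3 (mod 8)`: the quaternion group `⟨i, j⟩` in `SL₂(q)`, the
element `c` of order three normalising it, and the element `g = H ⊗ (1 + i)/2` of `Sp₄(q)`. -/

namespace Cfsg.Agent.Lib.Helper41.Sp4

open Matrix Cfsg.Agent.Lib.Helper41 Cfsg.Agent.Lib.Helper41.Torus

variable {F : Type*} [Field F]

local notation "SL₂(" F ")" => Matrix.SpecialLinearGroup (Fin 2) F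
local notation "M₂(" F ")" => Matrix (Fin 2) (Fin 2) F
local notation "M₄(" F ")" => Matrix (Fin 2 ⊕ Fin 2) (Fin 2 ⊕ Fin 2) F
set_option quotPrecheck false in
local notation "Sp₄(" F ")" => ↥(Matrix.symplecticGroup (Fin 2) F)

section Quat

/-- the quaternion `i` -/
def qI (F : Type*) [Field F] : SL₂(F) := mkSL2 0 (-1) 1 0 (by ring)

/-- the quaternion `j` -/
def qJ (a c : F) (hac : a ^ 2 + c ^ 2 = -1) : SL₂(F) :=
  mkSL2 a c c (-a) (by linear_combination -hac)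

/-- the element `(-1 + i + j + k)/2` of order three -/
def qC (a c : F) (hac : a ^ 2 + c ^ 2 = -1) (h2 : (2 : F) ≠ 0) : SL₂(F) :=
  mkSL2 ((-1 + a - c) / 2) ((-1 + a + c) / 2) ((1 + a + c) / 2) ((-1 - a + c) / 2) (by
    field_simp
    linear_combination (-2 : F) * hac)

theorem qI_coe : ((qI F : SL₂(F)) : M₂(F)) = !![0, -1; 1, 0] := rfl

theorem qJ_coe (a c : F) (hac : a ^ 2 + c ^ 2 = -1) :
    ((qJ a c hac : SL₂(F)) : M₂(F)) = !![a, c; c, -a] := rfl

theorem qC_coe (a c : F) (hac : a ^ 2 + c ^ 2 = -1) (h2 : (2 : F) ≠ 0) :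
    ((qC a c hac h2 : SL₂(F)) : M₂(F)) =
      !![(-1 + a - c) / 2, (-1 + a + c) / 2; (1 + a + c) / 2, (-1 - a + c) / 2] := rfl

theorem qI_mul_qI : qI F * qI F = negOne := by
  apply sl2_ext <;>
  simp only [sl2_mul_00, sl2_mul_01, sl2_mul_10, sl2_mul_11, qI, negOne, mkSL2_00, mkSL2_01,
    mkSL2_10, mkSL2_11] <;> ring

theorem qJ_mul_qJ (a c : F) (hac : a ^ 2 + c ^ 2 = -1) : qJ a c hac * qJ a c hac = negOne := by
  apply sl2_ext <;>
  simp only [sl2_mul_00, sl2_mul_01, sl2_mul_10, sl2_mul_11, qJ, negOne, mkSL2_00, mkSL2_01,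
    mkSL2_10, mkSL2_11]
  · linear_combination hac
  · ring
  · ring
  · linear_combination hac

theorem qJ_mul_qI (a c : F) (hac : a ^ 2 + c ^ 2 = -1) :
    qJ a c hac * qI F = negOne * (qI F * qJ a c hac) := by
  apply sl2_ext <;>
  simp only [sl2_mul_00, sl2_mul_01, sl2_mul_10, sl2_mul_11, qI, qJ, negOne, mkSL2_00, mkSL2_01,
    mkSL2_10, mkSL2_11] <;> ring

theorem qC_mul_qI (a c : F) (hac : a ^ 2 + c ^ 2 = -1) (h2 : (2 : F) ≠ 0) :
    qC a c hac h2 * qI F = qI F * qJ a c hac * qC a c hac h2 := by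
  apply sl2_ext <;>
  simp only [sl2_mul_00, sl2_mul_01, sl2_mul_10, sl2_mul_11, qI, qJ, qC, mkSL2_00, mkSL2_01,
    mkSL2_10, mkSL2_11] <;> field_simp <;>
  first
  | linear_combination (1 : F) * hac
  | linear_combination (-1 : F) * hac
  | linear_combination (2 : F) * hac
  | linear_combination (-2 : F) * hac

theorem qC_mul_qJ (a c : F) (hac : a ^ 2 + c ^ 2 = -1) (h2 : (2 : F) ≠ 0) :
    qC a c hac h2 * qJ a c hac = qI F * qC a c hac h2 := by
  apply sl2_ext <;>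
  simp only [sl2_mul_00, sl2_mul_01, sl2_mul_10, sl2_mul_11, qI, qJ, qC, mkSL2_00, mkSL2_01,
    mkSL2_10, mkSL2_11] <;> field_simp <;>
  first
  | linear_combination (1 : F) * hac
  | linear_combination (-1 : F) * hac
  | linear_combination (2 : F) * hac
  | linear_combination (-2 : F) * hac

theorem qC_cube (a c : F) (hac : a ^ 2 + c ^ 2 = -1) (h2 : (2 : F) ≠ 0) :
    qC a c hac h2 * qC a c hac h2 * qC a c hac h2 = 1 := by
  have htr : ((qC a c hac h2 : SL₂(F)) : M₂(F)).trace = -1 := by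
    rw [Matrix.trace_fin_two]
    show qC a c hac h2 0 0 + qC a c hac h2 1 1 = -1
    simp only [qC, mkSL2_00, mkSL2_11]
    field_simp
    ring
  have hM : ((qC a c hac h2 : SL₂(F)) : M₂(F)) * ((qC a c hac h2 : SL₂(F)) : M₂(F)) =
      -((qC a c hac h2 : SL₂(F)) : M₂(F)) - 1 := by
    rw [mat2_sq_eq _ (qC a c hac h2).2, htr, neg_one_smul]
  apply Subtype.ext
  rw [Matrix.SpecialLinearGroup.coe_mul, Matrix.SpecialLinearGroup.coe_mul, hM, sub_mul, one_mul,
    neg_mul, hM, Matrix.SpecialLinearGroup.coe_one]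
  abel

/-- `(1 + i)/2` -/
def qU (F : Type*) [Field F] : M₂(F) := !![1 / 2, -(1 / 2); 1 / 2, 1 / 2]

/-- `(1 - i)/2` -/
def qU' (F : Type*) [Field F] : M₂(F) := !![1 / 2, 1 / 2; -(1 / 2), 1 / 2]

theorem qU_mul_qI : qU F * ((qI F : SL₂(F)) : M₂(F)) = ((qI F : SL₂(F)) : M₂(F)) * qU F := by
  rw [qI_coe, qU, Matrix.mul_fin_two, Matrix.mul_fin_two]
  ext i j
  fin_cases i <;> fin_cases j <;> simp

theorem qU_mul_qJ (a c : F) (hac : a ^ 2 + c ^ 2 = -1) :
    qU F * ((qJ a c hac : SL₂(F)) : M₂(F)) =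
      ((qI F * qJ a c hac : SL₂(F)) : M₂(F)) * qU F := by
  rw [Matrix.SpecialLinearGroup.coe_mul, qI_coe, qJ_coe, qU, Matrix.mul_fin_two,
    Matrix.mul_fin_two, Matrix.mul_fin_two]
  ext i j
  fin_cases i <;> fin_cases j <;> simp <;> ring

theorem qC_qU_qC (a c : F) (hac : a ^ 2 + c ^ 2 = -1) (h2 : (2 : F) ≠ 0) :
    ((qC a c hac h2 : SL₂(F)) : M₂(F)) * qU F * ((qC a c hac h2 : SL₂(F)) : M₂(F)) =
      -((qI F * qJ a c hac : SL₂(F)) : M₂(F)) * qU F := by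
  rw [Matrix.SpecialLinearGroup.coe_mul, qI_coe, qJ_coe, qC_coe, qU, Matrix.mul_fin_two,
    Matrix.mul_fin_two, Matrix.mul_fin_two]
  ext i j
  fin_cases i <;> fin_cases j <;> simp <;> field_simp <;>
  first
  | linear_combination (1 : F) * hac
  | linear_combination (-1 : F) * hac
  | linear_combination (2 : F) * hac
  | linear_combination (-2 : F) * hac
  | linear_combination (4 : F) * hac
  | linear_combination (-4 : F) * hac

theorem qU_mul_qC (a c : F) (hac : a ^ 2 + c ^ 2 = -1) (h2 : (2 : F) ≠ 0) :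
    qU F * ((qC a c hac h2 : SL₂(F)) : M₂(F)) =
      ((qC a c hac h2 * qC a c hac h2 * (negOne * (qI F * qJ a c hac)) : SL₂(F)) : M₂(F)) *
        qU F := by
  have h3 : ((qC a c hac h2 : SL₂(F)) : M₂(F)) * ((qC a c hac h2 : SL₂(F)) : M₂(F)) *
      ((qC a c hac h2 : SL₂(F)) : M₂(F)) = 1 := by
    rw [← Matrix.SpecialLinearGroup.coe_mul, ← Matrix.SpecialLinearGroup.coe_mul, qC_cube,
      Matrix.SpecialLinearGroup.coe_one]
  have h4 := qC_qU_qC a c hac h2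
  calc qU F * ((qC a c hac h2 : SL₂(F)) : M₂(F))
      = ((qC a c hac h2 : SL₂(F)) : M₂(F)) * ((qC a c hac h2 : SL₂(F)) : M₂(F)) *
          (((qC a c hac h2 : SL₂(F)) : M₂(F)) * qU F * ((qC a c hac h2 : SL₂(F)) : M₂(F))) := by
        rw [← mul_assoc, ← mul_assoc, h3, one_mul]
    _ = _ := by
        rw [h4, Matrix.SpecialLinearGroup.coe_mul (qC a c hac h2 * qC a c hac h2),
          Matrix.SpecialLinearGroup.coe_mul (qC a c hac h2),
          Matrix.SpecialLinearGroup.coe_mul negOne, negOne_coe, neg_one_mul]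
        simp only [mul_assoc]

end Quat

section Elements

theorem det_qU (h2 : (2 : F) ≠ 0) : (qU F).det = 1 / 2 := by
  rw [qU, Matrix.det_fin_two_of]
  field_simp
  ring

theorem det_qU' (h2 : (2 : F) ≠ 0) : (qU' F).det = 1 / 2 := by
  rw [qU', Matrix.det_fin_two_of]
  field_simp
  ring

theorem half_add_half (h2 : (2 : F) ≠ 0) : (1 / 2 : F) + 1 / 2 = 1 := by
  field_simp
  norm_num

theorem hadamard_mem (h2 : (2 : F) ≠ 0) (X : M₂(F)) (hX : X.det = 1 / 2) :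
    bm !![X, X; X, -X] ∈ Matrix.symplecticGroup (Fin 2) F := by
  have hh := half_add_half h2
  rw [bm_mem_iff]
  simp only [Matrix.transpose_neg, Matrix.mul_neg, Matrix.neg_mul, neg_neg, mul_J2_transpose, hX]
  refine ⟨?_, ?_, ?_, ?_⟩
  · rw [← add_smul, hh, one_smul]
  · rw [add_neg_cancel]
  · rw [add_neg_cancel]
  · rw [← add_smul, hh, one_smul]

/-- the element `H ⊗ (1 + i)/2` -/
def gT (h2 : (2 : F) ≠ 0) : Sp₄(F) :=
  ⟨bm !![qU F, qU F; qU F, -qU F], hadamard_mem h2 _ (det_qU h2)⟩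

/-- its inverse -/
def gT' (h2 : (2 : F) ≠ 0) : Sp₄(F) :=
  ⟨bm !![qU' F, qU' F; qU' F, -qU' F], hadamard_mem h2 _ (det_qU' h2)⟩

theorem gT_coe (h2 : (2 : F) ≠ 0) :
    ((gT h2 : Sp₄(F)) : M₄(F)) = bm !![qU F, qU F; qU F, -qU F] := rfl

theorem gT'_coe (h2 : (2 : F) ≠ 0) :
    ((gT' h2 : Sp₄(F)) : M₄(F)) = bm !![qU' F, qU' F; qU' F, -qU' F] := rfl

theorem qU_mul_qU' (h2 : (2 : F) ≠ 0) : qU F * qU' F + qU F * qU' F = 1 := by
  rw [qU, qU', Matrix.mul_fin_two]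
  ext i j
  fin_cases i <;> fin_cases j <;> simp <;> field_simp <;> norm_num

theorem gT_mul_gT' (h2 : (2 : F) ≠ 0) : gT h2 * gT' h2 = 1 := by
  apply Subtype.ext
  rw [coe_mul_sp, gT_coe, gT'_coe, coe_one_sp, ← bm_mul, Matrix.mul_fin_two, ← bm_one]
  congr 1
  have h := qU_mul_qU' h2
  simp only [mul_neg, neg_mul, neg_neg, h, add_neg_cancel]
  exact Matrix.one_fin_two.symm

theorem gT_inv (h2 : (2 : F) ≠ 0) : (gT h2)⁻¹ = gT' h2 :=
  inv_eq_of_mul_eq_one_right (gT_mul_gT' h2)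

theorem gT_mul_iota (h2 : (2 : F) ≠ 0) (A B : SL₂(F))
    (h : qU F * (A : M₂(F)) = (B : M₂(F)) * qU F) :
    gT h2 * iota (A, A) = iota (B, B) * gT h2 := by
  apply Subtype.ext
  rw [coe_mul_sp, coe_mul_sp, gT_coe, iota_coe, iota_coe, ← bm_mul, ← bm_mul, Matrix.mul_fin_two,
    Matrix.mul_fin_two]
  congr 1
  simp only [mul_zero, zero_mul, add_zero, zero_add, neg_mul, mul_neg, neg_zero, h]

theorem gT_mul_d (h2 : (2 : F) ≠ 0) : gT h2 * iota (1, negOne) = tt * gT h2 := by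
  apply Subtype.ext
  rw [coe_mul_sp, coe_mul_sp, gT_coe, iota_coe, tt_coe, ← bm_mul, ← bm_mul, Matrix.mul_fin_two,
    Matrix.mul_fin_two, negOne_coe, Matrix.SpecialLinearGroup.coe_one]
  congr 1
  simp only [mul_zero, zero_mul, add_zero, zero_add, neg_mul, mul_neg, mul_one, one_mul, neg_neg,
    neg_zero]

theorem gT_mul_tt (h2 : (2 : F) ≠ 0) : gT h2 * tt = iota (1, negOne) * gT h2 := by
  apply Subtype.ext
  rw [coe_mul_sp, coe_mul_sp, gT_coe, iota_coe, tt_coe, ← bm_mul, ← bm_mul, Matrix.mul_fin_two,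
    Matrix.mul_fin_two, negOne_coe, Matrix.SpecialLinearGroup.coe_one]
  congr 1
  simp only [mul_zero, zero_mul, add_zero, zero_add, neg_mul, mul_neg, mul_one, one_mul, neg_neg,
    neg_zero]

theorem key_M1 (h2 : (2 : F) ≠ 0) :
    iota (qI F, 1) * gT' h2 * iota (qI F, 1) * gT h2 = tt * gT h2 * iota (qI F, 1) := by
  apply Subtype.ext
  rw [coe_mul_sp, coe_mul_sp, coe_mul_sp, coe_mul_sp, coe_mul_sp, gT_coe, gT'_coe, iota_coe, tt_coe,
    ← bm_mul, ← bm_mul, ← bm_mul, ← bm_mul, ← bm_mul, Matrix.SpecialLinearGroup.coe_one, qI_coe]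
  congr 1
  simp only [Matrix.mul_fin_two, mul_zero, zero_mul, add_zero, zero_add, mul_one, one_mul]
  rw [qU, qU']
  ext i j k l
  fin_cases i <;> fin_cases j <;> fin_cases k <;> fin_cases l <;>
    simp [Matrix.mul_apply, Fin.sum_univ_two] <;> field_simp <;> ring

end Elements

end Cfsg.Agent.Lib.Helper41.Sp4
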