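import Mathlib
import Cfsg.Agent.Lib.Helper41.Sp4Q8

set_option autoImplicit false

/-! The explicit quaternion Sylow `2`-subgroup of `SL₂(q)`, `q ≡ ±3 (mod 8)`, and its normaliser. -/

namespace Cfsg.Agent.Lib.Helper41.Sp4

open Matrix Cfsg.Agent.Lib.Helper41 Cfsg.Agent.Lib.Helper41.Torus QuaternionGroup

variable {F : Type*} [Field F]

local notation "SL₂(" F ")" => Matrix.SpecialLinearGroup (Fin 2) F
local notation "M₂(" F ")" => Matrix (Fin 2) (Fin 2) F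
local notation "M₄(" F ")" => Matrix (Fin 2 ⊕ Fin 2) (Fin 2 ⊕ Fin 2) F
set_option quotPrecheck false in
local notation "Sp₄(" F ")" => ↥(Matrix.symplecticGroup (Fin 2) F)

theorem zpow_four_cases {G : Type*} [Group G] (x : G) (h4 : x ^ 4 = 1) (i : ℤ) :
    x ^ i = 1 ∨ x ^ i = x ∨ x ^ i = x ^ 2 ∨ x ^ i = x ^ 3 := by
  have h : x ^ i = x ^ (i % 4) := by
    conv_lhs => rw [← Int.emod_add_mul_ediv i 4]
    rw [_root_.zpow_add, _root_.zpow_mul]
    have : x ^ (4 : ℤ) = 1 := by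
      have := h4
      rw [← _root_.zpow_natCast] at this
      exact this
    rw [this, _root_.one_zpow, mul_one]
  have h0 := Int.emod_nonneg i (by norm_num : (4 : ℤ) ≠ 0)
  have h1 := Int.emod_lt_of_pos i (by norm_num : (0 : ℤ) < 4)
  obtain ⟨r, hr⟩ : ∃ r, r = i % 4 := ⟨_, rfl⟩
  rw [← hr] at h h0 h1
  rw [h]
  interval_cases r
  · left; exact _root_.zpow_zero x
  · right; left; exact _root_.zpow_one x
  · right; right; left; exact _root_.zpow_natCast x 2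
  · right; right; right; exact _root_.zpow_natCast x 3

theorem qI_inv : (qI F)⁻¹ = negOne * qI F := by
  apply inv_eq_of_mul_eq_one_left
  rw [mul_assoc, qI_mul_qI, negOne_mul_negOne]

theorem qJ_conj (a c : F) (hac : a ^ 2 + c ^ 2 = -1) :
    qJ a c hac * qI F * (qJ a c hac)⁻¹ = (qI F)⁻¹ := by
  rw [qJ_mul_qI, qI_inv, mul_assoc, mul_assoc, mul_inv_cancel, mul_one]

theorem qK_mul_qK (a c : F) (hac : a ^ 2 + c ^ 2 = -1) :
    (qI F * qJ a c hac) * (qI F * qJ a c hac) = negOne := by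
  have h1 : (qI F * qJ a c hac) * (qI F * qJ a c hac) =
      qI F * (qJ a c hac * qI F) * qJ a c hac := by group
  have h2 : qI F * (negOne * (qI F * qJ a c hac)) * qJ a c hac =
      negOne * ((qI F * qI F) * (qJ a c hac * qJ a c hac)) := by
    rw [← mul_assoc (qI F) negOne, negOne_comm (qI F)]
    group
  rw [h1, qJ_mul_qI, h2, qI_mul_qI, qJ_mul_qJ, negOne_mul_negOne, mul_one]

section Sylow

variable [Fintype F]

/-- an explicit Sylow `2`-subgroup of `SL₂(q)`, `q ≡ ±3 (mod 8)` -/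
theorem exists_explicit_sylow (hodd : Fintype.card F % 2 = 1)
    (hq : Fintype.card F % 8 = 3 ∨ Fintype.card F % 8 = 5) :
    ∃ (a c : F) (hac : a ^ 2 + c ^ 2 = -1) (Q : Sylow 2 SL₂(F)),
      qI F ∈ Q ∧ qJ a c hac ∈ Q ∧ Nat.card Q = 8 ∧
      ∀ x ∈ Q, ∃ z : SL₂(F), (z = 1 ∨ z = negOne) ∧
        (x = z ∨ x = z * qI F ∨ x = z * qJ a c hac ∨ x = z * (qI F * qJ a c hac)) := by
  classical
  have h2F : (2 : F) ≠ 0 := two_ne_zero_of_odd hodd
  have h4F : (0 : F) ^ 2 ≠ 4 := by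
    intro h
    apply h2F
    have : (2 : F) * 2 = 0 := by linear_combination (-1 : F) * h
    rcases mul_eq_zero.mp this with h | h <;> exact h
  obtain ⟨a, c, hac'⟩ := normUniversal_of_odd hodd 0 h4F (-1) (neg_ne_zero.mpr one_ne_zero)
  have hac : a ^ 2 + c ^ 2 = -1 := by linear_combination hac'
  refine ⟨a, c, hac, ?_⟩
  obtain ⟨I, hI⟩ : ∃ I, I = qI F := ⟨_, rfl⟩
  obtain ⟨J, hJ⟩ : ∃ J, J = qJ a c hac := ⟨_, rfl⟩
  rw [← hI, ← hJ]
  have hII : I * I = negOne := by rw [hI]; exact qI_mul_qI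
  have hJJ : J * J = negOne := by rw [hJ]; exact qJ_mul_qJ a c hac
  have hJI : J * I * J⁻¹ = I⁻¹ := by rw [hI, hJ]; exact qJ_conj a c hac
  have hJI2 : J * I = negOne * (I * J) := by rw [hI, hJ]; exact qJ_mul_qI a c hac
  have hneg1 : (negOne : SL₂(F)) ≠ 1 := negOne_ne_one h2F
  have hnegsq : (negOne : SL₂(F)) * negOne = 1 := negOne_mul_negOne
  have hI2 : I ^ 2 = negOne := by rw [pow_two, hII]
  have hI4 : I ^ (2 * 2) = 1 := by
    rw [pow_mul, hI2, pow_two, hnegsq]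
  have hoI : orderOf I = 2 * 2 := by
    have := orderOf_eq_prime_pow (x := I) (p := 2) (n := 1) (by rw [pow_one, hI2]; exact hneg1)
      (by
        have : (2 : ℕ) ^ (1 + 1) = 2 * 2 := by norm_num
        rw [this]; exact hI4)
    rw [this]; norm_num
  have hJ2 : J * J = I ^ 2 := by rw [hJJ, hI2]
  have hInv_ne : I⁻¹ ≠ I := by
    intro h
    apply hneg1
    rw [← hII]
    nth_rewrite 1 [← h]
    exact inv_mul_cancel I
  have hns : J ∉ Subgroup.zpowers I := by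
    intro hmem
    obtain ⟨j, hj⟩ := Subgroup.mem_zpowers_iff.mp hmem
    have hcomm : J * I = I * J := by
      rw [← hj, ← _root_.zpow_add_one, ← _root_.zpow_one_add, add_comm]
    apply hInv_ne
    rw [← hJI, hcomm, mul_assoc, mul_inv_cancel, mul_one]
  have hφ : Function.Injective (Cfsg.Agent.Lib.Helper20.quatLift J I 2 hI4 hJ2 hJI) :=
    Cfsg.Agent.Lib.Helper20.quatLift_injective J I 2 hoI hJ2 hJI hns
  obtain ⟨Q₀, hQ₀⟩ : ∃ Q₀, Q₀ = (Cfsg.Agent.Lib.Helper20.quatLift J I 2 hI4 hJ2 hJI).range :=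
    ⟨_, rfl⟩
  have hcardQ : Nat.card Q₀ = 8 := by
    rw [hQ₀, Nat.card_congr (MonoidHom.ofInjective hφ).toEquiv.symm, Nat.card_eq_fintype_card,
      QuaternionGroup.card]
  have hfac : (Nat.card SL₂(F)).factorization 2 = 3 := by
    rw [Cfsg.Agent.Lib.Helper38.card_SL2]
    exact Cfsg.Agent.S2431.arith_factorization _ hq
  have hcardQ' : Nat.card Q₀ = 2 ^ (Nat.card SL₂(F)).factorization 2 := by
    rw [hcardQ, hfac]; norm_num
  have hI3 : I ^ 3 = negOne * I := by rw [pow_succ, hI2]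
  have hI4' : I ^ 4 = 1 := hI4
  have hmemQ : ∀ x ∈ Q₀, ∃ z : SL₂(F), (z = 1 ∨ z = negOne) ∧
      (x = z ∨ x = z * I ∨ x = z * J ∨ x = z * (I * J)) := by
    intro x hx
    rw [hQ₀] at hx
    obtain ⟨w, rfl⟩ := hx
    rcases w with i | i
    · rw [Cfsg.Agent.Lib.Helper20.quatLift_a]
      rcases zpow_four_cases I hI4' (i.cast : ℤ) with h | h | h | h <;> rw [h]
      · exact ⟨1, Or.inl rfl, Or.inl rfl⟩
      · exact ⟨1, Or.inl rfl, Or.inr (Or.inl (one_mul _).symm)⟩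
      · exact ⟨negOne, Or.inr rfl, Or.inl hI2⟩
      · exact ⟨negOne, Or.inr rfl, Or.inr (Or.inl hI3)⟩
    · rw [Cfsg.Agent.Lib.Helper20.quatLift_xa]
      rcases zpow_four_cases I hI4' (i.cast : ℤ) with h | h | h | h <;> rw [h]
      · exact ⟨1, Or.inl rfl, Or.inr (Or.inr (Or.inl (by rw [mul_one, one_mul])))⟩
      · exact ⟨negOne, Or.inr rfl, Or.inr (Or.inr (Or.inr hJI2))⟩
      · refine ⟨negOne, Or.inr rfl, Or.inr (Or.inr (Or.inl ?_))⟩
        rw [hI2, negOne_comm]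
      · refine ⟨1, Or.inl rfl, Or.inr (Or.inr (Or.inr ?_))⟩
        rw [hI3, one_mul, ← mul_assoc, negOne_comm, mul_assoc, hJI2, ← mul_assoc, hnegsq, one_mul]
  have hIQ : I ∈ Q₀ := by
    rw [hQ₀]
    refine ⟨QuaternionGroup.a 1, ?_⟩
    rw [Cfsg.Agent.Lib.Helper20.quatLift_a]
    have : I ^ (((1 : ZMod (2 * 2)).cast : ℤ)) = I ^ (1 : ℤ) := by
      apply Cfsg.Agent.Lib.Helper20.zpow_eq_of_cast_eq' (n := 2 * 2) hI4
      simp
    rw [this, _root_.zpow_one]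
  have hJQ : J ∈ Q₀ := by
    rw [hQ₀]
    refine ⟨QuaternionGroup.xa 0, ?_⟩
    rw [Cfsg.Agent.Lib.Helper20.quatLift_xa]
    simp
  exact ⟨Sylow.ofCard Q₀ hcardQ', hIQ, hJQ, hcardQ, hmemQ⟩

end Sylow

end Cfsg.Agent.Lib.Helper41.Sp4
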