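import Mathlib
import Cfsg.Agent.Lib.Helper41.Sp4Q8b

set_option autoImplicit false

/-! The subgroup `R = {(A, ±A)} ⟨t⟩` of `(Q × Q) ⟨t⟩` and elements normalising it. -/

namespace Cfsg.Agent.Lib.Helper41.Sp4

open Matrix Cfsg.Agent.Lib.Helper41 Cfsg.Agent.Lib.Helper41.Torus Cfsg.Agent.Lib.Helper41.SL3

variable {F : Type*} [Field F]

local notation "SL₂(" F ")" => Matrix.SpecialLinearGroup (Fin 2) F
local notation "M₂(" F ")" => Matrix (Fin 2) (Fin 2) F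
local notation "M₄(" F ")" => Matrix (Fin 2 ⊕ Fin 2) (Fin 2 ⊕ Fin 2) F
set_option quotPrecheck false in
local notation "Sp₄(" F ")" => ↥(Matrix.symplecticGroup (Fin 2) F)

/-- pairs of elements of `Q` equal modulo the centre -/
def PD (Q : Subgroup SL₂(F)) : Subgroup (SL₂(F) × SL₂(F)) where
  carrier := {p | p.1 ∈ Q ∧ p.2 ∈ Q ∧ p.1 * p.2⁻¹ ∈ Subgroup.center SL₂(F)}
  one_mem' := ⟨Q.one_mem, Q.one_mem, by
    show (1 : SL₂(F)) * 1⁻¹ ∈ Subgroup.center SL₂(F)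
    rw [inv_one, mul_one]
    exact Subgroup.one_mem _⟩
  mul_mem' := by
    rintro p q ⟨hp1, hp2, hp⟩ ⟨hq1, hq2, hq⟩
    refine ⟨Q.mul_mem hp1 hq1, Q.mul_mem hp2 hq2, ?_⟩
    show p.1 * q.1 * (p.2 * q.2)⁻¹ ∈ Subgroup.center SL₂(F)
    have e : p.1 * q.1 * (p.2 * q.2)⁻¹ = p.1 * (q.1 * q.2⁻¹) * p.2⁻¹ := by group
    rw [e, Subgroup.mem_center_iff.mp hq p.1, mul_assoc]
    exact Subgroup.mul_mem _ hq hp
  inv_mem' := by
    rintro p ⟨hp1, hp2, hp⟩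
    refine ⟨Q.inv_mem hp1, Q.inv_mem hp2, ?_⟩
    show p.1⁻¹ * p.2⁻¹⁻¹ ∈ Subgroup.center SL₂(F)
    have e : p.1⁻¹ * p.2⁻¹⁻¹ = p.1⁻¹ * (p.1 * p.2⁻¹)⁻¹ * p.1 := by group
    have hz := Subgroup.inv_mem _ hp
    rw [e, Subgroup.mem_center_iff.mp hz p.1⁻¹, mul_assoc, inv_mul_cancel, mul_one]
    exact hz

/-- the image of `PD Q` in `Sp₄` -/
def RD (Q : Subgroup SL₂(F)) : Subgroup Sp₄(F) := (PD Q).map iota

theorem mem_RD {Q : Subgroup SL₂(F)} {x : Sp₄(F)} :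
    x ∈ RD Q ↔ ∃ A ∈ Q, ∃ B ∈ Q, A * B⁻¹ ∈ Subgroup.center SL₂(F) ∧ x = iota (A, B) := by
  constructor
  · rintro ⟨⟨A, B⟩, ⟨hA, hB, hAB⟩, rfl⟩
    exact ⟨A, hA, B, hB, hAB, rfl⟩
  · rintro ⟨A, hA, B, hB, hAB, rfl⟩
    exact ⟨(A, B), ⟨hA, hB, hAB⟩, rfl⟩

theorem iota_mem_RD {Q : Subgroup SL₂(F)} {A B : SL₂(F)} :
    iota (A, B) ∈ RD Q ↔ A ∈ Q ∧ B ∈ Q ∧ A * B⁻¹ ∈ Subgroup.center SL₂(F) := by
  rw [mem_RD]
  constructor
  · rintro ⟨A', hA', B', hB', hAB, h⟩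
    rw [iota_eq_iff] at h
    rw [h.1, h.2]
    exact ⟨hA', hB', hAB⟩
  · rintro ⟨hA, hB, hAB⟩
    exact ⟨A, hA, B, hB, hAB, rfl⟩

theorem RD_le_DD (Q : Subgroup SL₂(F)) : RD Q ≤ DD Q := by
  intro x hx
  obtain ⟨A, hA, B, hB, -, rfl⟩ := mem_RD.mp hx
  exact iota_mem_DD.mpr ⟨hA, hB⟩

theorem tt_normalizes_RD (Q : Subgroup SL₂(F)) : ∀ d ∈ RD Q, tt * d * tt⁻¹ ∈ RD Q := by
  intro d hd
  obtain ⟨A, hA, B, hB, hAB, rfl⟩ := mem_RD.mp hd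
  rw [tt_conj_iota]
  refine iota_mem_RD.mpr ⟨hB, hA, ?_⟩
  have e : B * A⁻¹ = (A * B⁻¹)⁻¹ := by group
  rw [e]
  exact Subgroup.inv_mem _ hAB

/-- `R = {(A, ±A)} ⟨t⟩` -/
def RR (Q : Subgroup SL₂(F)) : Subgroup Sp₄(F) := ext2 (RD Q) tt tt_mul_tt (tt_normalizes_RD Q)

theorem mem_RR {Q : Subgroup SL₂(F)} {x : Sp₄(F)} : x ∈ RR Q ↔ x ∈ RD Q ∨ x * tt ∈ RD Q := Iff.rfl

theorem RD_le_RR (Q : Subgroup SL₂(F)) : RD Q ≤ RR Q := fun _ h => Or.inl h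

theorem tt_mem_RR (Q : Subgroup SL₂(F)) : (tt : Sp₄(F)) ∈ RR Q := by
  right
  rw [tt_mul_tt]
  exact one_mem _

theorem RR_le_SS (Q : Subgroup SL₂(F)) : RR Q ≤ SS Q := by
  intro x hx
  rcases mem_RR.mp hx with h | h
  · exact Or.inl (RD_le_DD Q h)
  · exact Or.inr (RD_le_DD Q h)

theorem iota_diag_mem_RR {Q : Subgroup SL₂(F)} {A : SL₂(F)} (hA : A ∈ Q) : iota (A, A) ∈ RR Q := by
  apply RD_le_RR
  refine iota_mem_RD.mpr ⟨hA, hA, ?_⟩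
  rw [mul_inv_cancel]
  exact Subgroup.one_mem _

theorem dd_mem_RR {Q : Subgroup SL₂(F)} (hneg : negOne ∈ Q) : iota (1, negOne) ∈ RR Q := by
  apply RD_le_RR
  refine iota_mem_RD.mpr ⟨Q.one_mem, hneg, ?_⟩
  rw [one_mul, negOne_inv]
  exact negOne_mem_center

section Normalizing

variable [Fintype F]

theorem mem_normalizer_RR (Q : Subgroup SL₂(F)) (n : Sp₄(F))
    (h1 : ∀ r ∈ RD Q, n * r * n⁻¹ ∈ RR Q) (h2 : n * tt * n⁻¹ ∈ RR Q) :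
    n ∈ Subgroup.normalizer ((RR Q : Subgroup Sp₄(F)) : Set Sp₄(F)) := by
  rw [Subgroup.mem_normalizer_iff]
  apply conj_mem_iff_of_finite
  intro r hr
  rcases mem_RR.mp hr with h | h
  · exact h1 r h
  · have e : n * r * n⁻¹ = (n * (r * tt) * n⁻¹) * (n * tt * n⁻¹)⁻¹ := by group
    rw [e]
    exact Subgroup.mul_mem _ (h1 _ h) (Subgroup.inv_mem _ h2)

theorem tt_mem_normalizer_RR (Q : Subgroup SL₂(F)) :
    (tt : Sp₄(F)) ∈ Subgroup.normalizer ((RR Q : Subgroup Sp₄(F)) : Set Sp₄(F)) := by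
  apply mem_normalizer_RR
  · intro r hr
    exact RD_le_RR Q (tt_normalizes_RD Q r hr)
  · rw [mul_inv_cancel_right]
    exact tt_mem_RR Q

theorem tt_comm_diag (X : SL₂(F)) : iota (X, X) * tt * (iota (X, X))⁻¹ = tt := by
  rw [← tt_mul_iota, mul_assoc, mul_inv_cancel, mul_one]

theorem diag_mem_normalizer_RR (Q : Subgroup SL₂(F)) (X : SL₂(F))
    (hX : ∀ A ∈ Q, X * A * X⁻¹ ∈ Q) :
    iota (X, X) ∈ Subgroup.normalizer ((RR Q : Subgroup Sp₄(F)) : Set Sp₄(F)) := by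
  apply mem_normalizer_RR
  · intro r hr
    obtain ⟨A, hA, B, hB, hAB, rfl⟩ := mem_RD.mp hr
    rw [iota_inv, iota_mul_iota, iota_mul_iota]
    apply RD_le_RR
    refine iota_mem_RD.mpr ⟨hX A hA, hX B hB, ?_⟩
    have e : X * A * X⁻¹ * (X * B * X⁻¹)⁻¹ = X * (A * B⁻¹) * X⁻¹ := by group
    rw [e]
    exact (inferInstance : (Subgroup.center SL₂(F)).Normal).conj_mem _ hAB X
  · rw [tt_comm_diag]
    exact tt_mem_RR Q

theorem left_mem_normalizer_RR (Q : Subgroup SL₂(F))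
    (hsq : ∀ A ∈ Q, A * A ∈ Subgroup.center SL₂(F))
    (hcomm : ∀ X ∈ Q, ∀ A ∈ Q, X * A * X⁻¹ * A⁻¹ ∈ Subgroup.center SL₂(F))
    (X : SL₂(F)) (hXQ : X ∈ Q) :
    iota (X, 1) ∈ Subgroup.normalizer ((RR Q : Subgroup Sp₄(F)) : Set Sp₄(F)) := by
  apply mem_normalizer_RR
  · intro r hr
    obtain ⟨A, hA, B, hB, hAB, rfl⟩ := mem_RD.mp hr
    rw [iota_inv, iota_mul_iota, iota_mul_iota]
    apply RD_le_RR
    refine iota_mem_RD.mpr ⟨Q.mul_mem (Q.mul_mem hXQ hA) (Q.inv_mem hXQ), ?_, ?_⟩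
    · rw [one_mul, inv_one, mul_one]
      exact hB
    · have e : X * A * X⁻¹ * (1 * B * 1⁻¹)⁻¹ = (X * A * X⁻¹ * A⁻¹) * (A * B⁻¹) := by group
      rw [e]
      exact Subgroup.mul_mem _ (hcomm X hXQ A hA) hAB
  · have e : iota (X, 1) * tt * (iota (X, 1))⁻¹ = iota (X, X⁻¹) * tt := by
      rw [iota_inv, inv_one, mul_assoc, tt_mul_iota, ← mul_assoc, iota_mul_iota, one_mul, mul_one]
    rw [e]
    right
    rw [mul_assoc, tt_mul_tt, mul_one]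
    refine iota_mem_RD.mpr ⟨hXQ, Q.inv_mem hXQ, ?_⟩
    rw [inv_inv]
    exact hsq X hXQ

theorem SS_le_normalizer_RR (Q : Subgroup SL₂(F))
    (hsq : ∀ A ∈ Q, A * A ∈ Subgroup.center SL₂(F))
    (hcomm : ∀ X ∈ Q, ∀ A ∈ Q, X * A * X⁻¹ * A⁻¹ ∈ Subgroup.center SL₂(F)) :
    SS Q ≤ Subgroup.normalizer ((RR Q : Subgroup Sp₄(F)) : Set Sp₄(F)) := by
  have hD : ∀ s ∈ DD Q, s ∈ Subgroup.normalizer ((RR Q : Subgroup Sp₄(F)) : Set Sp₄(F)) := by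
    intro s hs
    obtain ⟨A, hA, B, hB, rfl⟩ := mem_DD.mp hs
    have e : (iota (A, B) : Sp₄(F)) = iota (A, 1) * (tt * iota (B, 1) * tt⁻¹) := by
      rw [tt_conj_iota, iota_mul_iota, mul_one, one_mul]
    rw [e]
    have hN := Subgroup.normalizer ((RR Q : Subgroup Sp₄(F)) : Set Sp₄(F))
    exact Subgroup.mul_mem _ (left_mem_normalizer_RR Q hsq hcomm A hA)
      (Subgroup.mul_mem _ (Subgroup.mul_mem _ (tt_mem_normalizer_RR Q)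
        (left_mem_normalizer_RR Q hsq hcomm B hB)) (Subgroup.inv_mem _ (tt_mem_normalizer_RR Q)))
  intro s hs
  rcases mem_SS.mp hs with h | h
  · exact hD s h
  · have e : s = (s * tt) * tt⁻¹ := by group
    rw [e]
    exact Subgroup.mul_mem _ (hD _ h) (Subgroup.inv_mem _ (tt_mem_normalizer_RR Q))

/-- commutators lie in the centre when all squares do -/
theorem comm_mem_center_of_sq (Q : Subgroup SL₂(F))
    (hsq : ∀ A ∈ Q, A * A ∈ Subgroup.center SL₂(F)) :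
    ∀ X ∈ Q, ∀ A ∈ Q, X * A * X⁻¹ * A⁻¹ ∈ Subgroup.center SL₂(F) := by
  intro X hX A hA
  have h1 := hsq (X * A) (Q.mul_mem hX hA)
  have h2 := Subgroup.inv_mem _ (hsq X hX)
  have h3 := Subgroup.inv_mem _ (hsq A hA)
  have e : X * A * X⁻¹ * A⁻¹ = (X * A * (X * A)) * ((X * X)⁻¹ * (A * A)⁻¹) := by
    have hc := Subgroup.mem_center_iff.mp h2 A
    calc X * A * X⁻¹ * A⁻¹ = X * A * X * ((X * X)⁻¹ * A) * (A * A)⁻¹ := by group
      _ = X * A * X * (A * (X * X)⁻¹) * (A * A)⁻¹ := by rw [hc]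
      _ = _ := by group
  rw [e]
  exact Subgroup.mul_mem _ h1 (Subgroup.mul_mem _ h2 h3)

theorem diag_normalizes_SS (Q : Subgroup SL₂(F)) (X : SL₂(F))
    (hX : ∀ A ∈ Q, X * A * X⁻¹ ∈ Q) :
    ∀ s ∈ SS Q, iota (X, X) * s * (iota (X, X))⁻¹ ∈ SS Q := by
  intro s hs
  rcases mem_SS.mp hs with h | h
  · obtain ⟨A, hA, B, hB, rfl⟩ := mem_DD.mp h
    rw [iota_inv, iota_mul_iota, iota_mul_iota]
    exact iota_mem_SS.mpr ⟨hX A hA, hX B hB⟩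
  · obtain ⟨A, hA, B, hB, h'⟩ := mem_DD.mp h
    have e : s = iota (A, B) * tt := by rw [← h', mul_assoc, tt_mul_tt, mul_one]
    have e2 : iota (X, X) * s * (iota (X, X))⁻¹ =
        (iota (X, X) * iota (A, B) * (iota (X, X))⁻¹) * (iota (X, X) * tt * (iota (X, X))⁻¹) := by
      rw [e]; group
    rw [e2, tt_comm_diag, iota_inv, iota_mul_iota, iota_mul_iota]
    exact iota_mul_tt_mem_SS.mpr ⟨hX A hA, hX B hB⟩

end Normalizing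

end Cfsg.Agent.Lib.Helper41.Sp4
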