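import Mathlib
import Cfsg.Agent.Lib.Helper41.Sp4Q8c
import Cfsg.Agent.Lib.Helper41.FusionC3T

set_option autoImplicit false

/-! The case `q ≡ ±3 (mod 8)` of the simplicity of the `2`-fusion system of `PSp₄(q)`. -/

namespace Cfsg.Agent.Lib.Helper41.Sp4

open Matrix Cfsg.Agent.Lib.Helper41 Cfsg.Agent.Lib.Helper41.Torus Cfsg.Agent.Lib.Helper41.SL3
  Cfsg.Agent.Lib.Helper95.Fusion

variable {F : Type*} [Field F]

local notation "SL₂(" F ")" => Matrix.SpecialLinearGroup (Fin 2) F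
local notation "M₂(" F ")" => Matrix (Fin 2) (Fin 2) F
local notation "M₄(" F ")" => Matrix (Fin 2 ⊕ Fin 2) (Fin 2 ⊕ Fin 2) F
set_option quotPrecheck false in
local notation "Sp₄(" F ")" => ↥(Matrix.symplecticGroup (Fin 2) F)

/-- the covering hypothesis on the explicit quaternion subgroup -/
def QCover (a c : F) (hac : a ^ 2 + c ^ 2 = -1) (Q : Subgroup SL₂(F)) : Prop :=
  ∀ x ∈ Q, ∃ z : SL₂(F), (z = 1 ∨ z = negOne) ∧
    (x = z ∨ x = z * qI F ∨ x = z * qJ a c hac ∨ x = z * (qI F * qJ a c hac))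

section Cover

variable {a c : F} {hac : a ^ 2 + c ^ 2 = -1} {Q : Subgroup SL₂(F)}

theorem pm_mem_center {z : SL₂(F)} (hz : z = 1 ∨ z = negOne) : z ∈ Subgroup.center SL₂(F) := by
  rcases hz with rfl | rfl
  · exact Subgroup.one_mem _
  · exact negOne_mem_center

theorem pm_sq {z : SL₂(F)} (hz : z = 1 ∨ z = negOne) : z * z = 1 := by
  rcases hz with rfl | rfl
  · exact one_mul 1
  · exact negOne_mul_negOne

theorem negOne_mem_of (hIQ : qI F ∈ Q) : negOne ∈ Q := by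
  rw [← qI_mul_qI]
  exact Q.mul_mem hIQ hIQ

theorem pm_mem (hIQ : qI F ∈ Q) {z : SL₂(F)} (hz : z = 1 ∨ z = negOne) : z ∈ Q := by
  rcases hz with rfl | rfl
  · exact Q.one_mem
  · exact negOne_mem_of hIQ

theorem sq_mem_center_of_cover (hcover : QCover a c hac Q) :
    ∀ A ∈ Q, A * A ∈ Subgroup.center SL₂(F) := by
  intro A hA
  obtain ⟨z, hz, h⟩ := hcover A hA
  have hzc := pm_mem_center hz
  have hzz := pm_sq hz
  have key : ∀ Y : SL₂(F), (z * Y) * (z * Y) = Y * Y := by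
    intro Y
    have e : (z * Y) * (z * Y) = z * (Y * z) * Y := by group
    rw [e, Subgroup.mem_center_iff.mp hzc Y, ← mul_assoc, hzz, one_mul]
  rcases h with rfl | rfl | rfl | rfl
  · rw [hzz]
    exact Subgroup.one_mem _
  · rw [key, qI_mul_qI]
    exact negOne_mem_center
  · rw [key, qJ_mul_qJ]
    exact negOne_mem_center
  · rw [key, qK_mul_qK]
    exact negOne_mem_center

theorem qC_normalizes (h2 : (2 : F) ≠ 0) (hIQ : qI F ∈ Q) (hJQ : qJ a c hac ∈ Q)
    (hcover : QCover a c hac Q) : ∀ A ∈ Q, qC a c hac h2 * A * (qC a c hac h2)⁻¹ ∈ Q := by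
  intro A hA
  obtain ⟨z, hz, h⟩ := hcover A hA
  have hzc := pm_mem_center hz
  have hzQ := pm_mem hIQ hz
  have hCI : qC a c hac h2 * qI F * (qC a c hac h2)⁻¹ = qI F * qJ a c hac :=
    conj_eq_of_mul_eq (qC_mul_qI a c hac h2)
  have hCJ : qC a c hac h2 * qJ a c hac * (qC a c hac h2)⁻¹ = qI F :=
    conj_eq_of_mul_eq (qC_mul_qJ a c hac h2)
  have key : ∀ Y : SL₂(F), qC a c hac h2 * (z * Y) * (qC a c hac h2)⁻¹ =
      z * (qC a c hac h2 * Y * (qC a c hac h2)⁻¹) := by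
    intro Y
    have e : qC a c hac h2 * (z * Y) * (qC a c hac h2)⁻¹ =
        (qC a c hac h2 * z) * Y * (qC a c hac h2)⁻¹ := by group
    rw [e, Subgroup.mem_center_iff.mp hzc (qC a c hac h2)]
    simp only [mul_assoc]
  rcases h with rfl | rfl | rfl | rfl
  · have e : qC a c hac h2 * A * (qC a c hac h2)⁻¹ = A := by
      rw [Subgroup.mem_center_iff.mp hzc (qC a c hac h2), mul_assoc, mul_inv_cancel, mul_one]
    rw [e]
    exact hzQ
  · rw [key, hCI]
    exact Q.mul_mem hzQ (Q.mul_mem hIQ hJQ)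
  · rw [key, hCJ]
    exact Q.mul_mem hzQ hIQ
  · have e : qC a c hac h2 * (qI F * qJ a c hac) * (qC a c hac h2)⁻¹ =
        (qC a c hac h2 * qI F * (qC a c hac h2)⁻¹) *
          (qC a c hac h2 * qJ a c hac * (qC a c hac h2)⁻¹) := by group
    rw [key, e, hCI, hCJ]
    exact Q.mul_mem hzQ (Q.mul_mem (Q.mul_mem hIQ hJQ) hIQ)

theorem qU_cover (hIQ : qI F ∈ Q) (hJQ : qJ a c hac ∈ Q) (hcover : QCover a c hac Q) :
    ∀ A ∈ Q, ∃ A' ∈ Q, qU F * (A : M₂(F)) = (A' : M₂(F)) * qU F := by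
  intro A hA
  obtain ⟨z, hz, h⟩ := hcover A hA
  have hzQ := pm_mem hIQ hz
  have key : ∀ Y Y' : SL₂(F), Y' ∈ Q → qU F * (Y : M₂(F)) = (Y' : M₂(F)) * qU F →
      ∃ A' ∈ Q, qU F * ((z * Y : SL₂(F)) : M₂(F)) = (A' : M₂(F)) * qU F := by
    intro Y Y' hY' hYY'
    refine ⟨z * Y', Q.mul_mem hzQ hY', ?_⟩
    rw [Matrix.SpecialLinearGroup.coe_mul, Matrix.SpecialLinearGroup.coe_mul]
    rcases hz with rfl | rfl
    · rw [Matrix.SpecialLinearGroup.coe_one, one_mul, one_mul, hYY']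
    · rw [negOne_coe, neg_one_mul, neg_one_mul, mul_neg, neg_mul, hYY']
  rcases h with rfl | rfl | rfl | rfl
  · have := key 1 1 Q.one_mem (by
      rw [Matrix.SpecialLinearGroup.coe_one, mul_one, one_mul])
    rwa [mul_one] at this
  · exact key _ _ hIQ qU_mul_qI
  · exact key _ _ (Q.mul_mem hIQ hJQ) (qU_mul_qJ a c hac)
  · apply key _ (qI F * (qI F * qJ a c hac)) (Q.mul_mem hIQ (Q.mul_mem hIQ hJQ))
    rw [Matrix.SpecialLinearGroup.coe_mul (qI F) (qJ a c hac), ← mul_assoc, qU_mul_qI, mul_assoc,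
      qU_mul_qJ, ← mul_assoc, ← Matrix.SpecialLinearGroup.coe_mul]

end Cover

section Fin

variable [Fintype F] {a c : F} {hac : a ^ 2 + c ^ 2 = -1} {Q : Subgroup SL₂(F)}

theorem gT_mem_normalizer_RR (h2 : (2 : F) ≠ 0) (hIQ : qI F ∈ Q) (hJQ : qJ a c hac ∈ Q)
    (hcover : QCover a c hac Q) :
    gT h2 ∈ Subgroup.normalizer ((RR Q : Subgroup Sp₄(F)) : Set Sp₄(F)) := by
  have hneg : negOne ∈ Q := negOne_mem_of hIQ
  have hconj_d : gT h2 * iota (1, negOne) * (gT h2)⁻¹ = tt := by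
    rw [gT_mul_d, mul_assoc, mul_inv_cancel, mul_one]
  have hconj_t : gT h2 * tt * (gT h2)⁻¹ = iota (1, negOne) := by
    rw [gT_mul_tt, mul_assoc, mul_inv_cancel, mul_one]
  apply mem_normalizer_RR
  · intro r hr
    obtain ⟨A, hA, B, hB, hAB, rfl⟩ := mem_RD.mp hr
    obtain ⟨A', hA', hqA⟩ := qU_cover hIQ hJQ hcover A hA
    have hconj_A : gT h2 * iota (A, A) * (gT h2)⁻¹ = iota (A', A') := by
      rw [gT_mul_iota h2 A A' hqA, mul_assoc, mul_inv_cancel, mul_one]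
    rcases eq_one_or_negOne_of_mem_center hAB with h | h
    · have hBA : B = A := by
        have : A = B := by
          calc A = (A * B⁻¹) * B := by group
            _ = B := by rw [h, one_mul]
        exact this.symm
      rw [hBA, hconj_A]
      exact iota_diag_mem_RR hA'
    · have hBA : B = negOne * A := by
        calc B = (A * B⁻¹)⁻¹ * A := by group
          _ = negOne * A := by rw [h, negOne_inv]
      have e : (iota (A, B) : Sp₄(F)) = iota (A, A) * iota (1, negOne) := by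
        rw [iota_mul_iota, mul_one, hBA, negOne_comm]
      have e2 : gT h2 * (iota (A, A) * iota (1, negOne)) * (gT h2)⁻¹ =
          (gT h2 * iota (A, A) * (gT h2)⁻¹) * (gT h2 * iota (1, negOne) * (gT h2)⁻¹) := by group
      rw [e, e2, hconj_A, hconj_d]
      exact Subgroup.mul_mem _ (iota_diag_mem_RR hA') (tt_mem_RR Q)
  · rw [hconj_t]
    exact dd_mem_RR hneg

theorem rel_M1 (h2 : (2 : F) ≠ 0) :
    gT h2 * iota (qI F, 1) * (gT h2)⁻¹ * iota (qI F, 1) *
      (gT h2 * iota (qI F, 1) * (gT h2)⁻¹)⁻¹ = gT h2 * tt := by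
  have key := key_M1 (F := F) h2
  rw [← gT_inv] at key
  have h : gT h2 * iota (qI F, 1) * (gT h2)⁻¹ * iota (qI F, 1) =
      gT h2 * tt * (gT h2 * iota (qI F, 1) * (gT h2)⁻¹) := by
    calc gT h2 * iota (qI F, 1) * (gT h2)⁻¹ * iota (qI F, 1)
        = gT h2 * (iota (qI F, 1) * (gT h2)⁻¹ * iota (qI F, 1) * gT h2) * (gT h2)⁻¹ := by group
      _ = gT h2 * (tt * gT h2 * iota (qI F, 1)) * (gT h2)⁻¹ := by rw [key]
      _ = _ := by group
  rw [h]
  group

theorem rel_M2 (h2 : (2 : F) ≠ 0) :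
    (iota (qC a c hac h2, qC a c hac h2) : Sp₄(F))⁻¹ * gT h2 *
      (iota (qC a c hac h2, qC a c hac h2) : Sp₄(F))⁻¹⁻¹ * (gT h2)⁻¹ =
      iota (qC a c hac h2, qC a c hac h2) *
        iota (negOne * (qI F * qJ a c hac), negOne * (qI F * qJ a c hac)) := by
  have h := gT_mul_iota h2 _ _ (qU_mul_qC a c hac h2)
  have hC3 := qC_cube a c hac h2
  rw [inv_inv]
  calc (iota (qC a c hac h2, qC a c hac h2) : Sp₄(F))⁻¹ * gT h2 *
        iota (qC a c hac h2, qC a c hac h2) * (gT h2)⁻¹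
      = (iota (qC a c hac h2, qC a c hac h2) : Sp₄(F))⁻¹ *
          (gT h2 * iota (qC a c hac h2, qC a c hac h2)) * (gT h2)⁻¹ := by group
    _ = (iota (qC a c hac h2, qC a c hac h2) : Sp₄(F))⁻¹ *
          iota (qC a c hac h2 * qC a c hac h2 * (negOne * (qI F * qJ a c hac)),
            qC a c hac h2 * qC a c hac h2 * (negOne * (qI F * qJ a c hac))) := by
        rw [h]; group
    _ = _ := by
        rw [iota_inv, iota_mul_iota, iota_mul_iota, iota_eq_iff]
        constructor <;> group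

end Fin

section Normalizer

variable [Fintype F] {a c : F} {hac : a ^ 2 + c ^ 2 = -1}

/-- the normaliser of the explicit quaternion Sylow subgroup is `⟨c⟩ Q` -/
theorem normalizer_explicit (hodd : Fintype.card F % 2 = 1)
    (hq : Fintype.card F % 8 = 3 ∨ Fintype.card F % 8 = 5) (Q : Sylow 2 SL₂(F))
    (hIQ : qI F ∈ Q) (hJQ : qJ a c hac ∈ Q) (hcard : Nat.card Q = 8)
    (hcover : QCover a c hac (Q : Subgroup SL₂(F))) (n : SL₂(F))
    (hn : ∀ X ∈ Q, n * X * n⁻¹ ∈ Q) :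
    ∃ j : ℕ, ∃ s ∈ Q, n = qC a c hac (two_ne_zero_of_odd hodd) ^ j * s := by
  classical
  have h2 : (2 : F) ≠ 0 := two_ne_zero_of_odd hodd
  obtain ⟨C, hC⟩ : ∃ C, C = qC a c hac (two_ne_zero_of_odd hodd) := ⟨_, rfl⟩
  rw [← hC]
  have hCQ : ∀ A ∈ Q, C * A * C⁻¹ ∈ Q := by
    rw [hC]
    exact qC_normalizes h2 hIQ hJQ hcover
  have hC3 : C ^ 3 = 1 := by
    rw [hC, pow_succ, pow_two]
    exact qC_cube a c hac _
  have hCI : C * qI F * C⁻¹ = qI F * qJ a c hac := by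
    rw [hC]
    exact conj_eq_of_mul_eq (qC_mul_qI a c hac _)
  obtain ⟨N, hN⟩ : ∃ N, N = Subgroup.normalizer ((Q : Subgroup SL₂(F)) : Set SL₂(F)) := ⟨_, rfl⟩
  have hQN : (Q : Subgroup SL₂(F)) ≤ N := by
    rw [hN]
    exact Subgroup.le_normalizer
  have hmemN : ∀ m : SL₂(F), (∀ X ∈ Q, m * X * m⁻¹ ∈ Q) → m ∈ N := by
    intro m hm
    rw [hN, Subgroup.mem_normalizer_iff]
    exact conj_mem_iff_of_finite _ m hm
  have hCN : C ∈ N := hmemN C hCQ
  have hcardN : Nat.card N = 24 := by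
    have := (Cfsg.Agent.S2431.result (Nat.odd_iff.mpr hodd) Q).2.2 hq
    rw [hN, this, hcard]
  have hnormal : ((Q : Subgroup SL₂(F)).subgroupOf N).Normal := by
    rw [hN]
    exact Subgroup.normal_in_normalizer
  have hidx : Nat.card (N ⧸ (Q : Subgroup SL₂(F)).subgroupOf N) = 3 := by
    have h1 := Subgroup.card_eq_card_quotient_mul_card_subgroup
      ((Q : Subgroup SL₂(F)).subgroupOf N)
    rw [Nat.card_congr (Subgroup.subgroupOfEquivOfLe hQN).toEquiv, hcard, hcardN] at h1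
    omega
  have hp3 : Fact (Nat.Prime 3) := ⟨Nat.prime_three⟩
  have hCnQ : C ∉ Q := by
    intro hCQ'
    have h8 : C ^ 8 = 1 := by
      have := pow_card_eq_one' (G := Q) (x := ⟨C, hCQ'⟩)
      rw [hcard] at this
      exact congrArg Subtype.val this
    have h9 : C ^ 9 = 1 := by
      rw [show (9 : ℕ) = 3 * 3 from rfl, pow_mul, hC3, one_pow]
    have hC1 : C = 1 := by
      calc C = C ^ 9 * (C ^ 8)⁻¹ := by group
        _ = 1 := by rw [h8, h9, inv_one, mul_one]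
    rw [hC1, one_mul, inv_one, mul_one] at hCI
    have hJ1 : qJ a c hac = 1 := by
      have := mul_left_cancel (a := qI F) (b := 1) (c := qJ a c hac) (by rw [mul_one]; exact hCI)
      exact this.symm
    have := qJ_mul_qJ a c hac
    rw [hJ1, one_mul] at this
    exact negOne_ne_one h2 this.symm
  have hgen := zpowers_eq_top_of_prime_card hidx
    (g := (QuotientGroup.mk (⟨C, hCN⟩ : N) : N ⧸ (Q : Subgroup SL₂(F)).subgroupOf N)) (by
      rw [Ne, QuotientGroup.eq_one_iff, Subgroup.mem_subgroupOf]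
      exact hCnQ)
  have hnN := hmemN n hn
  have hmem : (QuotientGroup.mk (⟨n, hnN⟩ : N) : N ⧸ (Q : Subgroup SL₂(F)).subgroupOf N) ∈
      Subgroup.zpowers (QuotientGroup.mk (⟨C, hCN⟩ : N) :
        N ⧸ (Q : Subgroup SL₂(F)).subgroupOf N) := by
    rw [hgen]
    trivial
  obtain ⟨z, hz⟩ := Subgroup.mem_zpowers_iff.mp hmem
  rw [← QuotientGroup.mk_zpow, QuotientGroup.eq, Subgroup.mem_subgroupOf] at hz
  have hz' : (C ^ z)⁻¹ * n ∈ Q := by
    have e : (((⟨C, hCN⟩ : N) ^ z)⁻¹ * (⟨n, hnN⟩ : N) : N).1 = (C ^ z)⁻¹ * n := by simp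
    rw [← e]
    exact hz
  have hfin : IsOfFinOrder C := isOfFinOrder_iff_pow_eq_one.mpr ⟨3, by norm_num, hC3⟩
  have hzp : C ^ z ∈ Submonoid.powers C :=
    hfin.mem_powers_iff_mem_zpowers.mpr ⟨z, rfl⟩
  obtain ⟨j, hj⟩ := hzp
  have hj' : C ^ j = C ^ z := hj
  refine ⟨j, (C ^ z)⁻¹ * n, hz', ?_⟩
  rw [hj']
  group

end Normalizer

end Cfsg.Agent.Lib.Helper41.Sp4
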