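import Mathlib
import Cfsg.Agent.Lib.Helper41.Sp4Q8d

set_option autoImplicit false

/-! The case `q ≡ ±3 (mod 8)` of the simplicity of the `2`-fusion system of `PSp₄(q)`: assembly. -/

namespace Cfsg.Agent.Lib.Helper41.Sp4

open Matrix Cfsg.Agent.Lib.Helper41 Cfsg.Agent.Lib.Helper41.Torus Cfsg.Agent.Lib.Helper41.SL3
  Cfsg.Agent.Lib.Helper95.Fusion

variable {F : Type*} [Field F] [Fintype F]

local notation "SL₂(" F ")" => Matrix.SpecialLinearGroup (Fin 2) F
local notation "M₂(" F ")" => Matrix (Fin 2) (Fin 2) F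
local notation "M₄(" F ")" => Matrix (Fin 2 ⊕ Fin 2) (Fin 2 ⊕ Fin 2) F
set_option quotPrecheck false in
local notation "Sp₄(" F ")" => ↥(Matrix.symplecticGroup (Fin 2) F)

theorem iota_diag_pow (C : SL₂(F)) (j : ℕ) :
    (iota (C, C) : Sp₄(F)) ^ j = iota (C ^ j, C ^ j) := by
  rw [← map_pow, Prod.pow_mk]

theorem isSimple_q8 (hodd : Fintype.card F % 2 = 1)
    (hq : Fintype.card F % 8 = 3 ∨ Fintype.card F % 8 = 5) (S : Sylow 2 (Cfsg.PSp 2 F)) :
    (Cfsg.groupFusionSystem (S : Subgroup (Cfsg.PSp 2 F))).IsSimple 2 := by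
  classical
  have hp2 : Fact (Nat.Prime 2) := ⟨Nat.prime_two⟩
  have h2 : (2 : F) ≠ 0 := two_ne_zero_of_odd hodd
  obtain ⟨a, c, hac, Q, hIQ, hJQ, hcardQ, hcover⟩ := exists_explicit_sylow hodd hq
  have hcov : QCover a c hac (Q : Subgroup SL₂(F)) := hcover
  obtain ⟨π, hπ⟩ : ∃ π, π = QuotientGroup.mk' (Subgroup.center Sp₄(F)) := ⟨_, rfl⟩
  obtain ⟨C, hC⟩ : ∃ C, C = qC a c hac (two_ne_zero_of_odd hodd) := ⟨_, rfl⟩
  have hneg : negOne ∈ Q := negOne_mem_of hIQ
  have hsq := sq_mem_center_of_cover hcov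
  have hcomm := comm_mem_center_of_sq _ hsq
  have hCQ : ∀ A ∈ Q, C * A * C⁻¹ ∈ Q := by
    rw [hC]
    exact qC_normalizes _ hIQ hJQ hcov
  have hCI : C * qI F * C⁻¹ = qI F * qJ a c hac := by
    rw [hC]
    exact conj_eq_of_mul_eq (qC_mul_qI a c hac _)
  have hCN : C ∈ Subgroup.normalizer ((Q : Subgroup SL₂(F)) : Set SL₂(F)) := by
    rw [Subgroup.mem_normalizer_iff]
    exact conj_mem_iff_of_finite _ C hCQ
  have hS0 : (sylowPSp hodd Q : Subgroup (Cfsg.PSp 2 F)) = (SS (Q : Subgroup SL₂(F))).map π := by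
    rw [hπ]
    exact coe_sylowPSp hodd Q
  have hC3 : (iota (C, C) : Sp₄(F)) ^ 3 = 1 := by
    rw [pow_succ, pow_two, iota_mul_iota, iota_mul_iota, hC, qC_cube, iota_one]
  apply Cfsg.Agent.Lib.Helper41.FusionC3.isSimple_of_c3_one (sylowPSp hodd Q) (by norm_num)
    (sylowPSp_ne_bot hodd Q) (propA_sylowPSp hodd Q)
    ((RR (Q : Subgroup SL₂(F))).map π) ?hRS ?hSR (π (iota (C, C))) (π (gT h2))
    (π (iota (qI F, 1))) (π tt)
    (π (iota (negOne * (qI F * qJ a c hac), negOne * (qI F * qJ a c hac))))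
    ?hcS ?hcR ?hc3 ?hgR ?hs1 ?hr1 ?hr2 ?hM1 ?hM2 ?hN ?h3 S
  case hRS =>
    rw [hS0]
    exact Subgroup.map_mono (RR_le_SS _)
  case hSR =>
    rw [hS0]
    exact (Subgroup.map_mono (SS_le_normalizer_RR _ hsq hcomm)).trans
      (Subgroup.le_normalizer_map _)
  case hcS =>
    rw [hS0]
    rintro x ⟨s, hs, rfl⟩
    rw [← map_inv, ← map_mul, ← map_mul]
    exact Subgroup.mem_map_of_mem _ (diag_normalizes_SS _ C hCQ s hs)
  case hcR =>
    exact Subgroup.le_normalizer_map _ (Subgroup.mem_map_of_mem _ (diag_mem_normalizer_RR _ C hCQ))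
  case hc3 =>
    rw [← map_pow, hC3, map_one]
  case hgR =>
    exact Subgroup.le_normalizer_map _
      (Subgroup.mem_map_of_mem _ (gT_mem_normalizer_RR h2 hIQ hJQ hcov))
  case hs1 =>
    rw [hS0]
    exact Subgroup.mem_map_of_mem _ (iota_mem_SS.mpr ⟨hIQ, Subgroup.one_mem _⟩)
  case hr1 =>
    rw [hS0]
    exact Subgroup.mem_map_of_mem _ (tt_mem_SS _)
  case hr2 =>
    rw [hS0]
    have hK : negOne * (qI F * qJ a c hac) ∈ Q :=
      Subgroup.mul_mem _ hneg (Subgroup.mul_mem _ hIQ hJQ)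
    exact Subgroup.mem_map_of_mem _ (iota_mem_SS.mpr ⟨hK, hK⟩)
  case hM1 =>
    have h := congrArg π (rel_M1 (F := F) h2)
    simpa only [map_mul, map_inv] using h
  case hM2 =>
    rw [hC]
    have h := congrArg π (rel_M2 (a := a) (c := c) (hac := hac) h2)
    simpa only [map_mul, map_inv] using h
  case h3 =>
    refine ⟨π (iota (qI F, qI F)), Subgroup.mem_map_of_mem _ (iota_diag_mem_RR hIQ), ?_⟩
    intro h
    rw [← map_inv, ← map_mul, ← map_mul, iota_inv, iota_mul_iota, iota_mul_iota, hCI, hπ] at h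
    have h1 := QuotientGroup.eq.mp h
    rw [mem_center_sp4 h2, iota_inv, iota_mul_iota] at h1
    have e : (qI F * qJ a c hac)⁻¹ * qI F = (qJ a c hac)⁻¹ := by group
    rw [e] at h1
    have hJJ := qJ_mul_qJ a c hac
    have hJ : (qJ a c hac)⁻¹ = 1 ∨ (qJ a c hac)⁻¹ = negOne := by
      rcases h1 with h1 | h1
      · rw [← iota_one, iota_eq_iff] at h1
        exact Or.inl h1.1
      · rw [iota_eq_iff] at h1
        exact Or.inr h1.1
    have hJ1 : (qJ a c hac)⁻¹ * (qJ a c hac)⁻¹ = 1 := pm_sq hJ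
    have : qJ a c hac * qJ a c hac = 1 := by
      have h5 := congrArg (fun x => x⁻¹) hJ1
      simp only [_root_.mul_inv_rev, inv_inv, inv_one] at h5
      exact h5
    rw [hJJ] at this
    exact negOne_ne_one h2 this
  case hN =>
    intro n hn
    obtain ⟨A, B, hA, hB, hAB, h⟩ := exists_rep_normalizing hodd Q n hn
    obtain ⟨j, sA, hsA, hAj⟩ := normalizer_explicit hodd hq Q hIQ hJQ hcardQ hcov A hA
    rw [← hC] at hAj
    have hCjN : (C ^ j)⁻¹ ∈ Subgroup.normalizer ((Q : Subgroup SL₂(F)) : Set SL₂(F)) :=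
      Subgroup.inv_mem _ (Subgroup.pow_mem _ hCN j)
    have hsB : (C ^ j)⁻¹ * B ∈ Q := by
      have e : (C ^ j)⁻¹ * B = ((C ^ j)⁻¹ * (A * B⁻¹)⁻¹ * ((C ^ j)⁻¹)⁻¹) * sA := by
        have : B = (A * B⁻¹)⁻¹ * (C ^ j * sA) := by
          rw [← hAj]
          group
        nth_rewrite 1 [this]
        group
      rw [e]
      exact Subgroup.mul_mem _
        ((Subgroup.mem_normalizer_iff.mp hCjN _).mp (Subgroup.inv_mem _ hAB)) hsA
    have hAB' : (iota (A, B) : Sp₄(F)) = iota (C, C) ^ j * iota (sA, (C ^ j)⁻¹ * B) := by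
      rw [iota_diag_pow, iota_mul_iota, ← hAj, mul_inv_cancel_left]
    rw [hπ] at hS0
    rcases h with h | h
    · refine ⟨j, π (iota (sA, (C ^ j)⁻¹ * B)), ?_, ?_⟩
      · rw [hS0, hπ]
        exact Subgroup.mem_map_of_mem _ (iota_mem_SS.mpr ⟨hsA, hsB⟩)
      · intro x _
        rw [h, hAB', hπ, map_mul, map_pow]
    · refine ⟨j, π (tt * iota (sA, (C ^ j)⁻¹ * B)), ?_, ?_⟩
      · rw [hS0, hπ]
        exact Subgroup.mem_map_of_mem _
          (Subgroup.mul_mem _ (tt_mem_SS _) (iota_mem_SS.mpr ⟨hsA, hsB⟩))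
      · intro x _
        have hcm : (tt : Sp₄(F)) * iota (C, C) ^ j = iota (C, C) ^ j * tt := by
          have : Commute (tt : Sp₄(F)) (iota (C, C)) := tt_mul_iota C C
          exact this.pow_right j
        have e : (tt : Sp₄(F)) * iota (A, B) =
            iota (C, C) ^ j * (tt * iota (sA, (C ^ j)⁻¹ * B)) := by
          rw [hAB', ← mul_assoc, hcm, mul_assoc]
        rw [h, e, hπ, map_mul, map_pow]

end Cfsg.Agent.Lib.Helper41.Sp4
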