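import Mathlib
import Cfsg.Agent.Lib.Helper41.SpBNDefs
import Cfsg.Agent.Lib.Helper41.SpBNCrit
import Cfsg.Agent.Lib.Helper41.SpBNBasic
import Cfsg.Agent.Lib.Helper25.SpBN_RK1L
import Cfsg.Agent.Lib.Helper25.SpBN_RK1S
import Cfsg.Agent.Lib.Helper43.SpBN_DC
import Cfsg.Agent.Lib.Helper43.SpBN_WEYL
import Cfsg.Agent.Lib.Helper55.SpBN_CARDT
import Cfsg.Agent.Lib.Helper55.SpBN_CENTER
import Cfsg.Agent.Lib.Helper75.SpBN_INJ
import Cfsg.Agent.Lib.Helper75.SpBN_SQ
import Cfsg.Agent.Lib.Helper75.SpBN_TOP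
import Cfsg.Agent.Lib.Helper95.SpBN_CONJL
import Cfsg.Agent.Lib.Helper95.SpBN_CONJNE
import Cfsg.Agent.Lib.Helper95.SpBN_CONJS
import Cfsg.Agent.Lib.Helper97.SpBN_GENcore
import Cfsg.Agent.Lib.Helper34.SpBN_FACS
import Cfsg.Agent.Lib.Helper34.SpBN_FACL
import Cfsg.Agent.Lib.Helper34.SpBN_OPP
import Cfsg.Agent.Lib.Helper6.St.Main2
import Cfsg.Agent.Lib.Helper74.Osima5
import Cfsg.Agent.Lib.Helper79.Basic
import Cfsg.Agent.Lib.Helper3.FTBRep
import Cfsg.Agent.Lib.Helper5.SympCenter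
import Cfsg.Agent.S0774
import Cfsg.Agent.S0245
import Cfsg.Agent.S0246

/-! # S2545 hive (helper41): assembly of the (B,N)-pair of `Sp_{2m}(F)` and its Steinberg character

Leaves by helper25 (RK1S, RK1L), helper34 (FACS, FACL, OPP), helper43 (DC, WEYL), helper55 (CARDT, CENTER),
helper75 (TOP, SQ, INJ), helper95 (CONJS, CONJL, CONJNE), helper97 (GEN core), helper41 (the rest). -/

set_option autoImplicit false

namespace Cfsg.Agent.Lib.Helper41.SpBN

open Matrix Cfsg Cfsg.Agent.Lib.Helper13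

variable {F : Type*} [Field F] {m : ℕ}

/-- GEN: `gen_core` (helper97) fed with `weyl_gen` (helper43). -/
theorem closure_S_sup : Subgroup.closure (Ssp F m) ⊔ (Bsp F m ⊓ Nsp F m) = Nsp F m :=
  gen_core weyl_gen

/-! ## Assembly (helper41): compiles from the leaves above -/

theorem mul_mem_union_sp : ∀ s ∈ Ssp F m, ∀ n ∈ Nsp F m, ∀ b ∈ Bsp F m,
    s * b * n ∈ DoubleCoset.doubleCoset (s * n) (Bsp F m : Set (SpG F m)) (Bsp F m) ∪
      DoubleCoset.doubleCoset n (Bsp F m : Set (SpG F m)) (Bsp F m) := by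
  rintro s ⟨σ, hσ, hs⟩ n hn b hb
  rcases hσ with ⟨k, k', hkk, rfl⟩ | ⟨k, hk, rfl⟩
  · have hne : k ≠ k' := by
      intro h
      rw [h] at hkk
      omega
    exact bn_crit (Bsp F m) s n (XS F m k k') (XSm F m k k') (facS hkk hs) (rk1S hkk hs)
      (conjS hne n hn) b hb
  · exact bn_crit (Bsp F m) s n (XL F m k) (XLm F m k) (facL hk hs) (rk1L hk hs) (conjL k n hn) b hb

variable (F m) in
/-- **The (B,N)-pair of `Sp_{2m}(F)`.** -/
def bnPairSp : Cfsg.BNPair (SpG F m) where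
  B := Bsp F m
  N := Nsp F m
  S := Ssp F m
  sup_eq_top := B_sup_N
  conj_mem := T_conj
  subset := S_subset_N
  sq_mem := S_sq_mem
  inj := S_inj
  closure_sup := closure_S_sup
  mul_mem_union := mul_mem_union_sp
  conj_ne := S_conj_ne

theorem T_le_conj {n : SpG F m} (hn : n ∈ Nsp F m) :
    Bsp F m ⊓ Nsp F m ≤ Bsp F m ⊓ (Bsp F m).map (MulAut.conj n).toMonoidHom := by
  intro t ht
  refine Subgroup.mem_inf.mpr ⟨ht.1, ?_⟩
  rw [Subgroup.mem_map]
  refine ⟨n⁻¹ * t * n, ?_, ?_⟩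
  · have := T_conj n⁻¹ ((Nsp F m).inv_mem hn) t ht
    rwa [inv_inv] at this
  · simp only [MulEquiv.coe_toMonoidHom, MulAut.conj_apply]
    group

/-- a central element in `H` has the same number of fixed cosets as `1` (copy of helper42 `fpc_central`) -/
theorem fpc_central' {G : Type*} [Group G] (H : Subgroup G) {z : G} (hz : z ∈ Subgroup.center G)
    (hzH : z ∈ H) : Cfsg.fixedPointCharacter H z = Cfsg.fixedPointCharacter H 1 := by
  unfold Cfsg.fixedPointCharacter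
  have hset : MulAction.fixedBy (G ⧸ H) z = MulAction.fixedBy (G ⧸ H) (1 : G) := by
    ext x
    simp only [MulAction.mem_fixedBy, one_smul, iff_true]
    induction x using QuotientGroup.induction_on with
    | H a =>
      change ((z * a : G) : G ⧸ H) = (a : G ⧸ H)
      rw [QuotientGroup.eq]
      have h1 : z * a = a * z := (Subgroup.mem_center_iff.mp hz a).symm
      rw [h1]
      have : (a * z)⁻¹ * a = z⁻¹ := by group
      rw [this]
      exact H.inv_mem hzH
  rw [hset]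

open Cfsg.Agent.Lib.Helper6 Cfsg.Agent.Lib.Helper6.St in
/-- **The Steinberg character of `Sp_{2m}(F)`**: irreducible, of degree `q^(m^2)`, trivial on the centre. -/
theorem exists_steinberg_sp [Fintype F] (m : ℕ) :
    ∃ χ : SpG F m → ℂ, Cfsg.IsIrrCharacter (SpG F m) χ ∧
      χ 1 = ((Fintype.card F ^ (m ^ 2) : ℕ) : ℂ) ∧
      ∀ z ∈ Subgroup.center (SpG F m), χ z = χ 1 := by
  classical
  haveI : Fintype (SpG F m) := Fintype.ofFinite _
  set P := bnPairSp F m with hP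
  have hfin : (P.S).Finite := Set.toFinite _
  set T : Finset (SpG F m) := hfin.toFinset with hTdef
  have hT : (↑T : Set (SpG F m)) = P.S := hfin.coe_toFinset
  have hq : 2 ≤ Fintype.card F := Fintype.one_lt_card
  have hTpos : 0 < Nat.card (Bsp F m ⊓ Nsp F m : Subgroup (SpG F m)) := Nat.card_pos
  have hJ : SymplecticGroup.symJ (Fin m) F ∈ P.N := symJ_mem_N
  have hmax : ∀ n ∈ P.N, Nat.card (C P n) ≤ Nat.card (C P (SymplecticGroup.symJ (Fin m) F)) := by
    intro n hn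
    have h1 := card_doubleCoset_mul (Bsp F m) n
    have h2 := card_doubleCoset_mul (Bsp F m) (SymplecticGroup.symJ (Fin m) F)
    rw [B_inf_conj_J] at h2
    have h3 : Nat.card (Bsp F m ⊓ Nsp F m : Subgroup (SpG F m)) ≤
        Nat.card (Bsp F m ⊓ (Bsp F m).map (MulAut.conj n).toMonoidHom : Subgroup (SpG F m)) :=
      Subgroup.card_le_of_le (T_le_conj hn)
    have h4 : Nat.card (C P n) * Nat.card (Bsp F m ⊓ Nsp F m : Subgroup (SpG F m)) ≤
        Nat.card (C P (SymplecticGroup.symJ (Fin m) F)) *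
          Nat.card (Bsp F m ⊓ Nsp F m : Subgroup (SpG F m)) := by
      calc Nat.card (C P n) * Nat.card (Bsp F m ⊓ Nsp F m : Subgroup (SpG F m))
          ≤ Nat.card (C P n) *
            Nat.card (Bsp F m ⊓ (Bsp F m).map (MulAut.conj n).toMonoidHom : Subgroup (SpG F m)) :=
            Nat.mul_le_mul_left _ h3
        _ = Nat.card (Bsp F m) * Nat.card (Bsp F m) := h1
        _ = _ := h2.symm
    exact Nat.le_of_mul_le_mul_right h4 hTpos
  refine ⟨stChar P T, isIrrCharacter_stChar P T hT, ?_, ?_⟩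
  · have h := stChar_borel P T hT hJ hmax (1 : P.B)
    rw [Subgroup.coe_one] at h
    rw [h, fixedPointCharacter_one]
    congr 1
    change ((Bsp F m ⊓ (Bsp F m).map
      (MulAut.conj (SymplecticGroup.symJ (Fin m) F)).toMonoidHom).subgroupOf (Bsp F m)).index = _
    rw [B_inf_conj_J]
    have hidx : ((Bsp F m ⊓ Nsp F m).subgroupOf (Bsp F m)).index *
        Nat.card (Bsp F m ⊓ Nsp F m : Subgroup (SpG F m)) = Nat.card (Bsp F m) := by
      have h5 := Subgroup.card_mul_index ((Bsp F m ⊓ Nsp F m).subgroupOf (Bsp F m))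
      rw [Nat.card_congr (Subgroup.subgroupOfEquivOfLe
        (inf_le_left : Bsp F m ⊓ Nsp F m ≤ Bsp F m)).toEquiv] at h5
      rw [mul_comm]
      exact h5
    have hB : Nat.card (Bsp F m) = Fintype.card F ^ (m ^ 2) * (Fintype.card F - 1) ^ m :=
      Cfsg.Agent.S0774.result rfl m
    rw [hB, card_T] at hidx
    have hpos : 0 < (Fintype.card F - 1) ^ m := Nat.pow_pos (by omega)
    exact Nat.eq_of_mul_eq_mul_right hpos hidx
  · intro z hz
    unfold stChar
    apply Finset.sum_congr rfl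
    intro J _
    congr 1
    exact fpc_central' _ hz (le_sup_left (a := P.B) (center_le_B hz))

/-- arithmetic: `p ∤ ∏ (q^(2(i+1)) - 1)` when `p ∣ q` -/
theorem not_dvd_prod_sub_one {p q : ℕ} (hp : p.Prime) (hq0 : 0 < q) (hpq : p ∣ q) (m : ℕ) :
    ¬ p ∣ ∏ i ∈ Finset.range m, (q ^ (2 * (i + 1)) - 1) := by
  intro h
  rw [Prime.dvd_finsetProd_iff (Nat.prime_iff.mp hp)] at h
  obtain ⟨i, -, hi⟩ := h
  have h1 : p ∣ q ^ (2 * (i + 1)) := dvd_pow hpq (by omega)
  have h2 : 1 ≤ q ^ (2 * (i + 1)) := Nat.one_le_pow _ _ hq0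
  have h3 : p ∣ 1 := by
    have := Nat.dvd_sub h1 hi
    rwa [Nat.sub_sub_self h2] at this
  exact hp.one_lt.ne' (Nat.dvd_one.mp h3)

/-- **S2545**: the Steinberg character of `PSp_{2m}(F)`. -/
theorem steinberg_psp [Fintype F] (p : ℕ) [Fact p.Prime] [CharP F p] (m : ℕ) (hm : 1 ≤ m) :
    ∃ χ : Cfsg.PSp m F → ℂ, Cfsg.IsIrrCharacter (Cfsg.PSp m F) χ ∧
      ∀ P : Sylow p (Cfsg.PSp m F), χ 1 = Nat.card P ∧
        ∀ x : Cfsg.PSp m F, x ∈ P → x ≠ 1 → χ x = 0 := by
  classical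
  have hp : p.Prime := Fact.out
  obtain ⟨f, _, hf⟩ := FiniteField.card F p
  obtain ⟨χ, hχ, h1, hz⟩ := exists_steinberg_sp (F := F) m
  obtain ⟨ψ, hψ, hval⟩ := Cfsg.Agent.Lib.Helper79.isIrrCharacter_deflate hχ
    (Subgroup.center (SpG F m)) (fun x hx => hz x hx)
  have hψ1 : ψ 1 = ((Fintype.card F ^ (m ^ 2) : ℕ) : ℂ) := by
    have := hval 1
    rw [QuotientGroup.mk_one] at this
    rw [this, h1]
  obtain ⟨k, hk⟩ := Cfsg.Agent.Lib.Helper3.irr_degree_dvd_card hψ _ hψ1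
  have hpk : ¬ p ∣ k := by
    intro hpk
    have hcard : Nat.card (SpG F m) =
        Nat.card (Subgroup.center (SpG F m)) * Nat.card (Cfsg.PSp m F) :=
      Subgroup.card_eq_card_quotient_mul_card_subgroup _ |>.trans (mul_comm _ _)
    rw [Cfsg.Agent.S0245.result rfl m, hk] at hcard
    have hpos : 0 < Fintype.card F ^ (m ^ 2) := Nat.pow_pos Fintype.card_pos
    have h2 : ∏ i ∈ Finset.range m, (Fintype.card F ^ (2 * (i + 1)) - 1) =
        Nat.card (Subgroup.center (SpG F m)) * k := by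
      apply Nat.eq_of_mul_eq_mul_left hpos
      rw [hcard]
      ring
    apply not_dvd_prod_sub_one hp (q := Fintype.card F) Fintype.card_pos ?_ m
    · rw [h2]
      exact Dvd.dvd.mul_left hpk _
    · rw [hf]
      exact dvd_pow_self p f.ne_zero
  have hcardP : ∀ P : Sylow p (Cfsg.PSp m F), Nat.card P = Fintype.card F ^ (m ^ 2) := by
    intro P
    rw [Sylow.card_eq_multiplicity, hk, hf]
    have hk0 : k ≠ 0 := by
      rintro rfl
      rw [mul_zero] at hk
      exact Nat.card_pos.ne' hk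
    have h1' : (((p : ℕ) ^ (f : ℕ)) ^ (m ^ 2)) ≠ 0 := pow_ne_zero _ (pow_ne_zero _ hp.ne_zero)
    rw [Nat.factorization_mul h1' hk0, Finsupp.add_apply,
      Nat.factorization_eq_zero_of_not_dvd hpk, add_zero, ← pow_mul,
      hp.factorization_pow, Finsupp.single_eq_same]
  refine ⟨ψ, hψ, fun P => ⟨?_, ?_⟩⟩
  · rw [hψ1, hcardP P]
  · intro x hx hx1
    have hdiv : p ∣ orderOf x := by
      obtain ⟨j, hj⟩ := (IsPGroup.iff_orderOf.mp P.isPGroup') ⟨x, hx⟩
      rw [Subgroup.orderOf_mk] at hj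
      rw [hj]
      have hj0 : j ≠ 0 := by
        rintro rfl
        rw [pow_zero, orderOf_eq_one_iff] at hj
        exact hx1 hj
      exact dvd_pow_self p hj0
    exact Cfsg.Agent.Lib.Helper74.irr_vanish_of_defect_zero hp ⟨ψ, hψ⟩ _ k hψ1 hk hpk x hdiv

end Cfsg.Agent.Lib.Helper41.SpBN
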