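import Cfsg.Agent.Lib.Helper41.StnDefs

/-! # Steinberg presentation of `SL_n` (S2401): definitions for the sub-hives SYM / BRU / BINJ (helper41, hive "Stn") -/

set_option autoImplicit false

namespace Cfsg.Agent.Lib.Helper41.Stn

open Matrix

variable {K : Type*} [Field K] {n : ℕ}

/-- the Steinberg symbol (cocycle form): `c_ij(t,u) = h_ij(t) h_ij(u) h_ij(tu)⁻¹` -/
noncomputable def cc (i j : Fin n) (t u : K) : St K n := hh i j t * hh i j u * (hh i j (t * u))⁻¹

/-- `(i, j)` is a simple root: `j = i + 1` -/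
def IsSimp (i j : Fin n) : Prop := j.val = i.val + 1

/-- `U^α`: the subgroup generated by the positive root groups other than `(i, j)` -/
def Ual (K : Type*) [Field K] (n : ℕ) (i j : Fin n) : Subgroup (St K n) :=
  Subgroup.closure {g | ∃ (k l : Fin n) (v : K), k < l ∧ (k, l) ≠ (i, j) ∧ g = xx k l v}

/-- the `m`-th row group: generated by `x_{m j}(t)`, `j > m` -/
def Urow (K : Type*) [Field K] (n : ℕ) (m : ℕ) : Subgroup (St K n) :=
  Subgroup.closure {g | ∃ (k l : Fin n) (v : K), k.val = m ∧ k < l ∧ g = xx k l v}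

/-- generated by the rows `≥ m` -/
def Uge (K : Type*) [Field K] (n : ℕ) (m : ℕ) : Subgroup (St K n) :=
  Subgroup.closure {g | ∃ (k l : Fin n) (v : K), m ≤ k.val ∧ k < l ∧ g = xx k l v}

/-- the double coset union `B N B` as a predicate -/
def InBNB (g : St K n) : Prop := ∃ b ∈ BB K n, ∃ ν ∈ NN K n, ∃ b' ∈ BB K n, g = b * ν * b'

end Cfsg.Agent.Lib.Helper41.Stn
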