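import Cfsg.Agent.Lib.Helper41.StnDefs
import Cfsg.Agent.Lib.Helper88.Stn_PHI
import Cfsg.Agent.Lib.Helper39.Stn_SURJ
import Cfsg.Agent.Lib.Helper88.Stn_BUP
import Cfsg.Agent.Lib.Helper33.Stn_NMON
import Cfsg.Agent.Lib.Helper74.Stn_MAT
import Cfsg.Agent.Lib.Helper38.StnBru_MAIN
import Cfsg.Agent.Lib.Helper64.Stn_NPERM
import Cfsg.Agent.Lib.Helper73.Stn_BINJ

/-! # Steinberg presentation of `SL_n(F_q)`, `n ≥ 3` (S2401): final assembly of the hive "Stn"

`φ : St_n(K) → SL_n(K)` standard; Bruhat decomposition `St = B N B` inside the presented group (helper38's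
sub-hive), `N ∩ φ⁻¹(diagonal) = H` (helper64's sub-hive), `φ` injective on `B` (helper73's sub-hive, using the
multiplicativity of `h_ij` over a finite field, helper99/helper86). -/

set_option autoImplicit false

namespace Cfsg.Agent.Lib.Helper41.Stn

open Matrix

variable {K : Type*} [Field K] {n : ℕ}

theorem std_injective [Finite K] (hn : 3 ≤ n) (φ : St K n →* SpecialLinearGroup (Fin n) K)
    (hφ : IsStd φ) : Function.Injective φ := by
  rw [injective_iff_map_eq_one]
  intro g hg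
  obtain ⟨b, hb, ν, hν, b', hb', rfl⟩ := mem_BNB hn g
  obtain ⟨σ, hσ⟩ := std_NN_monomial φ hφ hν
  have hd := diag_of_upper_monomial (φ b) (φ ν) (φ b') (std_BB_upper φ hφ hb) (std_BB_upper φ hφ hb') σ hσ
    (by simpa using hg)
  have hνH := NN_diag_mem_HH hn φ hφ hν hd
  have hB : b * ν * b' ∈ BB K n :=
    mul_mem (mul_mem hb ((le_sup_right : HH K n ≤ BB K n) hνH)) hb'
  exact std_inj_BB hn φ hφ hB hg

theorem steinberg_presentation [Finite K] (hn : 3 ≤ n) :
    ∃ e : St K n ≃* SpecialLinearGroup (Fin n) K, ∀ (a : Idx n) (t : K),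
      ((e (PresentedGroup.of (a, t)) : SpecialLinearGroup (Fin n) K) : Matrix (Fin n) (Fin n) K) =
        Matrix.transvection a.1.1 a.1.2 t := by
  obtain ⟨φ, hφ⟩ := exists_std (K := K) (n := n)
  refine ⟨MulEquiv.ofBijective φ ⟨std_injective hn φ hφ, std_surjective φ hφ⟩, ?_⟩
  intro a t
  exact hφ a t

end Cfsg.Agent.Lib.Helper41.Stn
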