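import Cfsg.Agent.Lib.Helper86.Stn_SYM

/-! # Stn hive (S2401): alias module.  `hh_mul` (exact skeleton name) lives in `Cfsg.Agent.Lib.Helper86.Stn_SYM`
(proof: helper99, rank-one route); this file only re-imports it, so importing either module (or both) is fine. -/
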