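import Mathlib
import Cfsg.Agent.Lib.Helper20.SuGrp

set_option autoImplicit false

/-! SU-B: an element of `SUJ` that conjugates `UU ⊓ SUJ` into `UU` is upper triangular.
We use the regular unipotent element `(1 + a N) (1 + σ(a) N)⁻¹`, `N` the shift matrix. -/

namespace Cfsg.Agent.Lib.Helper20.SuF

open Matrix Subgroup Cfsg.Agent.Lib.Helper20.PslF

variable {n : ℕ} {K : Type*} [Field K] [Fintype K] (F : Inv K)

/-- the shift matrix -/
def b_N (n : ℕ) (K : Type*) [Field K] : Matrix (Fin n) (Fin n) K :=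
  Matrix.of fun i j => if (i : ℕ) + 1 = (j : ℕ) then 1 else 0

theorem b_N_apply (i j : Fin n) :
    b_N n K i j = if (i : ℕ) + 1 = (j : ℕ) then 1 else 0 := rfl

theorem b_adj_N : adj F (b_N n K) = b_N n K := by
  ext i j
  rw [adj_apply, b_N_apply, b_N_apply]
  have hi := i.2
  have hj := j.2
  have e : ((Fin.rev j : Fin n) : ℕ) + 1 = ((Fin.rev i : Fin n) : ℕ) ↔ (i : ℕ) + 1 = (j : ℕ) := by
    rw [Fin.val_rev, Fin.val_rev]
    omega
  by_cases h : (i : ℕ) + 1 = (j : ℕ)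
  · rw [if_pos h, if_pos (e.mpr h), map_one]
  · rw [if_neg h, if_neg (fun h' => h (e.mp h')), map_zero]

/-- `1 + c N` -/
def b_A (n : ℕ) {K : Type*} [Field K] (c : K) : Matrix (Fin n) (Fin n) K := 1 + c • b_N n K

theorem b_A_apply (c : K) (i j : Fin n) : b_A n c i j =
    (1 : Matrix (Fin n) (Fin n) K) i j + c * (if (i : ℕ) + 1 = (j : ℕ) then 1 else 0) := by
  unfold b_A
  rw [Matrix.add_apply, Matrix.smul_apply, b_N_apply, smul_eq_mul]

theorem b_A_upper (c : K) (i j : Fin n) (h : j < i) : b_A n c i j = 0 := by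
  rw [b_A_apply, Matrix.one_apply_ne (ne_of_gt h), if_neg, mul_zero, add_zero]
  rw [Fin.lt_def] at h
  omega

theorem b_A_diag (c : K) (i : Fin n) : b_A n c i i = 1 := by
  rw [b_A_apply, Matrix.one_apply_eq, if_neg, mul_zero, add_zero]
  omega

theorem b_det_A (c : K) : (b_A n c).det = 1 := by
  rw [Matrix.det_of_upperTriangular]
  · exact Finset.prod_eq_one (fun i _ => b_A_diag c i)
  · intro i j hij
    exact b_A_upper c i j hij

theorem b_A_comm (c d : K) : b_A n c * b_A n d = b_A n d * b_A n c := by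
  unfold b_A
  simp only [mul_add, add_mul, mul_one, one_mul, Matrix.smul_mul, Matrix.mul_smul, smul_smul]
  rw [mul_comm d c]
  abel

theorem b_adj_A (c : K) : adj F (b_A n c) = b_A n (F.sg c) := by
  unfold b_A
  rw [adj_add, adj_one, adj_smul, b_adj_N]

/-- `1 + c N` as an element of `SL_n` -/
def b_Ael (n : ℕ) {K : Type*} [Field K] [Fintype K] (c : K) : SLn n K :=
  mkSL (b_A n c) (b_det_A c)

theorem b_mt_Ael (c : K) : mt (b_Ael n c) = b_A n c := rfl

theorem b_Ael_mem_UU (c : K) : b_Ael n c ∈ (UU : Subgroup (SLn n K)) := by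
  rw [mem_UU]
  exact ⟨fun x y hxy => b_A_upper c x y hxy, fun x => b_A_diag c x⟩

theorem b_Ael_comm (c d : K) : b_Ael n c * b_Ael n d = b_Ael n d * b_Ael n c := by
  apply mt_ext
  rw [mt_mul, mt_mul, b_mt_Ael, b_mt_Ael]
  exact b_A_comm c d

/-- the regular unipotent element -/
def b_u0 (a : K) : SLn n K := b_Ael n a * (b_Ael n (F.sg a))⁻¹

theorem b_u0_mem_UU (a : K) : b_u0 F a ∈ (UU : Subgroup (SLn n K)) :=
  mul_mem (b_Ael_mem_UU a) (inv_mem (b_Ael_mem_UU (F.sg a)))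

theorem b_u0_mem_SUJ (a : K) : (b_u0 F a : SLn n K) ∈ SUJ F := by
  rw [mem_SUJ]
  unfold b_u0
  rw [mt_mul, adj_mul]
  -- adj (mt B⁻¹) = mt A⁻¹
  have h1 : adj F (mt (b_Ael n (F.sg a))⁻¹) * b_A n a = 1 := by
    have e := mt_mul_inv (b_Ael n (F.sg a))
    have e2 := congrArg (adj F) e
    rw [adj_mul, adj_one, b_mt_Ael, b_adj_A, F.invol] at e2
    exact e2
  have h2 : adj F (mt (b_Ael n (F.sg a))⁻¹) = mt (b_Ael n a)⁻¹ := by
    have e3 := mt_mul_inv (b_Ael n a)
    rw [b_mt_Ael] at e3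
    calc adj F (mt (b_Ael n (F.sg a))⁻¹)
        = adj F (mt (b_Ael n (F.sg a))⁻¹) * (b_A n a * mt (b_Ael n a)⁻¹) := by
          rw [e3, Matrix.mul_one]
      _ = mt (b_Ael n a)⁻¹ := by rw [← Matrix.mul_assoc, h1, Matrix.one_mul]
  rw [h2, b_mt_Ael, b_adj_A]
  -- A⁻¹ * B * (A * B⁻¹) = 1
  have h3 : mt (b_Ael n a)⁻¹ * b_A n a = 1 := by
    have := mt_inv_mul (b_Ael n a)
    rwa [b_mt_Ael] at this
  have h4 : b_A n (F.sg a) * mt (b_Ael n (F.sg a))⁻¹ = 1 := by
    have := mt_mul_inv (b_Ael n (F.sg a))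
    rwa [b_mt_Ael] at this
  calc mt (b_Ael n a)⁻¹ * b_A n (F.sg a) * (b_A n a * mt (b_Ael n (F.sg a))⁻¹)
      = mt (b_Ael n a)⁻¹ * (b_A n (F.sg a) * b_A n a) * mt (b_Ael n (F.sg a))⁻¹ := by
        simp only [Matrix.mul_assoc]
    _ = mt (b_Ael n a)⁻¹ * (b_A n a * b_A n (F.sg a)) * mt (b_Ael n (F.sg a))⁻¹ := by
        rw [b_A_comm (F.sg a) a]
    _ = (mt (b_Ael n a)⁻¹ * b_A n a) * (b_A n (F.sg a) * mt (b_Ael n (F.sg a))⁻¹) := by
        simp only [Matrix.mul_assoc]
    _ = 1 := by rw [h3, h4, Matrix.mul_one]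

/-- the column induction -/
theorem b_upper_of_eq {G M : Matrix (Fin n) (Fin n) K} {c d : K} (hc : c ≠ 0)
    (hM : ∀ x y : Fin n, y ≤ x → M x y = 0)
    (h : c • (b_N n K * G) = b_A n d * G * M) :
    ∀ y x : Fin n, y < x → G x y = 0 := by
  have key : ∀ k : ℕ, ∀ y : Fin n, (y : ℕ) = k → ∀ x : Fin n, y < x → G x y = 0 := by
    intro k
    induction k using Nat.strong_induction_on with
    | _ k ih =>
      intro y hy x hyx
      have h1 : ∀ w : Fin n, y ≤ w → (G * M) w y = 0 := by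
        intro w hw
        rw [Matrix.mul_apply]
        apply Finset.sum_eq_zero
        intro z _
        by_cases hz : z < y
        · have hzk : (z : ℕ) < k := by
            rw [← hy]
            exact Fin.lt_def.mp hz
          have h0 : G w z = 0 := ih (z : ℕ) hzk z rfl w (lt_of_lt_of_le hz hw)
          rw [h0, zero_mul]
        · rw [hM z y (not_lt.mp hz), mul_zero]
      have h2 : ∀ x' : Fin n, y ≤ x' → (b_A n d * G * M) x' y = 0 := by
        intro x' hx'
        rw [Matrix.mul_assoc, Matrix.mul_apply]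
        apply Finset.sum_eq_zero
        intro w _
        by_cases hw : w < x'
        · rw [b_A_upper d x' w hw, zero_mul]
        · rw [h1 w (hx'.trans (not_lt.mp hw)), mul_zero]
      have hyx' : (y : ℕ) < (x : ℕ) := Fin.lt_def.mp hyx
      have hx0 : (x : ℕ) - 1 < n := by
        have := x.2
        omega
      have hyx0 : y ≤ (⟨(x : ℕ) - 1, hx0⟩ : Fin n) := by
        rw [Fin.le_def]
        show (y : ℕ) ≤ (x : ℕ) - 1
        omega
      have h3 := congrFun (congrFun h ⟨(x : ℕ) - 1, hx0⟩) y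
      rw [h2 _ hyx0, Matrix.smul_apply, smul_eq_mul] at h3
      have h4 : (b_N n K * G) ⟨(x : ℕ) - 1, hx0⟩ y = G x y := by
        rw [Matrix.mul_apply, Finset.sum_eq_single x]
        · rw [b_N_apply, if_pos, one_mul]
          show (x : ℕ) - 1 + 1 = (x : ℕ)
          omega
        · intro w _ hw
          rw [b_N_apply, if_neg, zero_mul]
          intro hh
          apply hw
          apply Fin.ext
          have hh' : (x : ℕ) - 1 + 1 = (w : ℕ) := hh
          omega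
        · intro hh
          exact absurd (Finset.mem_univ x) hh
      rw [h4] at h3
      exact (mul_eq_zero.mp h3).resolve_left hc
  intro y x hyx
  exact key y y rfl x hyx

theorem normalizer_le_UT {g : SLn n K} (hg : g ∈ SUJ F)
    (h : ∀ u ∈ (UU : Subgroup (SLn n K)), u ∈ SUJ F → g⁻¹ * u * g ∈ (UU : Subgroup (SLn n K))) :
    g ∈ (UT : Subgroup (SLn n K)) := by
  obtain ⟨a, ha⟩ := F.nontriv
  have hu' := h (b_u0 F a) (b_u0_mem_UU F a) (b_u0_mem_SUJ F a)
  have e1 : b_Ael n (F.sg a) * g * (g⁻¹ * b_u0 F a * g) = b_Ael n a * g := by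
    unfold b_u0
    calc b_Ael n (F.sg a) * g * (g⁻¹ * (b_Ael n a * (b_Ael n (F.sg a))⁻¹) * g)
        = (b_Ael n (F.sg a) * b_Ael n a) * (b_Ael n (F.sg a))⁻¹ * g := by group
      _ = (b_Ael n a * b_Ael n (F.sg a)) * (b_Ael n (F.sg a))⁻¹ * g := by
          rw [b_Ael_comm (F.sg a) a]
      _ = b_Ael n a * g := by group
  have e2 : b_A n (F.sg a) * mt g * mt (g⁻¹ * b_u0 F a * g) = b_A n a * mt g := by
    have e := congrArg (Cfsg.Agent.Lib.Helper20.PslF.mt) e1
    rw [mt_mul (b_Ael n (F.sg a) * g), mt_mul (b_Ael n (F.sg a)) g, mt_mul (b_Ael n a) g,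
      b_mt_Ael, b_mt_Ael] at e
    exact e
  rw [mem_UT]
  intro x y hyx
  apply b_upper_of_eq (c := a - F.sg a) (d := F.sg a) (M := mt (g⁻¹ * b_u0 F a * g) - 1)
    (sub_ne_zero.mpr (fun hh => ha hh.symm)) ?_ ?_ y x hyx
  · intro x y hyx
    rw [Matrix.sub_apply]
    rcases lt_or_eq_of_le hyx with h1 | h1
    · rw [((mem_UU _).mp hu').1 x y h1, Matrix.one_apply_ne (ne_of_gt h1), sub_zero]
    · rw [h1, ((mem_UU _).mp hu').2 x, Matrix.one_apply_eq, sub_self]
  · rw [Matrix.mul_sub, Matrix.mul_one, e2]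
    unfold b_A
    rw [Matrix.add_mul, Matrix.add_mul, Matrix.one_mul, Matrix.smul_mul, Matrix.smul_mul,
      sub_smul]
    abel

end Cfsg.Agent.Lib.Helper20.SuF
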